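import Mathlib
import Cfsg.Prelude.Def_Involutions
import Cfsg.Agent.PGroups.Basic
import Cfsg.Agent.H90.Basic

/-!
# Groups acting with bounded fixity: fixed sets, kernels on fixed sets

Basic facts about the fixed sets of elements and the subgroups stabilising or fixing them.
-/

set_option autoImplicit false
set_option linter.unusedSectionVars false
set_option linter.style.haveILetI false

namespace Cfsg.Agent.H19.Fixity

open MulAction Subgroup
open scoped Pointwise

variable {G Ω : Type*} [Group G] [MulAction G Ω]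

theorem fixedBy_conj' (g x : G) : fixedBy Ω (g * x * g⁻¹) = g • fixedBy Ω x :=
  (smul_fixedBy Ω x g).symm

theorem fixedBy_inv_conj (g x : G) : fixedBy Ω (g⁻¹ * x * g) = g⁻¹ • fixedBy Ω x := by
  simpa using fixedBy_conj' (Ω := Ω) g⁻¹ x

theorem mem_stab_of_commute {g x : G} (h : g * x = x * g) :
    g ∈ stabilizer G (fixedBy Ω x) := by
  rw [mem_stabilizer_iff, ← fixedBy_conj', h, mul_inv_cancel_right]

theorem mem_stab_of_conj_inv {g x : G} (h : g * x * g⁻¹ = x⁻¹) :
    g ∈ stabilizer G (fixedBy Ω x) := by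
  rw [mem_stabilizer_iff, ← fixedBy_conj', h, fixedBy_inv]

theorem self_mem_stab (x : G) : x ∈ stabilizer G (fixedBy Ω x) :=
  mem_stab_of_commute rfl

theorem ncard_fixedBy_conj (g x : G) :
    (fixedBy Ω (g * x * g⁻¹)).ncard = (fixedBy Ω x).ncard := by
  rw [fixedBy_conj', Set.ncard_smul_set]

theorem mem_pw_iff {F : Set Ω} {g : G} :
    g ∈ fixingSubgroup G F ↔ F ⊆ fixedBy Ω g := mem_fixingSubgroup_iff_subset_fixedBy G

theorem pw_le_stab (F : Set Ω) : fixingSubgroup G F ≤ stabilizer G F := by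
  intro g hg
  rw [mem_fixingSubgroup_iff] at hg
  rw [mem_stabilizer_iff]
  ext a
  constructor
  · rintro ⟨b, hb, rfl⟩; show g • b ∈ F; rwa [hg b hb]
  · intro ha; exact ⟨a, ha, hg a ha⟩

theorem self_mem_pw (x : G) : x ∈ fixingSubgroup G (fixedBy Ω x) := mem_pw_iff.2 subset_rfl

theorem conj_mem_pw {g x : G} {F : Set Ω} :
    g * x * g⁻¹ ∈ fixingSubgroup G (g • F) ↔ x ∈ fixingSubgroup G F := by
  rw [mem_pw_iff, mem_pw_iff, fixedBy_conj', Set.smul_set_subset_smul_set_iff]

theorem conj_mem_pw_of_stab {g x : G} {F : Set Ω} (hg : g ∈ stabilizer G F)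
    (hx : x ∈ fixingSubgroup G F) : g * x * g⁻¹ ∈ fixingSubgroup G F := by
  have := (conj_mem_pw (g := g)).2 hx
  rwa [mem_stabilizer_iff.1 hg] at this

/-- The action of the stabiliser of a set on that set. -/
def img (F : Set Ω) : stabilizer G F →* Equiv.Perm F := MulAction.toPermHom (stabilizer G F) F

theorem img_apply {F : Set Ω} (g : stabilizer G F) (a : F) :
    ((img F g a : F) : Ω) = (g : G) • (a : Ω) := rfl

theorem img_eq_one_iff {F : Set Ω} {g : stabilizer G F} :
    img F g = 1 ↔ (g : G) ∈ fixingSubgroup G F := by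
  rw [mem_fixingSubgroup_iff]
  constructor
  · intro h a ha
    have := congrArg (fun σ : Equiv.Perm F => ((σ ⟨a, ha⟩ : F) : Ω)) h
    simpa [img_apply] using this
  · intro h
    ext a
    rw [img_apply]
    exact h a a.2

/-- A `p`-subgroup of the stabiliser of a finite set is the kernel times a power of `p` dividing the
factorial of the size of the set. -/
theorem card_eq_kernel_mul {p : ℕ} [Fact p.Prime] [Finite G] {F : Set Ω} (hF : F.Finite)
    {U : Subgroup G} (hU : IsPGroup p U) (hUF : U ≤ stabilizer G F) :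
    ∃ i : ℕ, Nat.card U = Nat.card ↥(U ⊓ fixingSubgroup G F) * p ^ i ∧
      p ^ i ∣ (F.ncard).factorial := by
  classical
  haveI := hF.to_subtype
  haveI : Fintype F := Fintype.ofFinite F
  let φ : U →* Equiv.Perm F := (img F).comp (Subgroup.inclusion hUF)
  have hk : φ.ker.map U.subtype = U ⊓ fixingSubgroup G F := by
    ext g
    constructor
    · rintro ⟨u, hu, rfl⟩
      exact ⟨u.2, img_eq_one_iff.1 hu⟩
    · rintro ⟨hg, hg'⟩
      exact ⟨⟨g, hg⟩, img_eq_one_iff.2 hg', rfl⟩
  obtain ⟨i, hi⟩ := (IsPGroup.iff_card (p := p)).1 (hU.of_surjective φ.rangeRestrict φ.rangeRestrict_surjective)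
  refine ⟨i, ?_, ?_⟩
  · rw [← hk, card_map_of_injective U.subtype_injective, ← hi, ← Subgroup.index_ker,
      Subgroup.card_mul_index]
  · rw [← hi, ← Nat.card_coe_set_eq, ← Nat.card_perm]
    exact Subgroup.card_subgroup_dvd_card φ.range

theorem exists_conj_mem_sylow {p : ℕ} [Fact p.Prime] [Finite G] {M : Subgroup G} (P : Sylow p G)
    (hP : (P : Subgroup G) ≤ M) {U : Subgroup G} (hU : IsPGroup p U) (hUM : U ≤ M) :
    ∃ m ∈ M, ∀ x ∈ U, m * x * m⁻¹ ∈ (P : Subgroup G) := by
  let P' : Sylow p M := P.subtype hP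
  obtain ⟨Q, hQ⟩ := (hU.comap_subtype (K := M)).exists_le_sylow
  obtain ⟨m, hm⟩ := exists_smul_eq M Q P'
  refine ⟨m, m.2, fun x hx => ?_⟩
  have h1 : (⟨x, hUM hx⟩ : M) ∈ (Q : Subgroup M) := hQ hx
  have h2 := Subgroup.smul_mem_pointwise_smul _ (MulAut.conj m) _ h1
  have h3 : (MulAut.conj m • (⟨x, hUM hx⟩ : M)) ∈ (P' : Subgroup M) := by rw [← hm]; exact h2
  exact h3

theorem isPGroup_zpowers {p : ℕ} [Fact p.Prime] {x : G} (hx : orderOf x = p) :
    IsPGroup p (zpowers x) :=
  IsPGroup.of_card (n := 1) (by rw [Nat.card_zpowers, hx, pow_one])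

theorem isPGroup_zpowers_of_mem {p : ℕ} {U : Subgroup G} (hU : IsPGroup p U) {x : G} (hx : x ∈ U) :
    IsPGroup p (zpowers x) := hU.to_le (zpowers_le.2 hx)

/-- If the elements of prescribed kind of a Sylow subgroup inside a set stabiliser have that set as
fixed set, so have those of the stabiliser. -/
theorem fix_eq_of_sylow {p : ℕ} [Fact p.Prime] [Finite G] {F : Set Ω} (P : Sylow p G)
    (hP : (P : Subgroup G) ≤ stabilizer G F) (c : ℕ)
    (h : ∀ x ∈ (P : Subgroup G), x ≠ 1 → (fixedBy Ω x).ncard = c → fixedBy Ω x = F)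
    {x : G} (hxM : x ∈ stabilizer G F) (hxp : IsPGroup p (zpowers x)) (hx1 : x ≠ 1)
    (hc : (fixedBy Ω x).ncard = c) : fixedBy Ω x = F := by
  obtain ⟨m, hm, hmx⟩ := exists_conj_mem_sylow P hP hxp (zpowers_le.2 hxM)
  have h1 := h _ (hmx x (mem_zpowers x)) (by simpa using hx1) (by rw [ncard_fixedBy_conj, hc])
  rw [fixedBy_conj'] at h1
  calc fixedBy Ω x = m⁻¹ • (m • fixedBy Ω x) := (inv_smul_smul _ _).symm
    _ = m⁻¹ • F := by rw [h1]
    _ = F := inv_smul_eq_iff.2 (mem_stabilizer_iff.1 hm).symm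

/-- The criterion: all elements of order `p` stabilising `F` have fixed set exactly `F`. -/
theorem strong_of_fix [Finite G] [IsPretransitive G Ω] [FaithfulSMul G Ω] {p : ℕ} [Fact p.Prime]
    {F : Set Ω} (hne : F.Nonempty) (hdiv : p ∣ Nat.card (stabilizer G F))
    (h : ∀ x ∈ stabilizer G F, orderOf x = p → fixedBy Ω x = F) :
    stabilizer G F ≠ ⊤ ∧ ∀ g : G, g ∉ stabilizer G F →
      ¬ p ∣ Nat.card ↥(stabilizer G F ⊓ (stabilizer G F).map (MulAut.conj g).toMonoidHom) := by
  refine ⟨fun htop => ?_, fun g hg hd => ?_⟩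
  · obtain ⟨⟨x, hxM⟩, hx⟩ := exists_prime_orderOf_dvd_card' p hdiv
    rw [← orderOf_coe] at hx
    have hF : F = Set.univ := by
      obtain ⟨a, ha⟩ := hne
      refine Set.eq_univ_of_forall fun b => ?_
      obtain ⟨g, rfl⟩ := exists_smul_eq G a b
      have : g ∈ stabilizer G F := htop ▸ mem_top g
      exact (mem_stabilizer_iff.1 this) ▸ Set.smul_mem_smul_set ha
    have hx1 : x = 1 := eq_of_smul_eq_smul (α := Ω) fun a => by
      rw [one_smul]
      have : a ∈ fixedBy Ω x := (h x hxM hx).symm ▸ hF ▸ Set.mem_univ a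
      exact this
    rw [show (((⟨x, hxM⟩ : stabilizer G F) : G)) = 1 from hx1, orderOf_one] at hx
    exact (Fact.out : p.Prime).one_lt.ne hx
  · obtain ⟨⟨x, hx1, y, hy, hyx⟩, hx⟩ := exists_prime_orderOf_dvd_card' p hd
    rw [← orderOf_coe] at hx
    have hxy : g * y * g⁻¹ = x := hyx
    have hoy : orderOf y = p := by
      rw [← hx, ← orderOf_injective (MulAut.conj g).toMonoidHom (MulAut.conj g).injective y]
      exact congrArg orderOf hyx
    have h1 := h x hx1 hx
    rw [← hxy, fixedBy_conj', h y hy hoy] at h1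
    exact hg (mem_stabilizer_iff.2 h1)

theorem stronglyEmbedded_of_fix [Finite G] [IsPretransitive G Ω] [FaithfulSMul G Ω]
    {F : Set Ω} (hne : F.Nonempty) (hdiv : 2 ∣ Nat.card (stabilizer G F))
    (h : ∀ x ∈ stabilizer G F, orderOf x = 2 → fixedBy Ω x = F) :
    Cfsg.IsStronglyEmbedded (stabilizer G F) := by
  haveI : Fact (Nat.Prime 2) := ⟨Nat.prime_two⟩
  obtain ⟨h1, h2⟩ := strong_of_fix hne hdiv h
  refine ⟨h1, even_iff_two_dvd.2 hdiv, fun g hg => ?_⟩
  rw [← Nat.not_even_iff_odd, even_iff_two_dvd]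
  exact h2 g hg

theorem hom_trivial [IsSimpleGroup G] (hna : ¬ IsMulCommutative G) {A : Type*} [CommGroup A]
    (f : G →* A) (g : G) : f g = 1 := by
  rcases f.normal_ker.eq_bot_or_eq_top with h | h
  · exact absurd ⟨⟨fun a b => (MonoidHom.ker_eq_bot_iff f).1 h (by rw [map_mul, map_mul, mul_comm])⟩⟩ hna
  · exact MonoidHom.mem_ker.1 (h ▸ mem_top g)

theorem center_eq_bot' [IsSimpleGroup G] (hna : ¬ IsMulCommutative G) : Subgroup.center G = ⊥ := by
  rcases (inferInstance : (Subgroup.center G).Normal).eq_bot_or_eq_top with h | h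
  · exact h
  · exact absurd ⟨⟨fun a b => (Subgroup.mem_center_iff.1 (h ▸ mem_top b : b ∈ Subgroup.center G)) a⟩⟩ hna

/-- In a simple group every involution moves a number of points divisible by four. -/
theorem moved_mod_four [IsSimpleGroup G] (hna : ¬ IsMulCommutative G) [Finite Ω] [FaithfulSMul G Ω]
    {t : G} (ht : orderOf t = 2) :
    ∃ k : ℕ, Nat.card Ω = (fixedBy Ω t).ncard + 4 * k := by
  classical
  haveI := Fintype.ofFinite Ω
  set σ := toPermHom G Ω t with hσ
  have hsign : Equiv.Perm.sign σ = 1 :=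
    hom_trivial hna (Equiv.Perm.sign.comp (toPermHom G Ω)) t
  have ho : orderOf σ = 2 := by
    rw [hσ, orderOf_injective _ MulAction.toPerm_injective, ht]
  obtain ⟨m, hm⟩ := Equiv.Perm.cycleType_prime_order (σ := σ) (ho ▸ Nat.prime_two)
  rw [Equiv.Perm.sign_of_cycleType, hm, ho, Multiset.sum_replicate, Multiset.card_replicate,
    smul_eq_mul] at hsign
  have hev : Even (m + 1) := by
    by_contra hodd
    rw [Nat.not_even_iff_odd] at hodd
    rw [(Even.add_odd (even_two.mul_left _) hodd).neg_one_pow] at hsign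
    exact absurd hsign (by decide)
  have hsupp : σ.support.card = (m + 1) * 2 := by
    rw [← Equiv.Perm.sum_cycleType, hm, ho, Multiset.sum_replicate, smul_eq_mul]
  have hfix : fixedBy Ω t = ↑(σ.supportᶜ) := by
    ext a
    simp [hσ, Equiv.Perm.mem_support]
  obtain ⟨k, hk⟩ := hev
  refine ⟨k, ?_⟩
  rw [hfix, Set.ncard_coe_finset, Finset.card_compl, Nat.card_eq_fintype_card]
  have := Finset.card_le_univ σ.support
  omega

end Cfsg.Agent.H19.Fixity
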