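import Cfsg.Agent.H19.Fixity.Basic

/-!
# Elementary consequences for subgroups of prime power order
-/

set_option autoImplicit false
set_option linter.unusedSectionVars false
set_option linter.style.haveILetI false

namespace Cfsg.Agent.H19.Fixity

open MulAction Subgroup
open scoped Pointwise

variable {G Ω : Type*} [Group G] [MulAction G Ω]

theorem comm_of_card_sq {p : ℕ} [Fact p.Prime] {U : Subgroup G} (hU : Nat.card U = p ^ 2)
    {a b : G} (ha : a ∈ U) (hb : b ∈ U) : a * b = b * a :=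
  congrArg Subtype.val
    ((IsPGroup.isMulCommutative_of_card_eq_prime_sq hU).is_comm.comm (⟨a, ha⟩ : U) ⟨b, hb⟩)

theorem exists_orderOf_of_ne_bot {p : ℕ} [Fact p.Prime] [Finite G] {U : Subgroup G} (hU : IsPGroup p U)
    (hne : U ≠ ⊥) : ∃ u ∈ U, orderOf u = p := by
  obtain ⟨i, hi⟩ := (IsPGroup.iff_card (p := p)).1 hU
  have hi0 : i ≠ 0 := fun h => hne (Subgroup.card_eq_one.1 (by rw [hi, h, pow_zero]))
  obtain ⟨⟨u, hu⟩, hou⟩ := exists_prime_orderOf_dvd_card' (G := U) p (hi ▸ dvd_pow_self p hi0)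
  exact ⟨u, hu, by rw [← hou, ← orderOf_coe]⟩

theorem orderOf_conj' (g x : G) : orderOf (g * x * g⁻¹) = orderOf x :=
  orderOf_injective (MulAut.conj g).toMonoidHom (MulAut.conj g).injective x

theorem card_le_of_inf_eq {U K : Subgroup G} [Finite G] (h : K ≤ U) : Nat.card K ≤ Nat.card U :=
  Nat.le_of_dvd Nat.card_pos (Subgroup.card_dvd_of_le h)

/-- A central element of order `p` of a Sylow subgroup. -/
theorem exists_central {p : ℕ} [Fact p.Prime] [Finite G] (P : Sylow p G) (hp : p ∣ Nat.card G) :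
    ∃ z ∈ (P : Subgroup G), orderOf z = p ∧ ∀ x ∈ (P : Subgroup G), x * z = z * x := by
  haveI : Nontrivial ↥(P : Subgroup G) :=
    (Subgroup.nontrivial_iff_ne_bot _).2 (Sylow.ne_bot_of_dvd_card P hp)
  obtain ⟨z, -, hz, hzo⟩ := PGroups.exists_mem_center_orderOf_eq P.isPGroup' ⊤ top_ne_bot
  refine ⟨z, z.2, by rw [orderOf_coe, hzo], fun x hx => ?_⟩
  exact congrArg Subtype.val ((Subgroup.mem_center_iff.1 hz) ⟨x, hx⟩)

/-- A nontrivial normal subgroup of a finite `p`-group meets the centre. -/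
theorem exists_central_mem {p : ℕ} [Fact p.Prime] [Finite G] {P K : Subgroup G} (hP : IsPGroup p P)
    (hKP : K ≤ P) (hn : ∀ g ∈ P, ∀ x ∈ K, g * x * g⁻¹ ∈ K) (hne : K ≠ ⊥) :
    ∃ z ∈ K, orderOf z = p ∧ ∀ x ∈ P, x * z = z * x := by
  haveI : (K.subgroupOf P).Normal := ⟨fun x hx g => hn g g.2 x hx⟩
  have hne' : K.subgroupOf P ≠ ⊥ := by
    rw [Ne, Subgroup.subgroupOf_eq_bot, disjoint_iff, inf_eq_left.2 hKP]; exact hne
  obtain ⟨z, hzK, hz, hzo⟩ := PGroups.exists_mem_center_orderOf_eq hP (K.subgroupOf P) hne'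
  refine ⟨z, hzK, by rw [orderOf_coe, hzo], fun x hx => ?_⟩
  exact congrArg Subtype.val ((Subgroup.mem_center_iff.1 hz) ⟨x, hx⟩)

/-- In a `p`-group normalisers grow. -/
theorem exists_normalizing {p : ℕ} [Fact p.Prime] [Finite G] {S M : Subgroup G} (hS : IsPGroup p S)
    (hM : M < S) : ∃ y ∈ S, y ∉ M ∧ ∀ x, x ∈ M ↔ y * x * y⁻¹ ∈ M := by
  obtain ⟨y, hy, hyM⟩ := SetLike.exists_of_lt (H90.lt_normalizerIn hS hM)
  exact ⟨y, hy.1, hyM, fun x => Subgroup.mem_normalizer_iff.1 hy.2 x⟩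

end Cfsg.Agent.H19.Fixity
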