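import Cfsg.Agent.H19.Fixity.TwoTools
import Cfsg.Agent.S0215

/-!
# Fixity four: one fixed set in a Sylow 2-subgroup gives a strongly embedded subgroup
-/

set_option autoImplicit false
set_option linter.unusedSectionVars false
set_option linter.style.haveILetI false

namespace Cfsg.Agent.H19.Fixity

open MulAction Subgroup
open scoped Pointwise

variable {G Ω : Type*} [Group G] [MulAction G Ω] [Finite G] [Finite Ω]
  (hb : ∀ g : G, g ≠ 1 → (fixedBy Ω g).ncard ≤ 4)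
include hb

theorem shared_case [IsSimpleGroup G] (hna : ¬ IsMulCommutative G) [IsPretransitive G Ω]
    [FaithfulSMul G Ω] (h04 : ∀ t : G, orderOf t = 2 →
      (fixedBy Ω t).ncard = 0 ∨ (fixedBy Ω t).ncard = 4)
    {F : Set Ω} (hF : F.ncard = 4) (S : Sylow 2 G) (hSF : (S : Subgroup G) ≤ stabilizer G F)
    (hex : ∃ t : G, orderOf t = 2 ∧ (fixedBy Ω t).ncard = 4)
    (hall : ∀ x ∈ (S : Subgroup G), orderOf x = 2 → (fixedBy Ω x).ncard = 4 → fixedBy Ω x = F) :
    ∃ H : Subgroup G, Cfsg.IsStronglyEmbedded H := by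
  classical
  haveI : Fact (Nat.Prime 2) := ⟨Nat.prime_two⟩
  haveI := Fintype.ofFinite G
  obtain ⟨t₀, ht₀, ht₀4⟩ := hex
  -- every involution of fix type is conjugate to one of `S`
  have hconj : ∀ v : G, orderOf v = 2 → (fixedBy Ω v).ncard = 4 →
      ∃ g : G, g * v * g⁻¹ ∈ (S : Subgroup G) ∧ fixedBy Ω v = g⁻¹ • F := by
    intro v hv hv4
    obtain ⟨R, hR⟩ := (isPGroup_zpowers hv).exists_le_sylow
    obtain ⟨g, hg⟩ := MulAction.exists_smul_eq G R S
    have hgS : g * v * g⁻¹ ∈ (S : Subgroup G) := by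
      rw [← hg]
      exact Subgroup.smul_mem_pointwise_smul _ (MulAut.conj g) _ (hR (mem_zpowers v))
    refine ⟨g, hgS, ?_⟩
    rw [← hall _ hgS (by rw [orderOf_conj', hv]) (by rw [ncard_fixedBy_conj, hv4]), fixedBy_conj',
      inv_smul_smul]
  have hM : ∀ v ∈ stabilizer G F, orderOf v = 2 → (fixedBy Ω v).ncard = 4 → fixedBy Ω v = F := by
    intro v hv hvo hv4
    obtain ⟨m, hm, hmv⟩ := exists_conj_mem_sylow S hSF (isPGroup_zpowers hvo) (zpowers_le.2 hv)
    have h := hall _ (hmv v (mem_zpowers v)) (by rw [orderOf_conj', hvo]) (by rw [ncard_fixedBy_conj, hv4])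
    rw [fixedBy_conj'] at h
    rw [← inv_smul_smul m (fixedBy Ω v), h, inv_smul_eq_iff]
    exact (mem_stabilizer_iff.1 hm).symm
  have hMg : ∀ (v g : G), orderOf v = 2 → (fixedBy Ω v).ncard = 4 → v • (g • F) = g • F →
      fixedBy Ω v = g • F := by
    intro v g hvo hv4 hvg
    have h := hM (g⁻¹ * v * g) (by rw [mem_stabilizer_iff, mul_smul, mul_smul, hvg, inv_smul_smul])
      (by simpa [orderOf_conj'] using (orderOf_conj' g⁻¹ v).trans hvo)
      (by simpa using (ncard_fixedBy_conj (Ω := Ω) g⁻¹ v).trans hv4)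
    rw [fixedBy_inv_conj] at h
    rw [← h, smul_inv_smul]
  obtain ⟨g₀, hg₀S, -⟩ := hconj t₀ ht₀ ht₀4
  set t := g₀ * t₀ * g₀⁻¹
  have ht : orderOf t = 2 := by rw [orderOf_conj', ht₀]
  have ht4 : (fixedBy Ω t).ncard = 4 := by rw [ncard_fixedBy_conj, ht₀4]
  have htF : fixedBy Ω t = F := hall t hg₀S ht ht4
  have htM : t ∈ stabilizer G F := hSF hg₀S
  have htop : stabilizer G F ≠ ⊤ := by
    intro htop
    have hF' : F = Set.univ := by
      obtain ⟨a, ha⟩ := Set.nonempty_of_ncard_ne_zero (show F.ncard ≠ 0 by omega)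
      refine Set.eq_univ_of_forall fun b => ?_
      obtain ⟨g, rfl⟩ := exists_smul_eq G a b
      have : g ∈ stabilizer G F := htop ▸ mem_top g
      exact (mem_stabilizer_iff.1 this) ▸ Set.smul_mem_smul_set ha
    have : t = 1 := eq_of_smul_eq_smul (α := Ω) fun a => by
      rw [one_smul]
      have : a ∈ fixedBy Ω t := htF.symm ▸ hF' ▸ Set.mem_univ a
      exact this
    rw [this, orderOf_one] at ht
    omega
  have heven : Even (Nat.card (stabilizer G F)) := even_iff_two_dvd.2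
    (ht ▸ Subgroup.orderOf_dvd_natCard _ htM)
  refine ⟨stabilizer G F, htop, heven, fun g hg => ?_⟩
  by_contra hodd
  rw [Nat.not_odd_iff_even, even_iff_two_dvd] at hodd
  obtain ⟨⟨d₀, hd₀M, hd₀g⟩, hd₀⟩ := exists_prime_orderOf_dvd_card' 2 hodd
  rw [← orderOf_coe] at hd₀
  simp only at hd₀
  set F₂ := g • F with hF₂def
  have hne : F₂ ≠ F := fun e => hg (mem_stabilizer_iff.2 e)
  have hd₀F₂ : d₀ • F₂ = F₂ := by
    obtain ⟨y, hy, rfl⟩ := hd₀g
    show (g * y * g⁻¹) • g • F = g • F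
    rw [mul_smul, mul_smul, inv_smul_smul, mem_stabilizer_iff.1 hy]
  have sq1 : ∀ {v : G}, orderOf v = 2 → v * v = 1 := fun {v} hv => by
    rw [← pow_two, ← hv, pow_orderOf_eq_one]
  have ord2 : ∀ {v : G}, v * v = 1 → v ≠ 1 → orderOf v = 2 := fun {v} hv hv1 =>
    orderOf_eq_prime (by rw [pow_two, hv]) hv1
  have inv2 : ∀ {v : G}, orderOf v = 2 → v⁻¹ = v := fun {v} hv => inv_eq_of_mul_eq_one_right (sq1 hv)
  -- free involutions stabilising both sets
  have hfree : ∀ d : G, orderOf d = 2 → d ∈ stabilizer G F → d • F₂ = F₂ → fixedBy Ω d = ∅ := by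
    intro d hd hdF hdF₂
    rcases h04 d hd with h | h
    · exact (Set.ncard_eq_zero (Set.toFinite _)).1 h
    · exact absurd ((hMg d g hd h hdF₂).symm.trans (hM d hdF hd h)) hne
  -- the set `W`
  set W : Finset G := Finset.univ.filter
    (fun v => (orderOf v = 2 ∧ (fixedBy Ω v).ncard = 4) ∧ v • F = F₂) with hWdef
  have hW : ∀ v, v ∈ W ↔ (orderOf v = 2 ∧ (fixedBy Ω v).ncard = 4) ∧ v • F = F₂ := fun v => by
    simp [hWdef]
  -- quotients of two elements with the same image of `F`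
  let Wp : Set Ω → G → Prop := fun F' v => (orderOf v = 2 ∧ (fixedBy Ω v).ncard = 4) ∧ v • F = F'
  have hback : ∀ {F' v}, Wp F' v → v • F' = F := fun {F' v} h => by
    rw [← h.2, ← mul_smul, sq1 h.1.1, one_smul]
  have hstabF : ∀ {F' v w}, Wp F' v → Wp F' w → v * w ∈ stabilizer G F := fun {F' v w} hv hw => by
    rw [mem_stabilizer_iff, mul_smul, hw.2, hback hv]
  have hn1 : ∀ {F' v w}, F' ≠ F → Wp F' v → Wp F' w → v ≠ w → v * w ∉ fixingSubgroup G F := by
    intro F' v w hF'ne hv hw hvw hd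
    have hd1 : v * w ≠ 1 := fun h => hvw ((eq_inv_of_mul_eq_one_left h).trans (inv2 hw.1.1))
    have hfix := fix_eq_of_mem_pw hb hF hd1 hd
    have hinv : v * (v * w) * v⁻¹ = (v * w)⁻¹ := by
      rw [← mul_assoc, sq1 hv.1.1, one_mul, mul_inv_rev, inv2 hv.1.1, inv2 hw.1.1]
    have := mem_stabilizer_iff.1 (mem_stab_of_conj_inv (Ω := Ω) hinv)
    rw [hfix, hv.2] at this
    exact hF'ne this
  have hn2 : ∀ {F' v w}, F' ≠ F → Wp F' v → Wp F' w → v ≠ w → v * w * (v * w) ≠ 1 := by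
    intro F' v w hF'ne hv hw hvw h
    have hd1 : v * w ≠ 1 := fun h => hvw ((eq_inv_of_mul_eq_one_left h).trans (inv2 hw.1.1))
    have hcomm : w * v = v * w := by
      have := inv_eq_of_mul_eq_one_right h
      rwa [mul_inv_rev, inv2 hv.1.1, inv2 hw.1.1] at this
    obtain ⟨gv, -, hgv⟩ := hconj v hv.1.1 hv.1.2
    have h1 : w • fixedBy Ω v = fixedBy Ω v :=
      mem_stabilizer_iff.1 (mem_stab_of_commute hcomm)
    rw [hgv] at h1
    have hwv : fixedBy Ω w = fixedBy Ω v := (hMg w gv⁻¹ hw.1.1 hw.1.2 h1).trans hgv.symm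
    have hdpw : v * w ∈ fixingSubgroup G (fixedBy Ω v) :=
      mul_mem (self_mem_pw v) (hwv ▸ self_mem_pw w)
    have hfix := fix_eq_of_mem_pw hb hv.1.2 hd1 hdpw
    have h4 : (fixedBy Ω (v * w)).ncard = 4 := by rw [hfix, hv.1.2]
    have h5 := hM _ (hstabF hv hw) (ord2 h hd1) h4
    exact hn1 hF'ne hv hw hvw (mem_pw_iff.2 h5.symm.subset)
  have hpush : ∀ {F' v w}, F' ≠ F → Wp F' v → Wp F' w → v ≠ w →
      Wp F' (w * v * w) ∧ v ≠ w * v * w ∧ v * (w * v * w) = v * w * (v * w) := by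
    intro F' v w hF'ne hv hw hvw
    have e : v * (w * v * w) = v * w * (v * w) := by group
    have e1 : w * v * w = w * v * w⁻¹ := by rw [inv2 hw.1.1]
    refine ⟨⟨⟨?_, ?_⟩, ?_⟩, fun h => ?_, e⟩
    · rw [e1, orderOf_conj', hv.1.1]
    · rw [e1, ncard_fixedBy_conj, hv.1.2]
    · rw [mul_smul, mul_smul, hw.2, hback hv, hw.2]
    · apply hn2 hF'ne hv hw hvw
      rw [← e, ← h, sq1 hv.1.1]
  haveI := (Set.toFinite F).fintype
  let e : F ≃ Fin 4 := Fintype.equivFinOfCardEq (by rw [← Nat.card_eq_fintype_card, Nat.card_coe_set_eq, hF])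
  let ψ : stabilizer G F →* Equiv.Perm (Fin 4) := e.permCongrHom.toMonoidHom.comp (img F)
  have hψ1 : ∀ x : stabilizer G F, ψ x = 1 ↔ (x : G) ∈ fixingSubgroup G F := fun x => by
    show e.permCongrHom (img F x) = 1 ↔ _
    rw [map_eq_one_iff _ (MulEquiv.injective _), img_eq_one_iff]
  have hψfree : ∀ (d : G) (hd : d ∈ stabilizer G F), orderOf d = 2 → fixedBy Ω d = ∅ →
      ψ ⟨d, hd⟩ * ψ ⟨d, hd⟩ = 1 ∧ ∀ a, ψ ⟨d, hd⟩ a ≠ a := by
    intro d hd hdo hdf
    refine ⟨?_, fun a ha => ?_⟩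
    · rw [← map_mul, hψ1]
      show d * d ∈ _
      rw [sq1 hdo]; exact one_mem _
    · have h1 : e (img F ⟨d, hd⟩ (e.symm a)) = a := ha
      have h2 := congrArg Subtype.val (e.injective (h1.trans (e.apply_symm_apply a).symm))
      rw [img_apply] at h2
      have : ((e.symm a : F) : Ω) ∈ fixedBy Ω d := h2
      rw [hdf] at this
      exact this
  have hthree : ∀ {F' v w}, F' ≠ F → ∀ (hv : Wp F' v) (hw : Wp F' w), v ≠ w →
      ψ ⟨v * w, hstabF hv hw⟩ ≠ 1 ∧
        ψ ⟨v * w, hstabF hv hw⟩ * ψ ⟨v * w, hstabF hv hw⟩ * ψ ⟨v * w, hstabF hv hw⟩ = 1 := by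
    intro F' v w hF'ne hv hw hvw
    set σ := ψ ⟨v * w, hstabF hv hw⟩ with hσ
    refine ⟨fun h => hn1 hF'ne hv hw hvw ((hψ1 _).1 h), ?_⟩
    obtain ⟨hw', hvw', e'⟩ := hpush hF'ne hv hw hvw
    obtain ⟨hw'', hvw'', e''⟩ := hpush hF'ne hv hw' hvw'
    refine (perm4_orders σ).resolve_left fun h => hn1 hF'ne hv hw'' hvw'' ?_
    rw [e'', e', show v * w * (v * w) * (v * w * (v * w)) = v * w * (v * w) * (v * w) * (v * w) by group]
    refine (hψ1 (⟨v * w, hstabF hv hw⟩ * ⟨v * w, hstabF hv hw⟩ * ⟨v * w, hstabF hv hw⟩ *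
      ⟨v * w, hstabF hv hw⟩)).1 ?_
    rw [map_mul, map_mul, map_mul]
    exact h
  -- the orbit count
  set O := (MulAction.orbit G F).toFinite.toFinset.erase F with hOdef
  have hO : ∀ F', F' ∈ O ↔ F' ≠ F ∧ ∃ h : G, h • F = F' := by
    intro F'; simp [hOdef, MulAction.mem_orbit_iff]
  set m := (Finset.univ.filter (fun v : G => orderOf v = 2 ∧ fixedBy Ω v = F)).card with hmdef
  set A := Finset.univ.filter
    (fun v : G => (orderOf v = 2 ∧ (fixedBy Ω v).ncard = 4) ∧ fixedBy Ω v ≠ F) with hAdef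
  have hA1 : A.card = O.card * m := by
    rw [Finset.card_eq_sum_card_fiberwise (f := fun v => fixedBy Ω v) (t := O) (fun v hv => ?_)]
    · rw [Finset.sum_congr rfl (g := fun _ => m) (fun F' hF' => ?_), Finset.sum_const, smul_eq_mul]
      obtain ⟨hF'ne, h, rfl⟩ := (hO F').1 hF'
      refine Finset.card_bij (fun v _ => h⁻¹ * v * h) ?_ ?_ ?_
      · intro v hv
        simp only [hAdef, Finset.mem_filter, Finset.mem_univ, true_and] at hv ⊢
        refine ⟨?_, ?_⟩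
        · simpa [orderOf_conj'] using (orderOf_conj' h⁻¹ v).trans hv.1.1.1
        · rw [fixedBy_inv_conj, hv.2, inv_smul_smul]
      · intro v _ w _ h'; exact mul_left_cancel (mul_right_cancel h')
      · intro u hu
        simp only [Finset.mem_filter, Finset.mem_univ, true_and] at hu
        refine ⟨h * u * h⁻¹, ?_, by group⟩
        simp only [hAdef, Finset.mem_filter, Finset.mem_univ, true_and]
        refine ⟨⟨⟨by rw [orderOf_conj', hu.1], by rw [ncard_fixedBy_conj, hu.2, hF]⟩, ?_⟩, ?_⟩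
        · rw [fixedBy_conj', hu.2]; exact hF'ne
        · rw [fixedBy_conj', hu.2]
    · simp only [hAdef, Finset.coe_filter, Finset.mem_univ, true_and, Set.mem_ofPred_eq] at hv
      obtain ⟨h, -, hh⟩ := hconj v hv.1.1 hv.1.2
      exact (hO _).2 ⟨hv.2, h⁻¹, hh.symm⟩
  have hfib : ∀ F' ∈ O, (A.filter (fun v => v • F = F')).card ≤ 3 := by
    intro F' hF'
    obtain ⟨hF'ne, -⟩ := (hO F').1 hF'
    by_contra hh
    obtain ⟨s, hs, hs4⟩ := Finset.exists_subset_card_eq (show 4 ≤ (A.filter (fun v => v • F = F')).card by omega)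
    have hmem : ∀ v ∈ s, Wp F' v := by
      intro v hv
      have := hs hv
      simp only [hAdef, Finset.mem_filter, Finset.mem_univ, true_and] at this
      exact ⟨this.1.1, this.2⟩
    obtain ⟨v₁, hv₁⟩ := Finset.card_pos.1 (show 0 < s.card by omega)
    obtain ⟨v₂, v₃, v₄, h23, h24, h34, hs3⟩ :=
      Finset.card_eq_three.1 (show (s.erase v₁).card = 3 by rw [Finset.card_erase_of_mem hv₁, hs4])
    have hin : ∀ v ∈ ({v₂, v₃, v₄} : Finset G), v ≠ v₁ ∧ Wp F' v := fun v hv => by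
      rw [← hs3, Finset.mem_erase] at hv
      exact ⟨hv.1, hmem v hv.2⟩
    obtain ⟨n2, w2⟩ := hin v₂ (by simp)
    obtain ⟨n3, w3⟩ := hin v₃ (by simp)
    obtain ⟨n4, w4⟩ := hin v₄ (by simp)
    have w1 := hmem v₁ hv₁
    have hquot : ∀ {v w : G} (hv : Wp F' v) (hw : Wp F' w), (ψ ⟨v₁ * v, hstabF w1 hv⟩)⁻¹ *
        ψ ⟨v₁ * w, hstabF w1 hw⟩ = ψ ⟨v * w, hstabF hv hw⟩ := fun {v w} hv hw => by
      rw [← map_inv, ← map_mul]
      refine congrArg ψ (Subtype.ext ?_)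
      show (v₁ * v)⁻¹ * (v₁ * w) = v * w
      rw [mul_inv_rev, inv2 hv.1.1, mul_assoc, inv_mul_cancel_left]
    have hne' : ∀ {v w : G} (hv : Wp F' v) (hw : Wp F' w), v ≠ w →
        ψ ⟨v₁ * v, hstabF w1 hv⟩ ≠ ψ ⟨v₁ * w, hstabF w1 hw⟩ := fun {v w} hv hw hvw h => by
      apply (hthree hF'ne hv hw hvw).1
      rw [← hquot hv hw, h, inv_mul_cancel]
    exact perm4_quot _ (hthree hF'ne w1 w2 n2.symm).1 (hthree hF'ne w1 w2 n2.symm).2
      _ (hthree hF'ne w1 w3 n3.symm).1 (hthree hF'ne w1 w3 n3.symm).2 (hne' w2 w3 h23)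
      (by rw [hquot w2 w3]; exact (hthree hF'ne w2 w3 h23).2)
      _ (hthree hF'ne w1 w4 n4.symm).1 (hthree hF'ne w1 w4 n4.symm).2 (hne' w2 w4 h24)
      (by rw [hquot w2 w4]; exact (hthree hF'ne w2 w4 h24).2)
      (hne' w3 w4 h34) (by rw [hquot w3 w4]; exact (hthree hF'ne w3 w4 h34).2)
  have hAfib : A.card = ∑ F' ∈ O, (A.filter (fun v => v • F = F')).card := by
    refine Finset.card_eq_sum_card_fiberwise fun v hv => ?_
    simp only [hAdef, Finset.coe_filter, Finset.mem_univ, true_and, Set.mem_ofPred_eq] at hv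
    refine (hO _).2 ⟨fun h => hv.2 ?_, v, rfl⟩
    have := hMg v 1 hv.1.1 hv.1.2 (by rw [one_smul]; exact h)
    rwa [one_smul] at this
  have hgO : F₂ ∈ O := (hO _).2 ⟨hne, g, rfl⟩
  -- three involutions fix `F`
  have hm3 : 3 ≤ m := by
    by_contra hh
    have htmem : t ∈ Finset.univ.filter (fun v : G => orderOf v = 2 ∧ fixedBy Ω v = F) := by
      simp [ht, htF]
    have hpos : 0 < m := Finset.card_pos.2 ⟨t, htmem⟩
    rcases (show m = 1 ∨ m = 2 by omega) with h1 | h2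
    · -- an isolated involution
      have huniq : ∀ x : G, orderOf x = 2 → fixedBy Ω x = F → x = t := fun x hx hxF => by
        obtain ⟨u, hu⟩ := Finset.card_eq_one.1 h1
        have hx' : x ∈ Finset.univ.filter (fun v : G => orderOf v = 2 ∧ fixedBy Ω v = F) := by
          simp [hx, hxF]
        rw [hu, Finset.mem_singleton] at hx' htmem
        rw [hx', htmem]
      obtain ⟨N, hN, hNodd, hNc⟩ := Cfsg.Agent.S0215.result S t ht hg₀S (fun x hx => by
        refine huniq _ (by rw [orderOf_conj', ht]) ?_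
        exact hall _ hx (by rw [orderOf_conj', ht]) (by rw [ncard_fixedBy_conj, ht4]))
      have hNbot : N = ⊥ := by
        rcases hN.eq_bot_or_eq_top with h | h
        · exact h
        · rw [h, Subgroup.card_top] at hNodd
          exact absurd ((ht ▸ orderOf_dvd_natCard t : 2 ∣ Nat.card G)) (by
            obtain ⟨k, hk⟩ := hNodd; omega)
      have htc : t ∈ Subgroup.center G := by
        rw [Subgroup.mem_center_iff]
        intro x
        have := hNc x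
        rw [hNbot, Subgroup.mem_bot, mul_inv_eq_one, mul_inv_eq_iff_eq_mul] at this
        exact this.symm
      rw [center_eq_bot' hna, Subgroup.mem_bot] at htc
      rw [htc, orderOf_one] at ht
      omega
    · obtain ⟨u, v, huv, hs⟩ := Finset.card_eq_two.1 h2
      have hmem : ∀ x, (orderOf x = 2 ∧ fixedBy Ω x = F) ↔ x = u ∨ x = v := fun x => by
        have := Finset.ext_iff.1 hs x
        simpa using this
      obtain ⟨hu, huF⟩ := (hmem u).2 (Or.inl rfl)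
      obtain ⟨hv, hvF⟩ := (hmem v).2 (Or.inr rfl)
      have hcomm : u * v = v * u := by
        rcases (hmem (u * v * u⁻¹)).1 ⟨by rw [orderOf_conj', hv], by
          rw [fixedBy_conj', hvF, ← huF]; exact mem_stabilizer_iff.1 (self_mem_stab u)⟩ with h | h
        · exact absurd (mul_left_cancel (mul_inv_eq_iff_eq_mul.1 h)) huv.symm
        · exact mul_inv_eq_iff_eq_mul.1 h
      have hd1 : u * v ≠ 1 := fun h => huv ((eq_inv_of_mul_eq_one_left h).trans (inv2 hv))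
      have hdd : u * v * (u * v) = 1 := by
        rw [mul_assoc, ← mul_assoc v, ← hcomm, mul_assoc u v v, sq1 hv, mul_one, sq1 hu]
      rcases (hmem (u * v)).1 ⟨ord2 hdd hd1, fix_eq_of_mem_pw hb hF hd1
        (mul_mem (huF ▸ self_mem_pw u) (hvF ▸ self_mem_pw v))⟩ with h | h
      · exact (by intro h'; rw [h', orderOf_one] at hv; omega : v ≠ 1) (mul_eq_left.1 h)
      · exact (by intro h'; rw [h', orderOf_one] at hu; omega : u ≠ 1) (mul_eq_right.1 h)
  have hW3 : 3 ≤ W.card := by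
    have hsub : (A.filter (fun v => v • F = F₂)).card ≤ W.card := by
      refine Finset.card_le_card fun v hv => ?_
      simp only [hAdef, Finset.mem_filter, Finset.mem_univ, true_and] at hv
      exact (hW v).2 ⟨hv.1.1, hv.2⟩
    by_contra hh
    have hlt : ∑ F' ∈ O, (A.filter (fun v => v • F = F')).card < ∑ _F' ∈ O, 3 :=
      Finset.sum_lt_sum hfib ⟨F₂, hgO, by omega⟩
    rw [← hAfib, hA1, Finset.sum_const, smul_eq_mul] at hlt
    have := Nat.mul_le_mul_left O.card hm3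
    omega
  obtain ⟨v₀, hv₀⟩ := Finset.card_pos.1 (show 0 < W.card by omega)
  obtain ⟨v', hv'⟩ := Finset.card_pos.1 (show 0 < (W.erase v₀).card by
    rw [Finset.card_erase_of_mem hv₀]; omega)
  rw [Finset.mem_erase] at hv'
  have w0 : Wp F₂ v₀ := (hW v₀).1 hv₀
  have w' : Wp F₂ v' := (hW v').1 hv'.2
  -- free involutions in both stabilisers commute with `v₀`
  have hcen : ∀ d : G, orderOf d = 2 → d ∈ stabilizer G F → d • F₂ = F₂ → d * v₀ = v₀ * d := by
    intro d hd hdF hdF₂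
    by_contra hdc
    have hw : Wp F₂ (d * v₀ * d⁻¹) := by
      refine ⟨⟨by rw [orderOf_conj', w0.1.1], by rw [ncard_fixedBy_conj, w0.1.2]⟩, ?_⟩
      rw [mul_smul, mul_smul, inv_smul_eq_iff.2 (mem_stabilizer_iff.1 hdF).symm, w0.2, hdF₂]
    have hne' : v₀ ≠ d * v₀ * d⁻¹ := fun h => hdc (eq_mul_inv_iff_mul_eq.1 h).symm
    obtain ⟨hσ1, hσ3⟩ := hthree hne w0 hw hne'
    set d₁ := v₀ * d * v₀ with hd₁def
    have hd₁ : orderOf d₁ = 2 := by
      rw [hd₁def, show v₀ * d * v₀ = v₀ * d * v₀⁻¹ by rw [inv2 w0.1.1], orderOf_conj', hd]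
    have hd₁F : d₁ ∈ stabilizer G F := by
      rw [mem_stabilizer_iff, hd₁def, mul_smul, mul_smul, w0.2, hdF₂, hback w0]
    have hd₁F₂ : d₁ • F₂ = F₂ := by
      rw [hd₁def, mul_smul, mul_smul, hback w0, mem_stabilizer_iff.1 hdF, w0.2]
    obtain ⟨e1, e2⟩ := hψfree d₁ hd₁F hd₁ (hfree d₁ hd₁ hd₁F hd₁F₂)
    obtain ⟨f1, f2⟩ := hψfree d hdF hd (hfree d hd hdF hdF₂)
    have hprod : ψ ⟨v₀ * (d * v₀ * d⁻¹), hstabF w0 hw⟩ = ψ ⟨d₁, hd₁F⟩ * ψ ⟨d, hdF⟩ := by
      rw [← map_mul]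
      refine congrArg ψ (Subtype.ext ?_)
      show v₀ * (d * v₀ * d⁻¹) = v₀ * d * v₀ * d
      rw [inv2 hd]; group
    have h2 := perm4_free_mul _ e1 e2 _ f1 f2
    rw [← hprod] at h2
    rw [h2, one_mul] at hσ3
    exact hσ1 hσ3
  set d := v₀ * v' with hddef
  have hdF : d ∈ stabilizer G F := hstabF w0 w'
  have hdF₂ : d • F₂ = F₂ := by rw [hddef, mul_smul, hback w', w0.2]
  obtain ⟨hσ1, hσ3⟩ := hthree hne w0 w' (Ne.symm hv'.1)
  have hd₂ : orderOf (d * d₀ * d⁻¹) = 2 := by rw [orderOf_conj', hd₀]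
  have hd₂F : d * d₀ * d⁻¹ ∈ stabilizer G F := mul_mem (mul_mem hdF hd₀M) (inv_mem hdF)
  have hd₂F₂ : (d * d₀ * d⁻¹) • F₂ = F₂ := by
    rw [mul_smul, mul_smul, inv_smul_eq_iff.2 hdF₂.symm, hd₀F₂, hdF₂]
  have c0 := hcen d₀ hd₀ hd₀M hd₀F₂
  have c2 := hcen _ hd₂ hd₂F hd₂F₂
  have hkey : d * d * d₀ = d₀ * (d * d) := by
    have hd' : v₀ * d * v₀ = d⁻¹ := by
      rw [hddef, ← mul_assoc, sq1 w0.1.1, one_mul, mul_inv_rev, inv2 w0.1.1, inv2 w'.1.1]
    have hd'' : v₀ * d⁻¹ * v₀ = d := by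
      rw [← hd', show v₀ * (v₀ * d * v₀) * v₀ = (v₀ * v₀) * d * (v₀ * v₀) by group, sq1 w0.1.1,
        one_mul, mul_one]
    have : d⁻¹ * d₀ * d = d * d₀ * d⁻¹ := by
      calc d⁻¹ * d₀ * d = (v₀ * d * v₀) * d₀ * (v₀ * d⁻¹ * v₀) := by rw [hd', hd'']
        _ = v₀ * d * (v₀ * d₀) * v₀ * d⁻¹ * v₀ := by group
        _ = v₀ * d * (d₀ * v₀) * v₀ * d⁻¹ * v₀ := by rw [c0]
        _ = v₀ * (d * d₀ * (v₀ * v₀) * d⁻¹) * v₀ := by group
        _ = v₀ * (d * d₀ * d⁻¹) * v₀ := by rw [sq1 w0.1.1, mul_one]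
        _ = (d * d₀ * d⁻¹) * v₀ * v₀ := by rw [c2]
        _ = d * d₀ * d⁻¹ := by rw [mul_assoc, sq1 w0.1.1, mul_one]
    calc d * d * d₀ = d * (d * d₀ * d⁻¹) * d := by group
      _ = d * (d⁻¹ * d₀ * d) * d := by rw [this]
      _ = d₀ * (d * d) := by group
  obtain ⟨g1, g2⟩ := hψfree d₀ hd₀M hd₀ (hfree d₀ hd₀ hd₀M hd₀F₂)
  refine perm4_free_cycle _ g1 g2 _ hσ1 hσ3 ?_
  rw [← map_mul, ← map_mul, ← map_mul]
  exact congrArg ψ (Subtype.ext hkey)

end Cfsg.Agent.H19.Fixity
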