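import Cfsg.Agent.H19.Fixity.KernelFour

/-!
# Fixity four: two kernels of order four generating the stabiliser of order 16
-/

set_option autoImplicit false
set_option linter.unusedSectionVars false
set_option linter.style.haveILetI false

namespace Cfsg.Agent.H19.Fixity

open MulAction Subgroup
open scoped Pointwise

variable {G : Type*} [Group G] [Finite G]

theorem mem_map_conj {H : Subgroup G} {g x : G} :
    x ∈ H.map (MulAut.conj g).toMonoidHom ↔ g⁻¹ * x * g ∈ H := by
  constructor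
  · rintro ⟨h, hh, rfl⟩; simpa [mul_assoc] using hh
  · intro h; exact ⟨_, h, by simp [mul_assoc]⟩

theorem card_map_conj (H : Subgroup G) (g : G) :
    Nat.card (H.map (MulAut.conj g).toMonoidHom) = Nat.card H :=
  Subgroup.card_map_of_injective (MulAut.conj g).injective

/-- The 2-groups `N` of order 64 with a self-centralising `E16` whose nontrivial outer elements
centralise at most four elements of it, and their overgroups. -/
theorem squareBound_of_sixteen {S A : Subgroup G} (hS : IsPGroup 2 S) (hAS : A ≤ S)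
    (hA16 : Nat.card A = 16) (hA2 : ∀ a ∈ A, a * a = 1)
    (hN64 : Nat.card ↥(S ⊓ normalizer (A : Set G)) = 64)
    (hc4 : ∀ b ∈ S ⊓ normalizer (A : Set G), b ∉ A → Nat.card ↥(A ⊓ centralizer {b}) ≤ 4) :
    H64.RankFour.SquareBound ↥S := by
  classical
  haveI : Fact (Nat.Prime 2) := ⟨Nat.prime_two⟩
  set N := S ⊓ normalizer (A : Set G) with hNdef
  have hNS : N ≤ S := inf_le_left
  have hAN : A ≤ N := le_inf hAS le_normalizer
  have hAc : ∀ a ∈ A, ∀ b ∈ A, a * b = b * a := fun a ha b hb => by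
    have h1 : (a * b)⁻¹ = a * b := inv_eq_of_mul_eq_one_right (hA2 _ (mul_mem ha hb))
    rw [← h1, mul_inv_rev, inv_eq_of_mul_eq_one_right (hA2 a ha), inv_eq_of_mul_eq_one_right (hA2 b hb)]
  have hNA : ∀ n ∈ N, ∀ a ∈ A, n * a * n⁻¹ ∈ A := fun n hn a ha =>
    (Subgroup.mem_normalizer_iff.1 (Subgroup.mem_inf.1 hn).2 a).1 ha
  -- an elementary abelian subgroup of `N` meets `A` in at most four elements or lies in it
  have hel : ∀ X : Subgroup G, X ≤ N → ¬ X ≤ A → (∀ x ∈ X, ∀ x' ∈ X, x * x' = x' * x) →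
      Nat.card ↥(X ⊓ A) ≤ 4 := by
    intro X hXN hXA hXc
    obtain ⟨b, hb, hbA⟩ := SetLike.not_le_iff_exists.1 hXA
    refine le_trans (card_le_of_inf_eq ?_) (hc4 b (hXN hb) hbA)
    intro x hx
    exact Subgroup.mem_inf.2 ⟨(Subgroup.mem_inf.1 hx).2, Subgroup.mem_centralizer_singleton_iff.2
      (hXc x (Subgroup.mem_inf.1 hx).1 b hb)⟩
  have hN2 : ∀ X : Subgroup G, X ≤ N → Nat.card X * 16 ≤ Nat.card ↥(X ⊓ A) * 64 := fun X hX => by
    rw [← hA16, ← hN64]; exact card_le_mul_inf hAN hX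
  have hno32 : ∀ X : Subgroup G, X ≤ N → (∀ x ∈ X, ∀ x' ∈ X, x * x' = x' * x) → Nat.card X ≤ 16 := by
    intro X hX hc
    by_cases hXA : X ≤ A
    · exact hA16 ▸ card_le_of_inf_eq hXA
    · have := hel X hX hXA hc
      have := hN2 X hX
      omega
  have hTcomm : ∀ {T : Subgroup G}, (∀ x ∈ T, x * x ∈ (⊥ : Subgroup G)) →
      ∀ x ∈ T, ∀ x' ∈ T, x * x' = x' * x := fun {T} h x hx x' hx' => by
    have := Subgroup.mem_bot.1 (commutator_mem_of_sq h hx hx')
    rwa [mul_inv_eq_one, mul_inv_eq_iff_eq_mul] at this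
  rcases eq_or_lt_of_le hNS with hSN | hlt
  · refine squareBound_of_sub S hS fun T U hT _ hsq hcard => ?_
    rw [← hSN] at hT
    have hT64 := card_le_of_inf_eq hT
    rw [hN64] at hT64
    have hU2 : Nat.card U ≤ 2 := by omega
    rcases (show Nat.card T ≤ 63 ∨ Nat.card T = 64 by omega) with h | h
    · have hU : U = ⊥ := Subgroup.card_eq_one.1 (by
        have := Nat.card_pos (α := U); omega)
      have h1 := hno32 T hT (hTcomm (hU ▸ hsq))
      rw [hU, Subgroup.card_bot] at hcard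
      omega
    · have hTN : T = N := Subgroup.eq_of_le_of_card_ge hT (by omega)
      obtain ⟨b, hb, hbA⟩ := exists_mem_not_mem_of_card_lt (show Nat.card A < Nat.card N by omega)
      have h1 := card_le_values (X := A) (U := U) b fun a ha =>
        commutator_mem_of_sq hsq (hTN ▸ hb) (hTN ▸ hAN ha)
      have h2 := hc4 b hb hbA
      have : Nat.card U * Nat.card ↥(A ⊓ centralizer {b}) ≤ 2 * 4 := Nat.mul_le_mul hU2 h2
      omega
  -- `N < S`
  obtain ⟨g, hgS, hgN, hg⟩ := exists_normalizing hS hlt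
  set B := A.map (MulAut.conj g).toMonoidHom with hBdef
  have hBN : B ≤ N := by
    rintro _ ⟨a, ha, rfl⟩
    exact (hg a).1 (hAN ha)
  have hB16 : Nat.card B = 16 := by rw [card_map_conj, hA16]
  have hB2 : ∀ b ∈ B, b * b = 1 := by
    rintro _ ⟨a, ha, rfl⟩
    rw [← map_mul, hA2 a ha, map_one]
  have hBc : ∀ a ∈ B, ∀ b ∈ B, a * b = b * a := by
    rintro _ ⟨a, ha, rfl⟩ _ ⟨b, hb, rfl⟩
    rw [← map_mul, ← map_mul, hAc a ha b hb]
  have hBne : B ≠ A := by
    intro h
    apply hgN
    refine Subgroup.mem_inf.2 ⟨hgS, Subgroup.mem_normalizer_iff.2 fun x => ?_⟩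
    conv_rhs => rw [← h]
    rw [mem_map_conj, show g⁻¹ * (g * x * g⁻¹) * g = x by group]
  have hBA : ¬ B ≤ A := fun h => hBne (Subgroup.eq_of_le_of_card_ge h (by omega))
  set Z := A ⊓ B with hZdef
  have hZ4 : Nat.card Z = 4 := by
    have h1 : Nat.card ↥(B ⊓ A) ≤ 4 := hel B hBN hBA hBc
    have h2 := hN2 B hBN
    have e : Nat.card ↥(B ⊓ A) = Nat.card Z := by rw [hZdef, inf_comm]
    rw [e] at h1 h2
    rw [hB16] at h2
    omega
  have hCb : ∀ b ∈ B, b ∉ A → ∀ a ∈ A, a * b = b * a → a ∈ Z := by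
    intro b hb hbA a ha hab
    have hle : Z ≤ A ⊓ centralizer {b} := fun z hz => Subgroup.mem_inf.2
      ⟨(Subgroup.mem_inf.1 hz).1, Subgroup.mem_centralizer_singleton_iff.2
        (hBc z (Subgroup.mem_inf.1 hz).2 b hb)⟩
    rw [Subgroup.eq_of_le_of_card_ge hle (by have := hc4 b (hBN hb) hbA; omega)]
    exact Subgroup.mem_inf.2 ⟨ha, Subgroup.mem_centralizer_singleton_iff.2 hab⟩
  -- `N = A B`
  have hAB : ∀ n ∈ N, ∃ a ∈ A, ∃ b ∈ B, n = a * b := by
    haveI := Fintype.ofFinite N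
    haveI := Fintype.ofFinite (A × B)
    let f : A × B → N := fun p => ⟨(p.1 : G) * p.2, mul_mem (hAN p.1.2) (hBN p.2.2)⟩
    have hfib : ∀ n ∈ Finset.univ.image f, (Finset.univ.filter (fun p => f p = n)).card ≤ 4 := by
      intro n hn
      obtain ⟨p₀, -, rfl⟩ := Finset.mem_image.1 hn
      haveI := Fintype.ofFinite Z
      have hd : ∀ p, f p = f p₀ → (p₀.1 : G)⁻¹ * (p.1 : G) ∈ Z := by
        intro p hp
        refine Subgroup.mem_inf.2 ⟨mul_mem (inv_mem p₀.1.2) p.1.2, ?_⟩
        have e : (p.1 : G) * p.2 = p₀.1 * p₀.2 := congrArg Subtype.val hp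
        rw [show (p₀.1 : G)⁻¹ * (p.1 : G) = p₀.2 * (p.2 : G)⁻¹ by
          rw [eq_mul_inv_iff_mul_eq, mul_assoc, e, inv_mul_cancel_left]]
        exact mul_mem p₀.2.2 (inv_mem p.2.2)
      rw [← hZ4, Nat.card_eq_fintype_card, ← Finset.card_univ]
      refine Finset.card_le_card_of_injOn
        (fun p => if h : f p = f p₀ then (⟨_, hd p h⟩ : Z) else 1) (by simp) ?_
      intro p hp q hq h
      simp only [Finset.coe_filter, Finset.mem_univ, true_and, Set.mem_ofPred_eq] at hp hq
      simp only [hp, hq, dif_pos, Subtype.mk.injEq, mul_left_cancel_iff] at h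
      have e : (p.1 : G) * p.2 = q.1 * q.2 := congrArg Subtype.val (hp.trans hq.symm)
      rw [h, mul_left_cancel_iff] at e
      exact Prod.ext (Subtype.ext h) (Subtype.ext e)
    have hcard := Finset.card_le_mul_card_image Finset.univ 4 hfib
    rw [Finset.card_univ, ← Nat.card_eq_fintype_card, Nat.card_prod, hA16, hB16] at hcard
    have huniv : Finset.univ.image f = Finset.univ := by
      apply Finset.eq_univ_of_card
      have := Finset.card_le_univ (Finset.univ.image f)
      rw [← Nat.card_eq_fintype_card, hN64] at this ⊢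
      omega
    intro n hn
    obtain ⟨⟨a, b⟩, -, e⟩ := Finset.mem_image.1 (huniv ▸ Finset.mem_univ (⟨n, hn⟩ : N))
    exact ⟨a, a.2, b, b.2, (congrArg Subtype.val e).symm⟩
  have hinv : ∀ n ∈ N, n * n = 1 → n ∈ A ∨ n ∈ B := by
    intro n hn hn2
    obtain ⟨a, ha, b, hb, rfl⟩ := hAB n hn
    have hab : a * b = b * a := by
      have h1 : (a * b)⁻¹ = a * b := inv_eq_of_mul_eq_one_right hn2
      rw [mul_inv_rev, inv_eq_of_mul_eq_one_right (hA2 a ha), inv_eq_of_mul_eq_one_right (hB2 b hb)] at h1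
      exact h1.symm
    by_cases hbA : b ∈ A
    · exact Or.inl (mul_mem ha hbA)
    · exact Or.inr (mul_mem (Subgroup.mem_inf.1 (hCb b hb hbA a ha hab)).2 hb)
  have hsubAB : ∀ X : Subgroup G, X ≤ N → (∀ x ∈ X, x * x = 1) → X ≤ A ∨ X ≤ B := by
    intro X hX hX2
    by_contra h
    push Not at h
    obtain ⟨⟨x, hx, hxA⟩, ⟨x', hx', hx'B⟩⟩ :=
      And.intro (SetLike.not_le_iff_exists.1 h.1) (SetLike.not_le_iff_exists.1 h.2)
    have hxB : x ∈ B := (hinv x (hX hx) (hX2 x hx)).resolve_left hxA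
    have hx'A : x' ∈ A := (hinv x' (hX hx') (hX2 x' hx')).resolve_right hx'B
    rcases hinv _ (hX (mul_mem hx hx')) (hX2 _ (mul_mem hx hx')) with h1 | h1
    · exact hxA (by simpa using mul_mem h1 (inv_mem hx'A))
    · exact hx'B (by simpa using mul_mem (inv_mem hxB) h1)
  have hsub16 : ∀ X : Subgroup G, X ≤ N → (∀ x ∈ X, x * x = 1) → Nat.card X = 16 → X = A ∨ X = B := by
    intro X hX hX2 h16
    rcases hsubAB X hX hX2 with h | h
    · exact Or.inl (Subgroup.eq_of_le_of_card_ge h (by omega))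
    · exact Or.inr (Subgroup.eq_of_le_of_card_ge h (by omega))
  set S1 := S ⊓ normalizer (N : Set G) with hS1def
  have hS1S : S1 ≤ S := inf_le_left
  have hNS1 : N ≤ S1 := le_inf hNS le_normalizer
  have hconjN : ∀ u ∈ S1, ∀ x ∈ N, u * x * u⁻¹ ∈ N := fun u hu x hx =>
    (Subgroup.mem_normalizer_iff.1 (Subgroup.mem_inf.1 hu).2 x).1 hx
  have hAconj : ∀ u ∈ S1, A.map (MulAut.conj u).toMonoidHom = A ∨ A.map (MulAut.conj u).toMonoidHom = B := by
    intro u hu
    refine hsub16 _ ?_ ?_ (by rw [card_map_conj, hA16])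
    · rintro _ ⟨a, ha, rfl⟩; exact hconjN u hu a (hAN ha)
    · rintro _ ⟨a, ha, rfl⟩; rw [← map_mul, hA2 a ha, map_one]
  have hstabA : ∀ u ∈ S1, A.map (MulAut.conj u).toMonoidHom = A → u ∈ N := by
    intro u hu h
    refine Subgroup.mem_inf.2 ⟨hS1S hu, Subgroup.mem_normalizer_iff.2 fun x => ?_⟩
    conv_rhs => rw [← h]
    rw [mem_map_conj, show u⁻¹ * (u * x * u⁻¹) * u = x by group]
  have hswap : ∀ u ∈ S1, u ∉ N → A.map (MulAut.conj u).toMonoidHom = B ∧
      B.map (MulAut.conj u).toMonoidHom = A := by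
    intro u hu huN
    have h1 := (hAconj u hu).resolve_left fun h => huN (hstabA u hu h)
    refine ⟨h1, ?_⟩
    refine (hsub16 _ ?_ ?_ (by rw [card_map_conj, hB16])).resolve_right fun h => ?_
    · rintro _ ⟨b, hb, rfl⟩; exact hconjN u hu b (hBN hb)
    · rintro _ ⟨b, hb, rfl⟩; rw [← map_mul, hB2 b hb, map_one]
    · exact hBne (Subgroup.map_injective (MulAut.conj u).injective (h.trans h1.symm))
  have hS1card : Nat.card S1 = 128 := by
    have hgS1 : g ∈ S1 := Subgroup.mem_inf.2 ⟨hgS, Subgroup.mem_normalizer_iff.2 hg⟩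
    have hidx : (N.subgroupOf S1).index = 2 := by
      rw [Subgroup.index_eq_two_iff]
      refine ⟨⟨g, hgS1⟩, fun ⟨u, hu⟩ => ?_⟩
      simp only [Subgroup.mem_subgroupOf, Subgroup.coe_mul]
      by_cases huN : u ∈ N
      · refine Or.inr ⟨huN, fun h => hgN ?_⟩
        simpa using mul_mem (inv_mem huN) h
      · refine Or.inl ⟨hstabA _ (mul_mem hu hgS1) ?_, huN⟩
        ext x
        rw [mem_map_conj, show (u * g)⁻¹ * x * (u * g) = g⁻¹ * (u⁻¹ * x * u) * g by group,
          ← mem_map_conj (H := A), ← mem_map_conj (H := A.map _), ← hBdef, (hswap u hu huN).2]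
    have h1 := (N.subgroupOf S1).card_mul_index
    rw [hidx, Nat.card_congr (Subgroup.subgroupOfEquivOfLe hNS1).toEquiv, hN64] at h1
    omega
  have hinS1 : ∀ X : Subgroup G, X ≤ S1 → (∀ x ∈ X, x * x = 1) → 16 ≤ Nat.card X → X ≤ N := by
    intro X hX hX2 h16 u hu
    by_contra huN
    have h2 := card_le_mul_inf (H := X) hNS1 hX
    rw [hN64, hS1card] at h2
    have hXc : ∀ x ∈ X, ∀ x' ∈ X, x * x' = x' * x := fun x hx x' hx' => by
      have h1 : (x * x')⁻¹ = x * x' := inv_eq_of_mul_eq_one_right (hX2 _ (mul_mem hx hx'))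
      rw [← h1, mul_inv_rev, inv_eq_of_mul_eq_one_right (hX2 x hx), inv_eq_of_mul_eq_one_right (hX2 x' hx')]
    have hle : X ⊓ N ≤ Z := by
      intro x hx
      obtain ⟨hxX, hxN⟩ := Subgroup.mem_inf.1 hx
      have hfix : u * x * u⁻¹ = x := by rw [hXc u hu x hxX, mul_inv_cancel_right]
      obtain ⟨e1, e2⟩ := hswap u (hX hu) huN
      rcases hinv x hxN (hX2 x hxX) with h | h
      · refine Subgroup.mem_inf.2 ⟨h, ?_⟩
        rw [← e1, ← hfix]; exact ⟨x, h, rfl⟩
      · refine Subgroup.mem_inf.2 ⟨?_, h⟩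
        rw [← e2, ← hfix]; exact ⟨x, h, rfl⟩
    have := card_le_of_inf_eq hle
    omega
  have hSS1 : S = S1 := by
    by_contra hne
    obtain ⟨s, hsS, hsn, hs⟩ := exists_normalizing hS (lt_of_le_of_ne hS1S (Ne.symm hne))
    apply hsn
    have key : ∀ X : Subgroup G, X ≤ N → (∀ x ∈ X, x * x = 1) → Nat.card X = 16 →
        ∀ x ∈ X, s * x * s⁻¹ ∈ N := by
      intro X hX hX2 h16 x hx
      refine hinS1 (X.map (MulAut.conj s).toMonoidHom) ?_ ?_ (by rw [card_map_conj, h16]) ⟨x, hx, rfl⟩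
      · rintro _ ⟨v, hv, rfl⟩; exact (hs v).1 (hNS1 (hX hv))
      · rintro _ ⟨v, hv, rfl⟩; rw [← map_mul, hX2 v hv, map_one]
    have hmap : N.map (MulAut.conj s).toMonoidHom = N := by
      refine Subgroup.eq_of_le_of_card_ge ?_ (by rw [card_map_conj])
      rintro _ ⟨n, hn, rfl⟩
      obtain ⟨a, ha, b, hb, rfl⟩ := hAB n hn
      rw [map_mul]
      exact mul_mem (key A hAN hA2 hA16 a ha) (key B hBN hB2 hB16 b hb)
    refine Subgroup.mem_inf.2 ⟨hsS, Subgroup.mem_normalizer_iff.2 fun x => ?_⟩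
    conv_rhs => rw [← hmap]
    rw [mem_map_conj, show s⁻¹ * (s * x * s⁻¹) * s = x by group]
  refine squareBound_of_sub S hS fun T U hT hUT hsq hcard => ?_
  rw [hSS1] at hT
  have hT128 := card_le_of_inf_eq hT
  rw [hS1card] at hT128
  have hUpos : 0 < Nat.card U := Nat.card_pos
  have hXn : ∀ X : Subgroup G, X ≤ T → Nat.card X ≤ 2 * Nat.card ↥(X ⊓ N) := fun X hX => by
    have h := card_le_mul_inf (H := X) hNS1 (hX.trans hT)
    rw [hN64, hS1card] at h
    omega
  by_cases hT32 : Nat.card T ≤ 63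
  · -- an elementary abelian subgroup of order 32
    have hU : U = ⊥ := Subgroup.card_eq_one.1 (by omega)
    rw [hU, Subgroup.card_bot] at hcard
    rw [hU] at hsq
    have hT2 : ∀ x ∈ T, x * x = 1 := fun x hx => Subgroup.mem_bot.1 (hsq x hx)
    have hTN := hinS1 T hT hT2 (by omega)
    have := hno32 T hTN (hTcomm hsq)
    omega
  have hTp : IsPGroup 2 T := (hSS1 ▸ hS : IsPGroup 2 S1).to_le hT
  obtain ⟨j, hj⟩ := (IsPGroup.iff_card (p := 2)).1 hTp
  have hcases : Nat.card T = 64 ∨ Nat.card T = 128 := by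
    rw [hj] at hT128 hT32 ⊢
    have h1 : 6 ≤ j := by
      by_contra h
      have := Nat.pow_le_pow_right two_pos (show j ≤ 5 by omega)
      omega
    have h2 : j ≤ 7 := by
      by_contra h
      have := Nat.pow_le_pow_right two_pos (show 8 ≤ j by omega)
      omega
    interval_cases j <;> simp
  rcases hcases with h64 | h128
  · have hU2 : Nat.card U ≤ 2 := by omega
    set X := T ⊓ N with hXdef
    have hX32 : 32 ≤ Nat.card X := by
      have : Nat.card T ≤ 2 * Nat.card X := hXn T le_rfl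
      omega
    have hXN : X ≤ N := inf_le_right
    by_cases hAX : A ≤ X
    · obtain ⟨b, hb, hbA⟩ := exists_mem_not_mem_of_card_lt (show Nat.card A < Nat.card X by omega)
      have h1 := card_le_values (X := A) (U := U) b fun a ha =>
        commutator_mem_of_sq hsq (Subgroup.mem_inf.1 hb).1 (Subgroup.mem_inf.1 (hAX ha)).1
      have : Nat.card U * Nat.card ↥(A ⊓ centralizer {b}) ≤ 2 * 4 :=
        Nat.mul_le_mul hU2 (hc4 b (hXN hb) hbA)
      omega
    · have h8 : 8 ≤ Nat.card ↥(X ⊓ A) := by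
        have := hN2 X hXN; omega
      have hlt : Nat.card ↥(X ⊓ A) ≤ 8 := by
        have hdvd : Nat.card ↥(X ⊓ A) ∣ 16 := hA16 ▸ Subgroup.card_dvd_of_le inf_le_right
        have hne16 : Nat.card ↥(X ⊓ A) ≠ 16 := fun h => hAX
          ((Subgroup.eq_of_le_of_card_ge (inf_le_right : X ⊓ A ≤ A) (by omega)).ge.trans inf_le_left)
        obtain ⟨c, hc, hc'⟩ := (Nat.dvd_prime_pow Nat.prime_two).1 (show Nat.card ↥(X ⊓ A) ∣ 2 ^ 4 from hdvd)
        rw [hc'] at hne16 ⊢
        interval_cases c <;> omega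
      obtain ⟨a, ha, haZ⟩ := exists_mem_not_mem_of_card_lt
        (show Nat.card Z < Nat.card ↥(X ⊓ A) by omega)
      have h1 := card_le_values (X := X) (U := U) a fun x hx => commutator_mem_of_sq hsq
        (Subgroup.mem_inf.1 (Subgroup.mem_inf.1 ha).1).1 (Subgroup.mem_inf.1 hx).1
      have hle : X ⊓ centralizer {a} ≤ X ⊓ A := by
        intro x hx
        obtain ⟨hxX, hxa⟩ := Subgroup.mem_inf.1 hx
        refine Subgroup.mem_inf.2 ⟨hxX, ?_⟩
        obtain ⟨a', ha', b, hb, rfl⟩ := hAB x (hXN hxX)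
        by_contra hxA
        have hbA : b ∉ A := fun h => hxA (mul_mem ha' h)
        have hxa' := Subgroup.mem_centralizer_singleton_iff.1 hxa
        refine haZ (hCb b hb hbA a (Subgroup.mem_inf.1 ha).2 ?_)
        refine mul_left_cancel (a := a') ?_
        rw [← mul_assoc, ← mul_assoc, hAc a' ha' a (Subgroup.mem_inf.1 ha).2, mul_assoc, ← hxa']
      have : Nat.card U * Nat.card ↥(X ⊓ centralizer {a}) ≤ 2 * 8 :=
        Nat.mul_le_mul hU2 ((card_le_of_inf_eq hle).trans hlt)
      omega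
  · have hTS : T = S1 := Subgroup.eq_of_le_of_card_ge hT (by omega)
    obtain ⟨b, hb, hbA⟩ := SetLike.not_le_iff_exists.1 hBA
    have hBnorm : ∀ n ∈ N, ∀ x ∈ B, n * x * n⁻¹ ∈ B := by
      intro n hn x hx
      obtain ⟨a0, ha0, rfl⟩ := hx
      have h1 : g⁻¹ * n * g ∈ N := (hg _).2 (by simpa [mul_assoc] using hn)
      refine ⟨g⁻¹ * n * g * a0 * (g⁻¹ * n * g)⁻¹, hNA _ h1 a0 ha0, ?_⟩
      simp [mul_assoc]
    have h1 := card_le_values (X := A) (U := U ⊓ Z) b fun a ha => Subgroup.mem_inf.2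
      ⟨commutator_mem_of_sq hsq (hTS ▸ hNS1 (hBN hb)) (hTS ▸ hNS1 (hAN ha)), Subgroup.mem_inf.2
        ⟨mul_mem (hNA b (hBN hb) a ha) (inv_mem ha), by
          rw [show b * a * b⁻¹ * a⁻¹ = b * (a * b⁻¹ * a⁻¹) by group]
          exact mul_mem hb (hBnorm a (hAN ha) _ (inv_mem hb))⟩⟩
    have h2 := hc4 b (hBN hb) hbA
    have h3 : 4 ≤ Nat.card ↥(U ⊓ Z) := by
      by_contra h
      have : Nat.card ↥(U ⊓ Z) * Nat.card ↥(A ⊓ centralizer {b}) ≤ 3 * 4 := Nat.mul_le_mul (by omega) h2
      omega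
    have hUZ : U ≤ Z :=
      (Subgroup.eq_of_le_of_card_ge (inf_le_left : U ⊓ Z ≤ U) (by omega)).ge.trans inf_le_right
    obtain ⟨u, hu, huN⟩ := exists_mem_not_mem_of_card_lt (show Nat.card N < Nat.card S1 by omega)
    obtain ⟨a, ha, haZ⟩ := exists_mem_not_mem_of_card_lt (show Nat.card Z < Nat.card A by omega)
    obtain ⟨e1, e2⟩ := hswap u hu huN
    have h4 := hUZ (commutator_mem_of_sq hsq (hTS ▸ hu) (hTS ▸ hNS1 (hAN ha)) : u * a * u⁻¹ * a⁻¹ ∈ U)
    have h5 : u * a * u⁻¹ ∈ A := by simpa using mul_mem (Subgroup.mem_inf.1 h4).1 ha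
    have h6 : u * a * u⁻¹ ∈ B := e1 ▸ ⟨a, ha, rfl⟩
    have hZmap : Z.map (MulAut.conj u).toMonoidHom = Z := by
      rw [hZdef, Subgroup.map_inf _ _ _ (MulAut.conj u).injective, e1, e2, inf_comm]
    have h7 : u * a * u⁻¹ ∈ Z.map (MulAut.conj u).toMonoidHom := by
      rw [hZmap]; exact Subgroup.mem_inf.2 ⟨h5, h6⟩
    rw [mem_map_conj, show u⁻¹ * (u * a * u⁻¹) * u = a by group] at h7
    exact haZ h7

variable {Ω : Type*} [MulAction G Ω] [Finite Ω] (hb : ∀ g : G, g ≠ 1 → (fixedBy Ω g).ncard ≤ 4)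
include hb

/-- Two sets with kernels of order four generating the stabiliser of order 16. -/
theorem kernel_four_sixteen {S A : Subgroup G} (hS : IsPGroup 2 S) {F : Set Ω} (hF : F.ncard = 4)
    (hA : S ⊓ stabilizer G F = A) (hA16 : Nat.card A = 16) {y : G} (hyS : y ∈ S) (hyF : y • F ≠ F)
    (hy : ∀ x, x ∈ A ↔ y * x * y⁻¹ ∈ A) (hK : Nat.card ↥(A ⊓ fixingSubgroup G F) = 4) :
    H64.RankFour.SquareBound ↥S := by
  classical
  haveI : Fact (Nat.Prime 2) := ⟨Nat.prime_two⟩
  set K := A ⊓ fixingSubgroup G F with hKdef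
  set N := S ⊓ normalizer (A : Set G) with hNdef
  have hAS : A ≤ S := hA ▸ inf_le_left
  have hAF : A ≤ stabilizer G F := hA ▸ inf_le_right
  have hAN : A ≤ N := le_inf hAS le_normalizer
  have hNA : ∀ n ∈ N, ∀ a, a ∈ A ↔ n * a * n⁻¹ ∈ A := fun n hn a =>
    Subgroup.mem_normalizer_iff.1 (Subgroup.mem_inf.1 hn).2 a
  have hnstab : ∀ n ∈ N, n • F = F → n ∈ A := fun n hn h =>
    hA ▸ Subgroup.mem_inf.2 ⟨(Subgroup.mem_inf.1 hn).1, mem_stabilizer_iff.2 h⟩
  have hyN : y ∈ N := Subgroup.mem_inf.2 ⟨hyS, Subgroup.mem_normalizer_iff.2 hy⟩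
  have hyA : y ∉ A := fun h => hyF (mem_stabilizer_iff.1 (hAF h))
  set F' := y • F with hF'def
  have hF' : F'.ncard = 4 := by rw [hF'def, Set.ncard_smul_set, hF]
  have hAF' : A ≤ stabilizer G F' := by
    intro a ha
    have h1 : y⁻¹ * a * y ∈ A := (hy _).2 (by simpa [mul_assoc] using ha)
    rw [mem_stabilizer_iff, hF'def]
    calc a • y • F = y • ((y⁻¹ * a * y) • F) := by rw [← mul_smul, ← mul_smul]; group
      _ = y • F := by rw [mem_stabilizer_iff.1 (hAF h1)]
  have hKconj : ∀ n ∈ N, K.map (MulAut.conj n).toMonoidHom = A ⊓ fixingSubgroup G (n • F) := by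
    intro n hn
    ext x
    rw [mem_map_conj, Subgroup.mem_inf, Subgroup.mem_inf, ← conj_mem_pw (g := n) (F := F),
      hNA n hn (n⁻¹ * x * n), show n * (n⁻¹ * x * n) * n⁻¹ = x by group]
  have hK' : Nat.card ↥(A ⊓ fixingSubgroup G F') = 4 := by
    rw [hF'def, ← hKconj y hyN, card_map_conj, hK]
  obtain ⟨A0, hA0, hA0c, hA0mem⟩ := exists_product hb hF hF' hyF.symm hAF hAF'
  rw [← hKdef, hK, hK'] at hA0c
  have hA0eq : A0 = A := Subgroup.eq_of_le_of_card_ge hA0 (by omega)
  rw [hA0eq] at hA0mem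
  have hAc : ∀ a ∈ A, ∀ b ∈ A, a * b = b * a := by
    intro a ha b hb'
    obtain ⟨k, hk, k', hk', rfl⟩ := (hA0mem a).1 ha
    obtain ⟨l, hl, l', hl', rfl⟩ := (hA0mem b).1 hb'
    have e1 : k * l = l * k := comm_of_card_sq (p := 2) (by rw [hK]; norm_num) hk hl
    have e2 : k' * l' = l' * k' := comm_of_card_sq (p := 2) (by rw [hK']; norm_num) hk' hl'
    have e3 : ∀ u ∈ K, ∀ v ∈ A ⊓ fixingSubgroup G F', u * v = v * u := fun u hu v hv =>
      kernels_commute hb hF hF' hyF.symm (Subgroup.mem_inf.1 hu).2 (Subgroup.mem_inf.1 hv).2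
        (hAF' (Subgroup.mem_inf.1 hu).1) (hAF (Subgroup.mem_inf.1 hv).1)
    calc k * k' * (l * l') = k * (k' * l) * l' := by group
      _ = k * (l * k') * l' := by rw [e3 l hl k' hk']
      _ = k * l * (k' * l') := by group
      _ = l * k * (l' * k') := by rw [e1, e2]
      _ = l * (k * l') * k' := by group
      _ = l * (l' * k) * k' := by rw [e3 k hk l' hl']
      _ = _ := by group
  -- outer elements centralise at most four elements of `A`
  have hc4 : ∀ b ∈ N, b ∉ A → Nat.card ↥(A ⊓ centralizer {b}) ≤ 4 := by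
    intro b hbN hbA
    have hbot : A ⊓ centralizer {b} ⊓ K = ⊥ := by
      rw [eq_bot_iff]
      intro w hw
      obtain ⟨hw1, hw2⟩ := Subgroup.mem_inf.1 hw
      rw [Subgroup.mem_bot]
      by_contra hw0
      have hfix := fix_eq_of_mem_pw hb hF hw0 (Subgroup.mem_inf.1 hw2).2
      refine hbA (hnstab b hbN ?_)
      rw [← hfix]
      exact mem_stabilizer_iff.1 (mem_stab_of_commute
        (Subgroup.mem_centralizer_singleton_iff.1 (Subgroup.mem_inf.1 hw1).2).symm)
    have := card_le_mul_inf (H := A ⊓ centralizer {b}) (K := K) (L := A) inf_le_left inf_le_left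
    rw [hbot, Subgroup.card_bot, hA16, hK] at this
    omega
  -- the orbit of the kernel
  set N' := A.subgroupOf N with hN'def
  have horb : 3 * N'.index ≤ 15 := by
    haveI := Fintype.ofFinite (↥N ⧸ N')
    let f : (↥N ⧸ N') × {k : K // k ≠ 1} → {a : A // a ≠ 1} := fun p =>
      ⟨⟨(p.1.out : G) * (p.2.1 : G) * (p.1.out : G)⁻¹,
        (hNA _ p.1.out.2 _).1 (Subgroup.mem_inf.1 p.2.1.2).1⟩, fun h => p.2.2 (Subtype.ext (by
          have h1 := congrArg Subtype.val h
          simpa using h1))⟩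
    have hf : Function.Injective f := by
      rintro ⟨q, k, hk⟩ ⟨q', k', hk'⟩ h
      have h1 : (q.out : G) * (k : G) * (q.out : G)⁻¹ = q'.out * (k' : G) * (q'.out : G)⁻¹ :=
        congrArg (fun z => ((z.1 : A) : G)) h
      have hfix : ∀ (n : N) (l : K), l ≠ 1 →
          fixedBy Ω ((n : G) * (l : G) * (n : G)⁻¹) = (n : G) • F := fun n l hl => by
        rw [fixedBy_conj', fix_eq_of_mem_pw hb hF (fun e => hl (Subtype.ext e))
          (Subgroup.mem_inf.1 l.2).2]
      have h2 : (q.out : G) • F = (q'.out : G) • F := by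
        rw [← hfix q.out k hk, ← hfix q'.out k' hk', h1]
      have hqq : q = q' := by
        rw [← QuotientGroup.out_eq' q, ← QuotientGroup.out_eq' q', QuotientGroup.eq]
        refine Subgroup.mem_subgroupOf.2 (hnstab _ (mul_mem (inv_mem q.out.2) q'.out.2) ?_)
        simp only [Subgroup.coe_mul, InvMemClass.coe_inv]
        rw [mul_smul, ← h2, inv_smul_smul]
      subst hqq
      rw [mul_left_inj, mul_right_inj] at h1
      exact Prod.ext rfl (Subtype.ext (Subtype.ext h1))
    have := Nat.card_le_card_of_injective f hf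
    rw [Nat.card_prod, ← Subgroup.index_eq_card] at this
    have e1 : Nat.card {k : K // k ≠ 1} = 3 := by
      haveI := Fintype.ofFinite K
      rw [Nat.card_eq_fintype_card, Fintype.card_subtype_compl, Fintype.card_subtype_eq,
        ← Nat.card_eq_fintype_card, hK]
    have e2 : Nat.card {a : A // a ≠ 1} = 15 := by
      haveI := Fintype.ofFinite A
      rw [Nat.card_eq_fintype_card, Fintype.card_subtype_compl, Fintype.card_subtype_eq,
        ← Nat.card_eq_fintype_card, hA16]
    rw [e1, e2] at this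
    omega
  have hNcard : Nat.card N = 16 * N'.index := by
    have := N'.card_mul_index
    rw [Nat.card_congr (Subgroup.subgroupOfEquivOfLe hAN).toEquiv, hA16] at this
    omega
  obtain ⟨j, hj⟩ := (IsPGroup.iff_card (p := 2)).1 (hS.to_le (inf_le_left : N ≤ S))
  have hNgt : 16 < Nat.card N := by
    by_contra h
    exact hyA (Subgroup.eq_of_le_of_card_ge hAN (by omega) ▸ hyN)
  have hN : Nat.card N = 32 ∨ Nat.card N = 64 := by
    rw [hj] at hNcard hNgt ⊢
    have h1 : j ≤ 6 := by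
      by_contra h
      have := Nat.pow_le_pow_right two_pos (show 7 ≤ j by omega)
      omega
    interval_cases j <;> first | (norm_num at hNgt; done) | norm_num
  rcases hN with hN32 | hN64
  · -- orbit two
    have hSN : S = N := by
      by_contra hne
      obtain ⟨u, huS, huN, hu⟩ := exists_normalizing hS (lt_of_le_of_ne inf_le_left (Ne.symm hne))
      set B := A.map (MulAut.conj u).toMonoidHom with hBdef
      have hBN : B ≤ N := by
        rintro _ ⟨a, ha, rfl⟩; exact (hu a).1 (hAN ha)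
      have hBA : ¬ B ≤ A := fun h => huN (Subgroup.mem_inf.2 ⟨huS, Subgroup.mem_normalizer_iff.2 fun x => by
        have hBe : B = A := Subgroup.eq_of_le_of_card_ge h (by rw [hBdef, card_map_conj])
        conv_rhs => rw [← hBe]
        rw [hBdef, mem_map_conj, show u⁻¹ * (u * x * u⁻¹) * u = x by group]⟩)
      obtain ⟨b, hbB, hbA⟩ := SetLike.not_le_iff_exists.1 hBA
      have h1 := card_le_mul_inf (H := B) hAN hBN
      rw [hA16, hN32, hBdef, card_map_conj, hA16] at h1
      have h2 := hc4 b (hBN hbB) hbA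
      have hle : B ⊓ A ≤ A ⊓ centralizer {b} := by
        intro x hx
        obtain ⟨hxB, hxA⟩ := Subgroup.mem_inf.1 hx
        refine Subgroup.mem_inf.2 ⟨hxA, Subgroup.mem_centralizer_singleton_iff.2 ?_⟩
        obtain ⟨v, hv, rfl⟩ := hxB
        obtain ⟨w, hw, rfl⟩ := hbB
        rw [← map_mul, ← map_mul, hAc v hv w hw]
      have := card_le_of_inf_eq hle
      rw [hBdef] at this
      omega
    refine squareBound_of_small S hS (by rw [hSN, hN32]) fun _ => ?_
    obtain ⟨t, htK, ht0⟩ := exists_mem_not_mem_of_card_lt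
      (show Nat.card (⊥ : Subgroup G) < Nat.card K by rw [Subgroup.card_bot, hK]; norm_num)
    refine ⟨y, hyS, t, hAS (Subgroup.mem_inf.1 htK).1, fun h => ?_⟩
    have h2 := fix_eq_of_mem_pw hb hF (fun e => ht0 (Subgroup.mem_bot.2 e)) (Subgroup.mem_inf.1 htK).2
    exact hyF ((congrArg (y • ·) h2.symm).trans ((mem_stabilizer_iff.1 (mem_stab_of_commute h)).trans h2))
  · -- orbit four: `A` is elementary abelian
    have hsq4 : ∀ {U : Subgroup G}, Nat.card U = 4 → ∀ s ∈ U, ∀ t ∈ U, s ≠ 1 → t ≠ 1 → s ≠ t →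
        s * s = 1 → t * t = 1 → ∀ x ∈ U, x * x = 1 := by
      intro U hU s hs t ht hs1 ht1 hst hss htt x hx
      obtain ⟨V, hV4, hV, hV2⟩ := exists_klein hss htt
        (comm_of_card_sq (p := 2) (by rw [hU]; norm_num) hs ht) hs1 ht1 hst
      have hVU : V = U := by
        refine Subgroup.eq_of_le_of_card_ge (fun v hv => ?_) (by omega)
        rcases (hV v).1 hv with rfl | rfl | rfl | rfl
        · exact one_mem _
        · exact hs
        · exact ht
        · exact mul_mem hs ht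
      exact hV2 x (hVU ▸ hx)
    obtain ⟨t, htK, hto⟩ := exists_orderOf_of_ne_bot (p := 2)
      (hS.to_le ((inf_le_left : K ≤ A).trans hAS)) (fun h => by
        have h' : Nat.card K ≤ Nat.card (⊥ : Subgroup G) := card_le_of_inf_eq (le_of_eq h)
        rw [Subgroup.card_bot] at h'
        omega)
    have ht1 : t ≠ 1 := fun e => by rw [e, orderOf_one] at hto; omega
    have htt : t * t = 1 := by rw [← pow_two, ← hto, pow_orderOf_eq_one]
    have hKexp : ∀ x ∈ K, x * x = 1 := by
      by_contra hex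
      -- only one involution in `K`
      have huniq : ∀ s ∈ K, s * s = 1 → s = 1 ∨ s = t := by
        intro s hs hss
        by_contra h
        push Not at h
        exact hex (hsq4 hK s hs t htK h.1 ht1 h.2 hss htt)
      set t' := y * t * y⁻¹ with ht'def
      have hAinv : ∀ a ∈ A, a * a = 1 → a = 1 ∨ a = t ∨ a = t' ∨ a = t * t' := by
        intro a ha haa
        obtain ⟨k, hk, k', hk', rfl⟩ := (hA0mem a).1 ha
        have e : k * k * (k' * k') = 1 * 1 := by
          rw [one_mul, ← haa]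
          have e3 := kernels_commute hb hF hF' hyF.symm (Subgroup.mem_inf.1 hk).2 (Subgroup.mem_inf.1 hk').2
            (hAF' (Subgroup.mem_inf.1 hk).1) (hAF (Subgroup.mem_inf.1 hk').1)
          calc k * k * (k' * k') = k * (k * k') * k' := by group
            _ = k * (k' * k) * k' := by rw [e3]
            _ = k * k' * (k * k') := by group
        obtain ⟨e1, e2⟩ := kernels_unique hb hF hF' hyF.symm
          (mul_mem (Subgroup.mem_inf.1 hk).2 (Subgroup.mem_inf.1 hk).2)
          (mul_mem (Subgroup.mem_inf.1 hk').2 (Subgroup.mem_inf.1 hk').2) (one_mem _) (one_mem _) e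
        have hk'' : y⁻¹ * k' * y ∈ K := by
          rw [← mem_map_conj (H := K), hKconj y hyN]; exact hk'
        rcases huniq _ hk'' (by rw [show y⁻¹ * k' * y * (y⁻¹ * k' * y) = y⁻¹ * (k' * k') * y by group, e2]; simp)
          with h | h <;> rcases huniq k hk e1 with rfl | rfl
        · left; have : k' = 1 := by simpa [mul_assoc] using congrArg (fun z => y * z * y⁻¹) h
          rw [this, one_mul]
        · right; left; have : k' = 1 := by simpa [mul_assoc] using congrArg (fun z => y * z * y⁻¹) h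
          rw [this, mul_one]
        · right; right; left; rw [one_mul, ht'def, ← h]; group
        · right; right; right; rw [ht'def, ← h]; group
      haveI := Fintype.ofFinite (↥N ⧸ N')
      have hval : ∀ q : ↥N ⧸ N', (q.out : G) * t * (q.out : G)⁻¹ ∈ ({t, t', t * t'} : Finset G) := by
        intro q
        have h1 : (q.out : G) * t * (q.out : G)⁻¹ ∈ A := (hNA _ q.out.2 _).1 (Subgroup.mem_inf.1 htK).1
        rcases hAinv _ h1 (by rw [show (q.out : G) * t * (q.out : G)⁻¹ * ((q.out : G) * t * (q.out : G)⁻¹)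
            = (q.out : G) * (t * t) * (q.out : G)⁻¹ by group, htt]; simp) with h | h | h | h
        · exact absurd (by simpa using h) ht1
        all_goals simp [h]
      have h3 : Fintype.card (↥N ⧸ N') ≤ ({t, t', t * t'} : Finset G).card := by
        rw [← Finset.card_univ]
        refine Finset.card_le_card_of_injOn (fun q => (q.out : G) * t * (q.out : G)⁻¹)
          (fun q _ => hval q) ?_
        intro q _ q' _ h
        rw [← QuotientGroup.out_eq' q, ← QuotientGroup.out_eq' q', QuotientGroup.eq]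
        refine Subgroup.mem_subgroupOf.2 (hnstab _ (mul_mem (inv_mem q.out.2) q'.out.2) ?_)
        simp only [Subgroup.coe_mul, InvMemClass.coe_inv]
        have hf := fix_eq_of_mem_pw hb hF ht1 (Subgroup.mem_inf.1 htK).2
        have h2 : (q.out : G) • F = (q'.out : G) • F := by
          rw [← hf, ← fixedBy_conj', ← fixedBy_conj']; exact congrArg _ h
        rw [mul_smul, ← h2, inv_smul_smul]
      rw [← Nat.card_eq_fintype_card, ← Subgroup.index_eq_card] at h3
      have := Finset.card_le_three (a := t) (b := t') (c := t * t')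
      omega
    refine squareBound_of_sixteen hS hAS hA16 ?_ hN64 hc4
    intro a ha
    obtain ⟨k, hk, k', hk', rfl⟩ := (hA0mem a).1 ha
    have e1 := hAc k (Subgroup.mem_inf.1 hk).1 k' (Subgroup.mem_inf.1 hk').1
    have hk2 : k' * k' = 1 := by
      have hk'' : y⁻¹ * k' * y ∈ K := by
        rw [← mem_map_conj (H := K), hKconj y hyN]; exact hk'
      have := congrArg (fun z => y * z * y⁻¹) (hKexp _ hk'')
      simpa [mul_assoc] using this
    calc k * k' * (k * k') = k * (k' * k) * k' := by group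
      _ = k * (k * k') * k' := by rw [e1]
      _ = (k * k) * (k' * k') := by group
      _ = 1 := by rw [hKexp k hk, hk2, one_mul]

end Cfsg.Agent.H19.Fixity
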