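import Cfsg.Agent.H19.Fixity.KernelTwo
import Cfsg.Agent.H19.Fixity.KernelFourSixteen
import Cfsg.Agent.H36.SmallInvolution
import Cfsg.Agent.S1235

/-!
# Fixity four: either small sectional rank or one fixed set in a Sylow 2-subgroup
-/

set_option autoImplicit false
set_option linter.unusedSectionVars false
set_option linter.style.haveILetI false

namespace Cfsg.Agent.H19.Fixity

open MulAction Subgroup
open scoped Pointwise

universe u

variable {G : Type u} {Ω : Type*} [Group G] [MulAction G Ω] [Finite G] [Finite Ω]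
  (hb : ∀ g : G, g ≠ 1 → (fixedBy Ω g).ncard ≤ 4)
include hb

/-- Two invariant sets with nontrivial kernels. -/
theorem two_invariant {S : Subgroup G} (hS : IsPGroup 2 S) {F F' : Set Ω} (hF : F.ncard = 4)
    (hF' : F'.ncard = 4) (hne : F ≠ F') (hSF : S ≤ stabilizer G F) (hSF' : S ≤ stabilizer G F') :
    H64.RankFour.SquareBound ↥S := by
  haveI : Fact (Nat.Prime 2) := ⟨Nat.prime_two⟩
  obtain ⟨i, hi, hid⟩ := card_eq_kernel_mul (p := 2) (Set.toFinite F) hS hSF
  have hK4 : Nat.card ↥(S ⊓ fixingSubgroup G F) ≤ 4 :=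
    card_kernel_le hb hF hF' hne inf_le_right (inf_le_left.trans hSF')
  rw [hF] at hid
  have hi3 : i ≤ 3 := by
    by_contra h
    have : 2 ^ 4 ∣ Nat.factorial 4 := (pow_dvd_pow 2 (by omega)).trans hid
    norm_num [Nat.factorial] at this
  have h8 : 2 ^ i ≤ 8 := Nat.pow_le_pow_right two_pos hi3
  refine squareBound_of_small S hS ?_ fun h32 => ?_
  · rw [hi]
    calc Nat.card ↥(S ⊓ fixingSubgroup G F) * 2 ^ i ≤ 4 * 8 := Nat.mul_le_mul hK4 h8
      _ = 32 := rfl
  · have e : 2 ^ i = 8 := by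
      by_contra h
      have : Nat.card ↥(S ⊓ fixingSubgroup G F) * 2 ^ i ≤ 4 * 7 := Nat.mul_le_mul hK4 (by omega)
      omega
    obtain ⟨a, ha, b, hb', -, -, hab⟩ := exists_noncomm_img (Ω := Ω) hF hSF (by rw [hi, e])
    refine ⟨a, ha, b, hb', fun h => hab ?_⟩
    rw [h]; simp

/-- A fix-type involution whose fixed set is moved. -/
theorem moving {S : Subgroup G} (hS : IsPGroup 2 S) {t : G} (htS : t ∈ S) (ht : orderOf t = 2)
    (hF : (fixedBy Ω t).ncard = 4) (hmove : ¬ S ≤ stabilizer G (fixedBy Ω t)) :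
    H64.RankFour.SquareBound ↥S ∨ Survivor Ω S t := by
  haveI : Fact (Nat.Prime 2) := ⟨Nat.prime_two⟩
  set F := fixedBy Ω t with hFdef
  set M := S ⊓ stabilizer G F with hMdef
  have hlt : M < S := lt_of_le_of_ne inf_le_left fun e => hmove (e ▸ inf_le_right)
  obtain ⟨y, hyS, hyM, hy⟩ := exists_normalizing hS hlt
  have hyF : y • F ≠ F := fun e => hyM (Subgroup.mem_inf.2 ⟨hyS, mem_stabilizer_iff.2 e⟩)
  have hyc : y • F = fixedBy Ω (y * t * y⁻¹) := (fixedBy_conj' y t).symm
  have hF' : (y • F).ncard = 4 := by rw [Set.ncard_smul_set, hF]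
  have hMF' : M ≤ stabilizer G (y • F) := by
    intro a ha
    have h1 : y⁻¹ * a * y ∈ M := (hy _).2 (by simpa [mul_assoc] using ha)
    rw [mem_stabilizer_iff]
    calc a • y • F = y • ((y⁻¹ * a * y) • F) := by rw [← mul_smul, ← mul_smul]; group
      _ = y • F := by rw [mem_stabilizer_iff.1 (Subgroup.mem_inf.1 h1).2]
  have hMp : IsPGroup 2 M := hS.to_le inf_le_left
  have hK4 : Nat.card ↥(M ⊓ fixingSubgroup G F) ≤ 4 :=
    card_kernel_le hb hF hF' (Ne.symm hyF) inf_le_right (inf_le_left.trans hMF')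
  obtain ⟨j, hj⟩ := (IsPGroup.iff_card (p := 2)).1
    (hMp.to_le (inf_le_left : M ⊓ fixingSubgroup G F ≤ M))
  have hj1 : 1 ≤ j := by
    by_contra h
    have hbot : M ⊓ fixingSubgroup G F = ⊥ :=
      Subgroup.card_eq_one.1 (by rw [hj, show j = 0 by omega, pow_zero])
    have htK : t ∈ M ⊓ fixingSubgroup G F :=
      Subgroup.mem_inf.2 ⟨Subgroup.mem_inf.2 ⟨htS, self_mem_stab t⟩, self_mem_pw t⟩
    rw [hbot, Subgroup.mem_bot] at htK
    rw [htK, orderOf_one] at ht
    omega
  have hj2 : j ≤ 2 := by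
    by_contra h
    have := Nat.pow_le_pow_right two_pos (show 3 ≤ j by omega)
    omega
  rcases (show j = 1 ∨ j = 2 by omega) with rfl | rfl
  · exact kernel_two hb hS htS ht hF hyS hyF hy hj
  · left
    replace hj : Nat.card ↥(M ⊓ fixingSubgroup G F) = 4 := hj
    obtain ⟨i, hi, hid⟩ := card_eq_kernel_mul (p := 2) (Set.toFinite F) hMp inf_le_right
    rw [hj] at hi
    rw [hF] at hid
    have hi3 : i ≤ 3 := by
      by_contra h
      have : 2 ^ 4 ∣ Nat.factorial 4 := (pow_dvd_pow 2 (by omega)).trans hid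
      norm_num [Nat.factorial] at this
    have hK' : Nat.card ↥(M ⊓ fixingSubgroup G (y • F)) = 4 := by
      rw [← hj, ← card_map_conj (M ⊓ fixingSubgroup G F) y]
      congr 2
      ext x
      rw [mem_map_conj]
      refine Iff.trans Subgroup.mem_inf (Iff.trans ?_ Subgroup.mem_inf.symm)
      rw [← conj_mem_pw (g := y) (F := F) (x := y⁻¹ * x * y),
        hy (y⁻¹ * x * y), show y * (y⁻¹ * x * y) * y⁻¹ = x by group]
    obtain ⟨A, hAM, hA, -⟩ := exists_product hb hF hF' (Ne.symm hyF) (M := M) inf_le_right hMF'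
    rw [hj, hK'] at hA
    have h16 : 16 ≤ Nat.card M := by
      have := card_le_of_inf_eq hAM; omega
    rcases (show i = 0 ∨ i = 1 ∨ i = 2 ∨ i = 3 by omega) with rfl | rfl | rfl | rfl
    · replace hi : Nat.card M = 4 := hi
      omega
    · replace hi : Nat.card M = 8 := hi
      omega
    · replace hi : Nat.card M = 16 := hi
      exact kernel_four_sixteen hb hS hF hMdef.symm hi hyS hyF hy hj
    · replace hi : Nat.card M = 32 := hi
      exact kernel_four_thirtytwo hb hF hF' (Ne.symm hyF) hS inf_le_left inf_le_right hMF' le_rfl hi hj hK'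

/-- The alternative for a Sylow 2-subgroup. -/
theorem fix_four_sylow [IsSimpleGroup G] (hna : ¬ IsMulCommutative G)
    (hex : ∃ t : G, orderOf t = 2 ∧ (fixedBy Ω t).ncard = 4) (S : Sylow 2 G) :
    Cfsg.SectionalPRankLE 2 4 G ∨
      ∃ F : Set Ω, F.ncard = 4 ∧ (S : Subgroup G) ≤ stabilizer G F ∧
        ∀ x ∈ (S : Subgroup G), orderOf x = 2 → (fixedBy Ω x).ncard = 4 → fixedBy Ω x = F := by
  haveI : Fact (Nat.Prime 2) := ⟨Nat.prime_two⟩
  obtain ⟨t₀, ht₀, ht₀4⟩ := hex
  have hfin : ∀ (R : Sylow 2 G), H64.RankFour.SquareBound ↥(R : Subgroup G) →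
      Cfsg.SectionalPRankLE 2 4 G := fun R h => Cfsg.Agent.S1235.sectional_of_squareBound R h
  by_cases hmove : ∃ t ∈ (S : Subgroup G), orderOf t = 2 ∧ (fixedBy Ω t).ncard = 4 ∧
      ¬ (S : Subgroup G) ≤ stabilizer G (fixedBy Ω t)
  · left
    obtain ⟨t, htS, ht, hF, hm⟩ := hmove
    rcases moving hb S.isPGroup' htS ht hF hm with h | hsurv
    · exact hfin S h
    obtain ⟨y, hyS, hyF, h8, hMc, hyt, hsq, g, hgM, hg1⟩ := hsurv
    set M := (S : Subgroup G) ⊓ centralizer {t} with hMdef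
    obtain ⟨n, hn⟩ := (IsPGroup.iff_card (p := 2)).1 S.isPGroup'
    by_cases hn5 : 5 ≤ n
    swap
    · refine hfin S (squareBound_of_small _ S.isPGroup' ?_ fun h32 => absurd h32 ?_)
      · rw [hn]; exact (Nat.pow_le_pow_right two_pos (show n ≤ 5 by omega)).trans le_rfl
      · rw [hn]
        have := Nat.pow_le_pow_right two_pos (show n ≤ 4 by omega)
        omega
    have h16 : 2 ^ 4 ∣ Nat.card (centralizer ({t} : Set G)) := by
      by_contra hc
      refine H36.false_of_small_involution hna ht (k := 3) (n := n) (Or.inr ⟨le_rfl, hn5⟩) ?_ ?_ hc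
      · rw [← hn]; exact Subgroup.card_subgroup_dvd_card _
      · intro hd
        have := S.pow_dvd_card_of_pow_dvd_card hd
        rw [hn, Nat.pow_dvd_pow_iff_le_right (by norm_num)] at this
        omega
    have hMC : M ≤ centralizer {t} := inf_le_right
    obtain ⟨D₀, hD₀, hMD₀⟩ := Sylow.exists_subgroup_card_pow_prime_le (G := ↥(centralizer ({t} : Set G)))
      2 (n := 3) (m := 4) h16 (M.subgroupOf (centralizer {t}))
      (by rw [Nat.card_congr (Subgroup.subgroupOfEquivOfLe hMC).toEquiv, h8]; norm_num) (by norm_num)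
    set D := D₀.map (centralizer ({t} : Set G)).subtype with hDdef
    have hD : Nat.card D = 2 ^ 4 := by
      rw [hDdef, Subgroup.card_map_of_injective (Subgroup.subtype_injective _), hD₀]
    have hMD : M ≤ D := fun x hx => ⟨⟨x, hMC hx⟩, hMD₀ (Subgroup.mem_subgroupOf.2 hx), rfl⟩
    have hDC : D ≤ centralizer {t} := Subgroup.map_subtype_le _
    obtain ⟨P, hP⟩ := (IsPGroup.of_card hD).exists_le_sylow
    have htM : t ∈ M := Subgroup.mem_inf.2 ⟨htS, Subgroup.mem_centralizer_singleton_iff.2 rfl⟩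
    have htP : t ∈ (P : Subgroup G) := hP (hMD htM)
    by_cases hPF : (P : Subgroup G) ≤ stabilizer G (fixedBy Ω t)
    swap
    · rcases moving hb P.isPGroup' htP ht hF hPF with h | ⟨_, -, -, h8', -⟩
      · exact hfin P h
      · exfalso
        have := card_le_of_inf_eq (le_inf hP hDC)
        rw [hD, h8'] at this
        norm_num at this
    set t' := y * t * y⁻¹ with ht'def
    have hF'4 : (fixedBy Ω t').ncard = 4 := by rw [ht'def, ncard_fixedBy_conj, hF]
    have ht' : orderOf t' = 2 := by rw [ht'def, orderOf_conj', ht]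
    have ht'F : fixedBy Ω t' = y • fixedBy Ω t := fixedBy_conj' y t
    have ht'P : t' ∈ (P : Subgroup G) := hP (hMD hyt)
    by_cases hPF' : (P : Subgroup G) ≤ stabilizer G (fixedBy Ω t')
    · exact hfin P (two_invariant hb P.isPGroup' hF hF'4 (fun e => hyF (ht'F.symm.trans e.symm)) hPF hPF')
    rcases moving hb P.isPGroup' ht'P ht' hF'4 hPF' with h | ⟨y', hy'P, hy'F, h8', -, -, hsq', -⟩
    · exact hfin P h
    exfalso
    have hMM : M ≤ (P : Subgroup G) ⊓ centralizer {t'} := le_inf (hMD.trans hP) fun x hx =>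
      Subgroup.mem_centralizer_singleton_iff.2 (hMc x hx t' hyt)
    have hgg : g * g = t * t' := (hsq g hgM).resolve_left hg1
    have hgg' := (hsq' g (hMM hgM)).resolve_left hg1
    rw [hgg, hMc t htM t' hyt] at hgg'
    have e1 : y' * t' * y'⁻¹ = t := (mul_left_cancel hgg').symm
    have e2 : y' • fixedBy Ω t' = fixedBy Ω t := by rw [← fixedBy_conj', e1]
    have e3 : fixedBy Ω t' = fixedBy Ω t := by
      rw [← inv_smul_smul y' (fixedBy Ω t'), e2, inv_smul_eq_iff]
      exact (mem_stabilizer_iff.1 (hPF hy'P)).symm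
    exact hyF (ht'F.symm.trans e3)
  push Not at hmove
  obtain ⟨S₀, hS₀⟩ := (isPGroup_zpowers ht₀).exists_le_sylow
  obtain ⟨g, hg⟩ := MulAction.exists_smul_eq G S₀ S
  have htS : g * t₀ * g⁻¹ ∈ (S : Subgroup G) := by
    rw [← hg]
    exact Subgroup.smul_mem_pointwise_smul _ (MulAut.conj g) _ (hS₀ (mem_zpowers t₀))
  set t := g * t₀ * g⁻¹
  have ht : orderOf t = 2 := by rw [orderOf_conj', ht₀]
  have hF : (fixedBy Ω t).ncard = 4 := by rw [ncard_fixedBy_conj, ht₀4]
  by_cases hall : ∀ x ∈ (S : Subgroup G), orderOf x = 2 → (fixedBy Ω x).ncard = 4 →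
      fixedBy Ω x = fixedBy Ω t
  · exact Or.inr ⟨_, hF, hmove t htS ht hF, hall⟩
  · push Not at hall
    obtain ⟨x, hxS, hx, hx4, hxne⟩ := hall
    exact Or.inl (hfin S (two_invariant hb S.isPGroup' hF hx4 (Ne.symm hxne)
      (hmove t htS ht hF) (hmove x hxS hx hx4)))

end Cfsg.Agent.H19.Fixity
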