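import Cfsg.Agent.H19.Fixity.TwoTools

/-!
# Fixity four: two kernels of order four inside a 2-group of order 32
-/

set_option autoImplicit false
set_option linter.unusedSectionVars false
set_option linter.style.haveILetI false

namespace Cfsg.Agent.H19.Fixity

open MulAction Subgroup
open scoped Pointwise

theorem perm4_two : ∀ σ : Equiv.Perm (Fin 4), ∀ a, σ a = a → σ * σ * σ * σ = 1 → σ * σ = 1 := by
  decide +kernel

variable {G Ω : Type*} [Group G] [MulAction G Ω] [Finite G] [Finite Ω]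
  (hb : ∀ g : G, g ≠ 1 → (fixedBy Ω g).ncard ≤ 4)

/-- A permutation of two-power order of a set of four points fixing a point squares to one. -/
theorem sq_mem_pw {F : Set Ω} (hF : F.ncard = 4) {g : G} (hgF : g ∈ stabilizer G F) {i : ℕ}
    (hg : g ^ 2 ^ i = 1) {a : Ω} (ha : a ∈ F) (hga : g • a = a) : g * g ∈ fixingSubgroup G F := by
  classical
  haveI := (Set.toFinite F).fintype
  let e : Equiv.Perm F ≃* Equiv.Perm (Fin 4) := (Fintype.equivFinOfCardEq
    (by rw [← Nat.card_eq_fintype_card, Nat.card_coe_set_eq, hF]) : F ≃ Fin 4).permCongrHom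
  set σ := e (img F ⟨g, hgF⟩) with hσ
  have hpow : σ ^ 2 ^ i = 1 := by
    rw [hσ, ← map_pow, ← map_pow, show (⟨g, hgF⟩ : stabilizer G F) ^ 2 ^ i = 1 from Subtype.ext hg,
      map_one, map_one]
  have h4 : σ * σ * σ * σ = 1 := by
    rcases perm4_orders σ with h | h
    · exact h
    · have h3 : orderOf σ ∣ 3 := orderOf_dvd_of_pow_eq_one (by simpa [pow_succ] using h)
      have h2 : orderOf σ ∣ 2 ^ i := orderOf_dvd_of_pow_eq_one hpow
      have : orderOf σ ∣ 1 := (Nat.Coprime.pow_right i (by norm_num : Nat.Coprime 3 2)) ▸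
        Nat.dvd_gcd h3 h2
      rw [Nat.dvd_one, orderOf_eq_one_iff] at this
      rw [this]; simp
  let eqv : F ≃ Fin 4 := Fintype.equivFinOfCardEq (by rw [← Nat.card_eq_fintype_card, Nat.card_coe_set_eq, hF])
  have hfix : σ (eqv ⟨a, ha⟩) = eqv ⟨a, ha⟩ := by
    have h1 : img F ⟨g, hgF⟩ ⟨a, ha⟩ = ⟨a, ha⟩ := Subtype.ext (by rw [img_apply]; exact hga)
    show eqv (img F ⟨g, hgF⟩ (eqv.symm (eqv ⟨a, ha⟩))) = _
    rw [Equiv.symm_apply_apply, h1]
  have h2 := perm4_two σ _ hfix h4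
  rw [hσ, ← map_mul, ← map_mul, map_eq_one_iff e e.injective, img_eq_one_iff] at h2
  exact h2

include hb

theorem kernels_commute {F F' : Set Ω} (hF : F.ncard = 4) (hF' : F'.ncard = 4) (hne : F ≠ F')
    {k k' : G} (hk : k ∈ fixingSubgroup G F) (hk' : k' ∈ fixingSubgroup G F')
    (hkF' : k ∈ stabilizer G F') (hk'F : k' ∈ stabilizer G F) : k * k' = k' * k := by
  have h : k * k' * k⁻¹ * k'⁻¹ = 1 := by
    refine eq_one_of_pw_pw hb hF hF' hne ?_ ?_
    · rw [show k * k' * k⁻¹ * k'⁻¹ = k * (k' * k⁻¹ * k'⁻¹) by group]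
      exact mul_mem hk (conj_mem_pw_of_stab hk'F (inv_mem hk))
    · exact mul_mem (conj_mem_pw_of_stab hkF' hk') (inv_mem hk')
  rwa [mul_inv_eq_one, mul_inv_eq_iff_eq_mul] at h

theorem kernels_unique {F F' : Set Ω} (hF : F.ncard = 4) (hF' : F'.ncard = 4) (hne : F ≠ F')
    {k k' l l' : G} (hk : k ∈ fixingSubgroup G F) (hk' : k' ∈ fixingSubgroup G F')
    (hl : l ∈ fixingSubgroup G F) (hl' : l' ∈ fixingSubgroup G F') (h : k * k' = l * l') :
    k = l ∧ k' = l' := by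
  have e : l⁻¹ * k = l' * k'⁻¹ := by
    rw [eq_mul_inv_iff_mul_eq, mul_assoc, h, inv_mul_cancel_left]
  have h1 : l⁻¹ * k = 1 :=
    eq_one_of_pw_pw hb hF hF' hne (mul_mem (inv_mem hl) hk) (e ▸ mul_mem hl' (inv_mem hk'))
  have h2 : k = l := (inv_mul_eq_one.1 h1).symm
  exact ⟨h2, mul_left_cancel (h2 ▸ h)⟩

/-- The product of the two kernels. -/
theorem exists_product {F F' : Set Ω} (hF : F.ncard = 4) (hF' : F'.ncard = 4) (hne : F ≠ F')
    {M : Subgroup G} (hMF : M ≤ stabilizer G F) (hMF' : M ≤ stabilizer G F') :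
    ∃ A : Subgroup G, A ≤ M ∧
      Nat.card A = Nat.card ↥(M ⊓ fixingSubgroup G F) * Nat.card ↥(M ⊓ fixingSubgroup G F') ∧
      ∀ x, x ∈ A ↔ ∃ k ∈ M ⊓ fixingSubgroup G F, ∃ k' ∈ M ⊓ fixingSubgroup G F', x = k * k' := by
  set K := M ⊓ fixingSubgroup G F
  set K' := M ⊓ fixingSubgroup G F'
  have hcomm : ∀ (k : K) (k' : K'), Commute (K.subtype k) (K'.subtype k') := fun k k' =>
    kernels_commute hb hF hF' hne (Subgroup.mem_inf.1 k.2).2 (Subgroup.mem_inf.1 k'.2).2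
      (hMF' (Subgroup.mem_inf.1 k.2).1) (hMF (Subgroup.mem_inf.1 k'.2).1)
  let φ : K × K' →* G := MonoidHom.noncommCoprod K.subtype K'.subtype hcomm
  refine ⟨φ.range, ?_, ?_, fun x => ?_⟩
  · rintro _ ⟨⟨k, k'⟩, rfl⟩
    exact mul_mem (Subgroup.mem_inf.1 k.2).1 (Subgroup.mem_inf.1 k'.2).1
  · rw [← Nat.card_prod]
    refine (Nat.card_congr (MonoidHom.ofInjective (f := φ) ?_).toEquiv).symm
    rintro ⟨k, k'⟩ ⟨l, l'⟩ h
    obtain ⟨h1, h2⟩ := kernels_unique hb hF hF' hne (Subgroup.mem_inf.1 k.2).2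
      (Subgroup.mem_inf.1 k'.2).2 (Subgroup.mem_inf.1 l.2).2 (Subgroup.mem_inf.1 l'.2).2 h
    exact Prod.ext (Subtype.ext h1) (Subtype.ext h2)
  · constructor
    · rintro ⟨⟨k, k'⟩, rfl⟩
      exact ⟨k, k.2, k', k'.2, rfl⟩
    · rintro ⟨k, hk, k', hk', rfl⟩
      exact ⟨(⟨k, hk⟩, ⟨k', hk'⟩), rfl⟩

/-- An element fixing a point of `F` outside the product of the kernels. -/
theorem exists_outside {F F' : Set Ω} (hF : F.ncard = 4) (hF' : F'.ncard = 4) (hne : F ≠ F')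
    {M : Subgroup G} (hM : IsPGroup 2 M) (hMF : M ≤ stabilizer G F) (hMF' : M ≤ stabilizer G F')
    (hM32 : Nat.card M = 32) (hK : Nat.card ↥(M ⊓ fixingSubgroup G F) = 4)
    (hK' : Nat.card ↥(M ⊓ fixingSubgroup G F') = 4) {t u : G} (ht : t ∈ M ⊓ fixingSubgroup G F)
    (hu : u ∈ M ⊓ fixingSubgroup G F') (ht1 : t ≠ 1) (hu1 : u ≠ 1) (htc : ∀ m ∈ M, m * t = t * m)
    (huc : ∀ m ∈ M, m * u = u * m) :
    ∃ r ∈ M, (∀ k ∈ M ⊓ fixingSubgroup G F, ∀ k' ∈ M ⊓ fixingSubgroup G F', r ≠ k * k') ∧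
      (r * r = 1 ∨ r * r = t) ∧
      ∀ k ∈ M ⊓ fixingSubgroup G F, ∀ k' ∈ M ⊓ fixingSubgroup G F',
        r * (k * k') = k * k' * r → (k = 1 ∨ k = t) ∧ (k' = 1 ∨ k' = u) := by
  classical
  haveI : Fact (Nat.Prime 2) := ⟨Nat.prime_two⟩
  set K := M ⊓ fixingSubgroup G F with hKdef
  set K' := M ⊓ fixingSubgroup G F' with hK'def
  have hKF : K ≤ fixingSubgroup G F := inf_le_right
  have hK'F : K' ≤ fixingSubgroup G F' := inf_le_right
  have hKM : K ≤ M := inf_le_left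
  have hK'M : K' ≤ M := inf_le_left
  obtain ⟨hdis, hregK'⟩ := regular_of_card hb hF' hF hne.symm hK'F (hK'M.trans hMF) hK'
  obtain ⟨hdis', hregK⟩ := regular_of_card hb hF hF' hne hKF (hKM.trans hMF') hK
  obtain ⟨a, ha⟩ := Set.nonempty_of_ncard_ne_zero (show F.ncard ≠ 0 by omega)
  obtain ⟨b, hbF'⟩ := Set.nonempty_of_ncard_ne_zero (show F'.ncard ≠ 0 by omega)
  -- the stabiliser of `a` in `M` exceeds `K`
  have hstab : 8 ≤ Nat.card ↥(M ⊓ stabilizer G a) := by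
    have e : ((M ⊓ stabilizer G a).subgroupOf M) = stabilizer M a := by
      ext x
      simp [Subgroup.mem_subgroupOf, Subgroup.smul_def]
    have h1 := (stabilizer M a).card_mul_index
    have h2 : (stabilizer M a).index ≤ 4 := by
      rw [index_stabilizer, ← hF]
      refine Set.ncard_le_ncard ?_ (Set.toFinite _)
      rintro _ ⟨⟨m, hm⟩, rfl⟩
      exact (mem_stabilizer_iff.1 (hMF hm)) ▸ Set.smul_mem_smul_set ha
    rw [← e, Nat.card_congr (Subgroup.subgroupOfEquivOfLe inf_le_left).toEquiv, e, hM32] at h1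
    by_contra h
    have : Nat.card ↥(M ⊓ stabilizer G a) * (stabilizer M a).index ≤ 7 * 4 :=
      Nat.mul_le_mul (by omega) h2
    omega
  obtain ⟨r, hr, hrK⟩ := exists_mem_not_mem_of_card_lt (show Nat.card K < _ by omega : Nat.card K < Nat.card ↥(M ⊓ stabilizer G a))
  obtain ⟨hrM, hra'⟩ := Subgroup.mem_inf.1 hr
  have hra : r • a = a := mem_stabilizer_iff.1 hra'
  have hnotA : ∀ k ∈ K, ∀ k' ∈ K', r ≠ k * k' := by
    intro k hk k' hk' h
    apply hrK
    have hk'a : k' • a ∈ F := (mem_stabilizer_iff.1 (hMF (hK'M hk'))) ▸ Set.smul_mem_smul_set ha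
    have h1 : k' • a = a := by
      rw [← (mem_fixingSubgroup_iff G).1 (hKF hk) _ hk'a, ← mul_smul, ← h, hra]
    have : k' = 1 := smul_inj_of_pw hb hF' (fun h' => hdis a ha h') (hK'F hk') (one_mem _)
      (by rw [h1, one_smul])
    rw [h, this, mul_one]; exact hk
  obtain ⟨i, hi⟩ := hM ⟨r, hrM⟩
  have hrpw : r * r ∈ fixingSubgroup G F :=
    sq_mem_pw hF (hMF hrM) (by simpa using congrArg Subtype.val hi) ha hra
  have hcentK : ∀ k ∈ K, r * k = k * r → k = 1 ∨ k = t := by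
    intro k hk hrk
    by_contra hh
    push Not at hh
    set C := K ⊓ centralizer {r} with hC
    have hCK : C = K := by
      refine Subgroup.eq_of_le_of_card_ge inf_le_left ?_
      have hdvd : Nat.card C ∣ 4 := hK ▸ Subgroup.card_dvd_of_le inf_le_left
      have htC : t ∈ C := Subgroup.mem_inf.2
        ⟨ht, Subgroup.mem_centralizer_singleton_iff.2 (htc r hrM).symm⟩
      have hkC : k ∈ C := Subgroup.mem_inf.2 ⟨hk, Subgroup.mem_centralizer_singleton_iff.2 hrk.symm⟩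
      haveI := Fintype.ofFinite C
      have h3 : ({1, ⟨t, htC⟩, ⟨k, hkC⟩} : Finset C).card = 3 := by
        rw [Finset.card_insert_of_notMem, Finset.card_insert_of_notMem, Finset.card_singleton]
        · simp [Ne.symm hh.2]
        · simp only [Finset.mem_insert, Finset.mem_singleton, Subtype.ext_iff, OneMemClass.coe_one]
          exact fun h' => h'.elim (fun e => ht1 e.symm) (fun e => hh.1 e.symm)
      have h4 := Finset.card_le_univ ({1, ⟨t, htC⟩, ⟨k, hkC⟩} : Finset C)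
      rw [h3, ← Nat.card_eq_fintype_card] at h4
      have h5 := Nat.le_of_dvd (by norm_num) hdvd
      rw [hK]
      rcases (show Nat.card C = 3 ∨ Nat.card C = 4 by omega) with h6 | h6
      · rw [h6] at hdvd; norm_num at hdvd
      · omega
    have hall : ∀ l ∈ K, r * l = l * r := fun l hl => by
      rw [← hCK] at hl
      exact (Subgroup.mem_centralizer_singleton_iff.1 (Subgroup.mem_inf.1 hl).2).symm
    have hrb : r • b ∈ F' := (mem_stabilizer_iff.1 (hMF' hrM)) ▸ Set.smul_mem_smul_set hbF'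
    obtain ⟨l, hl, hlb⟩ := hregK b hbF' (r • b) hrb
    have hfixall : l⁻¹ * r ∈ fixingSubgroup G F' := by
      rw [mem_fixingSubgroup_iff]
      intro c hc
      obtain ⟨m, hm, rfl⟩ := hregK b hbF' c hc
      have hlm : l⁻¹ * m = m * l⁻¹ :=
        comm_of_card_sq (p := 2) (by rw [hK]; norm_num) (inv_mem hl) hm
      rw [← mul_smul, mul_assoc, hall m hm, ← mul_assoc, hlm, mul_assoc, mul_smul, mul_smul, ← hlb,
        inv_smul_smul]
    refine hnotA l hl (l⁻¹ * r) (Subgroup.mem_inf.2 ⟨mul_mem (inv_mem (hKM hl)) hrM, hfixall⟩) ?_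
    rw [mul_inv_cancel_left]
  have hcentK' : ∀ k' ∈ K', r * k' = k' * r → k' = 1 ∨ k' = u := by
    intro k' hk' hrk
    by_contra hh
    push Not at hh
    haveI := (Set.toFinite F).fintype
    let e : F ≃ Fin 4 := Fintype.equivFinOfCardEq (by rw [← Nat.card_eq_fintype_card, Nat.card_coe_set_eq, hF])
    set σ := e.permCongrHom (img F ⟨r, hMF hrM⟩) with hσ
    have hσ1 : σ ≠ 1 := by
      rw [hσ, Ne, map_eq_one_iff _ (MulEquiv.injective _), img_eq_one_iff]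
      exact fun h => hrK (Subgroup.mem_inf.2 ⟨hrM, h⟩)
    have hσ2 : σ * σ = 1 := by
      rw [hσ, ← map_mul, ← map_mul, map_eq_one_iff _ (MulEquiv.injective _), img_eq_one_iff]
      exact hrpw
    have hfix : ∀ w ∈ K', r * w = w * r → ∀ hw : w • a ∈ F, σ (e ⟨w • a, hw⟩) = e ⟨w • a, hw⟩ := by
      intro w _ hrw hw
      show e (img F ⟨r, hMF hrM⟩ (e.symm (e ⟨w • a, hw⟩))) = _
      rw [Equiv.symm_apply_apply]
      refine congrArg e (Subtype.ext ?_)
      rw [img_apply]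
      show r • (w • a) = w • a
      rw [← mul_smul, hrw, mul_smul, hra]
    have hmem : ∀ w ∈ K', w • a ∈ F := fun w hw =>
      (mem_stabilizer_iff.1 (hMF (hK'M hw))) ▸ Set.smul_mem_smul_set ha
    have hinj : ∀ (v w : G) (hv : v ∈ K') (hw : w ∈ K'),
        e ⟨v • a, hmem v hv⟩ = e ⟨w • a, hmem w hw⟩ → v = w := fun v w hv hw h =>
      smul_inj_of_pw hb hF' (fun h' => hdis a ha h') (hK'F hv) (hK'F hw)
        (congrArg Subtype.val (e.injective h))
    rcases perm4_fix σ hσ2 hσ1 _ _ _ (hfix 1 (one_mem _) (by simp) (hmem 1 (one_mem _)))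
      (hfix u hu (huc r hrM) (hmem u hu)) (hfix k' hk' hrk (hmem k' hk')) with h | h | h
    · exact hu1 (hinj _ _ (one_mem _) hu h).symm
    · exact hh.1 (hinj _ _ (one_mem _) hk' h).symm
    · exact hh.2 (hinj _ _ hu hk' h).symm
  refine ⟨r, hrM, hnotA, hcentK _ (Subgroup.mem_inf.2 ⟨mul_mem hrM hrM, hrpw⟩) (mul_assoc r r r).symm,
    fun k hk k' hk' h => ?_⟩
  have h1 : r * k * r⁻¹ * (r * k' * r⁻¹) = k * k' := by
    rw [show r * k * r⁻¹ * (r * k' * r⁻¹) = r * (k * k') * r⁻¹ by group, h, mul_inv_cancel_right]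
  obtain ⟨e1, e2⟩ := kernels_unique hb hF hF' hne (conj_mem_pw_of_stab (hMF hrM) (hKF hk))
    (conj_mem_pw_of_stab (hMF' hrM) (hK'F hk')) (hKF hk) (hK'F hk') h1
  exact ⟨hcentK k hk (mul_inv_eq_iff_eq_mul.1 e1), hcentK' k' hk' (mul_inv_eq_iff_eq_mul.1 e2)⟩

/-- Two sets with kernels of order four and `|M| = 32`: a self-centralising `2^3`. -/
theorem kernel_four_thirtytwo {F F' : Set Ω} (hF : F.ncard = 4) (hF' : F'.ncard = 4) (hne : F ≠ F')
    {S M : Subgroup G} (hS : IsPGroup 2 S) (hMS : M ≤ S) (hMF : M ≤ stabilizer G F)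
    (hMF' : M ≤ stabilizer G F') (hSM : S ⊓ stabilizer G F ≤ M)
    (hM32 : Nat.card M = 32) (hK : Nat.card ↥(M ⊓ fixingSubgroup G F) = 4)
    (hK' : Nat.card ↥(M ⊓ fixingSubgroup G F') = 4) :
    H64.RankFour.SquareBound ↥S := by
  classical
  haveI : Fact (Nat.Prime 2) := ⟨Nat.prime_two⟩
  set K := M ⊓ fixingSubgroup G F with hKdef
  set K' := M ⊓ fixingSubgroup G F' with hK'def
  have hMp : IsPGroup 2 M := hS.to_le hMS
  have hKn : ∀ g ∈ M, ∀ x ∈ K, g * x * g⁻¹ ∈ K := fun g hg x hx => Subgroup.mem_inf.2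
    ⟨mul_mem (mul_mem hg (Subgroup.mem_inf.1 hx).1) (inv_mem hg),
      conj_mem_pw_of_stab (hMF hg) (Subgroup.mem_inf.1 hx).2⟩
  have hK'n : ∀ g ∈ M, ∀ x ∈ K', g * x * g⁻¹ ∈ K' := fun g hg x hx => Subgroup.mem_inf.2
    ⟨mul_mem (mul_mem hg (Subgroup.mem_inf.1 hx).1) (inv_mem hg),
      conj_mem_pw_of_stab (hMF' hg) (Subgroup.mem_inf.1 hx).2⟩
  have hne4 : ∀ {U : Subgroup G}, Nat.card U = 4 → U ≠ ⊥ := fun {U} h e => by
    rw [e, Subgroup.card_bot] at h; omega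
  obtain ⟨t, ht, hto, htc⟩ := exists_central_mem hMp inf_le_left hKn (hne4 hK)
  obtain ⟨u, hu, huo, huc⟩ := exists_central_mem hMp inf_le_left hK'n (hne4 hK')
  have sq1 : ∀ {v : G}, orderOf v = 2 → v * v = 1 := fun {v} hv => by
    rw [← pow_two, ← hv, pow_orderOf_eq_one]
  have ne1 : ∀ {v : G}, orderOf v = 2 → v ≠ 1 := fun {v} hv e => by rw [e, orderOf_one] at hv; omega
  obtain ⟨A, hAM, hA, hAmem⟩ := exists_product hb hF hF' hne hMF hMF'
  rw [← hKdef, ← hK'def, hK, hK'] at hA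
  obtain ⟨r, hrM, hrA, hr2, hrc⟩ := exists_outside hb hF hF' hne hMp hMF hMF' hM32 hK hK' ht hu
    (ne1 hto) (ne1 huo) htc huc
  obtain ⟨r', hr'M, hr'A, hr'2, hr'c⟩ := exists_outside hb hF' hF hne.symm hMp hMF' hMF hM32 hK' hK hu ht
    (ne1 huo) (ne1 hto) huc htc
  have hcKK : ∀ k ∈ K, ∀ k' ∈ K', k * k' = k' * k := fun k hk k' hk' =>
    kernels_commute hb hF hF' hne (Subgroup.mem_inf.1 hk).2 (Subgroup.mem_inf.1 hk').2
      (hMF' (Subgroup.mem_inf.1 hk).1) (hMF (Subgroup.mem_inf.1 hk').1)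
  have hrA' : r ∉ A := fun h => by
    obtain ⟨k, hk, k', hk', e⟩ := (hAmem r).1 h
    exact hrA k hk k' hk' e
  have hidx : (A.subgroupOf M).index = 2 := by
    have h1 := (A.subgroupOf M).card_mul_index
    rw [Nat.card_congr (Subgroup.subgroupOfEquivOfLe hAM).toEquiv, hA, hM32] at h1
    omega
  have hdec : ∀ m ∈ M, m ∉ A → ∃ k ∈ K, ∃ k' ∈ K', m = r * (k * k') := by
    intro m hm hmA
    have : (⟨r⁻¹, inv_mem hrM⟩ : M) * ⟨m, hm⟩ ∈ A.subgroupOf M :=
      (Subgroup.mul_mem_iff_of_index_two hidx).2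
        (iff_of_false (fun h => hrA' (inv_mem_iff.1 (Subgroup.mem_subgroupOf.1 h))) hmA)
    obtain ⟨k, hk, k', hk', e⟩ := (hAmem _).1 (Subgroup.mem_subgroupOf.1 this)
    exact ⟨k, hk, k', hk', by rw [← e]; simp⟩
  -- an involution outside `A`
  obtain ⟨v, hvM, hv2, hvA, hvc⟩ : ∃ v ∈ M, v * v = 1 ∧ v ∉ A ∧
      ∀ k ∈ K, ∀ k' ∈ K', v * (k * k') = k * k' * v → (k = 1 ∨ k = t) ∧ (k' = 1 ∨ k' = u) := by
    rcases hr2 with hr2 | hr2
    · exact ⟨r, hrM, hr2, hrA', hrc⟩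
    have hr'A' : r' ∉ A := fun h => by
      obtain ⟨k, hk, k', hk', e⟩ := (hAmem r').1 h
      exact hr'A k' hk' k hk (e.trans (hcKK k hk k' hk'))
    rcases hr'2 with hr'2 | hr'2
    · refine ⟨r', hr'M, hr'2, hr'A', fun k hk k' hk' h => ?_⟩
      rw [hcKK k hk k' hk'] at h
      exact (hr'c k' hk' k hk h).symm
    obtain ⟨k, hk, k', hk', e⟩ := hdec r' hr'M hr'A'
    have hck : r⁻¹ * k * r ∈ K := by
      simpa [mul_assoc] using hKn r⁻¹ (inv_mem hrM) k hk
    have hck' : r⁻¹ * k' * r ∈ K' := by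
      simpa [mul_assoc] using hK'n r⁻¹ (inv_mem hrM) k' hk'
    have key : (t * (r⁻¹ * k * r * k)) * (r⁻¹ * k' * r * k') = u := by
      rw [← hr'2, ← hr2, e]
      calc r * r * (r⁻¹ * k * r * k) * (r⁻¹ * k' * r * k')
          = r * r * (r⁻¹ * k * r * (k * (r⁻¹ * k' * r)) * k') := by group
        _ = r * r * (r⁻¹ * k * r * ((r⁻¹ * k' * r) * k) * k') := by rw [hcKK k hk _ hck']
        _ = r * (k * k') * (r * (k * k')) := by group
    have h1 := (kernels_unique hb hF hF' hne (k := t * (r⁻¹ * k * r * k)) (l := 1) (l' := u)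
      (Subgroup.mem_inf.1 (mul_mem ht (mul_mem hck hk))).2 (Subgroup.mem_inf.1 (mul_mem hck' hk')).2
      (one_mem _) (Subgroup.mem_inf.1 hu).2 (by rw [key, one_mul])).1
    have hrk2 : r * k * (r * k) = 1 := by
      rw [← h1, ← hr2]; group
    refine ⟨r * k, mul_mem hrM (Subgroup.mem_inf.1 hk).1, hrk2,
      fun h => hrA' ?_, fun l hl l' hl' h => ?_⟩
    · have hkA : k ∈ A := (hAmem k).2 ⟨k, hk, 1, one_mem _, (mul_one k).symm⟩
      simpa using mul_mem h (inv_mem hkA)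
    · refine hrc l hl l' hl' ?_
      have hkl : k * (l * l') = l * l' * k := by
        rw [← mul_assoc, comm_of_card_sq (p := 2) (by rw [hK]; norm_num) hk hl, mul_assoc,
          hcKK k hk l' hl', ← mul_assoc]
      refine mul_right_cancel (b := k) ?_
      rw [mul_assoc, ← hkl, ← mul_assoc, h, mul_assoc (l * l') r k]
  obtain ⟨V, hV4, hVmem, hV2⟩ := exists_klein (sq1 hto) (sq1 huo) (hcKK t ht u hu) (ne1 hto) (ne1 huo)
    (fun e => (ne1 hto) (eq_one_of_pw_pw hb hF hF' hne (Subgroup.mem_inf.1 ht).2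
      (e ▸ (Subgroup.mem_inf.1 hu).2)))
  have hVA : V ≤ A := by
    intro x hx
    rcases (hVmem x).1 hx with rfl | rfl | rfl | rfl
    · exact one_mem _
    · exact (hAmem x).2 ⟨x, ht, 1, one_mem _, (mul_one x).symm⟩
    · exact (hAmem x).2 ⟨1, one_mem _, x, hu, (one_mul x).symm⟩
    · exact (hAmem _).2 ⟨t, ht, u, hu, rfl⟩
  obtain ⟨E, hE, hE2, hEsq, hEc⟩ := exists_extend hV2 hv2 (fun h => hvA (hVA h)) (fun w hw => by
    rcases (hVmem w).1 hw with rfl | rfl | rfl | rfl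
    · simp
    · exact htc v hvM
    · exact huc v hvM
    · rw [← mul_assoc, htc v hvM, mul_assoc, huc v hvM, ← mul_assoc])
  have htE : t ∈ E := (hE t).2 (Or.inl ((hVmem t).2 (Or.inr (Or.inl rfl))))
  have hvE : v ∈ E := (hE v).2 (Or.inr (hv2 ▸ V.one_mem))
  have hEM : E ≤ M := by
    intro x hx
    rcases (hE x).1 hx with h | h
    · exact hAM (hVA h)
    · simpa using mul_mem (inv_mem hvM) (hAM (hVA h))
  refine squareBound_of_selfCent hS (hEM.trans hMS) hEsq hEc (by rw [hE2, hV4]) fun s hs hsc => ?_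
  have hfix : fixedBy Ω t = F := fix_eq_of_mem_pw hb hF (ne1 hto) (Subgroup.mem_inf.1 ht).2
  have hsM : s ∈ M := hSM (Subgroup.mem_inf.2 ⟨hs, hfix ▸ mem_stab_of_commute (hsc t htE)⟩)
  have hsv : s * v = v * s := hsc v hvE
  have hinV : ∀ x ∈ A, v * x = x * v → x ∈ V := by
    intro x hx hvx
    obtain ⟨k, hk, k', hk', rfl⟩ := (hAmem x).1 hx
    obtain ⟨a1, a2⟩ := hvc k hk k' hk' hvx
    rw [hVmem]
    rcases a1 with rfl | rfl <;> rcases a2 with rfl | rfl <;> simp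
  by_cases hsA : s ∈ A
  · exact (hE s).2 (Or.inl (hinV s hsA hsv.symm))
  · refine (hE s).2 (Or.inr (hinV _ ?_ ?_))
    · exact Subgroup.mem_subgroupOf.1 ((Subgroup.mul_mem_iff_of_index_two hidx
        (a := (⟨v, hvM⟩ : M)) (b := ⟨s, hsM⟩)).2 (iff_of_false hvA hsA))
    · rw [mul_assoc v s v, hsv]

end Cfsg.Agent.H19.Fixity
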