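import Cfsg.Agent.H19.Fixity.TwoTools
import Cfsg.Agent.PGroups.CyclicMaximal

/-!
# Fixity four: a moved fixed set with kernel of order two
-/

set_option autoImplicit false
set_option linter.unusedSectionVars false
set_option linter.style.haveILetI false

namespace Cfsg.Agent.H19.Fixity

open MulAction Subgroup
open scoped Pointwise

universe u

/-- The configuration left over by the kernel of order two: the centraliser of `t` in `S` is abelian
of order eight with non-square `t` and square `t * t'`, where `t'` is conjugate to `t`. -/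
def Survivor {G : Type*} (Ω : Type*) [Group G] [MulAction G Ω] (S : Subgroup G) (t : G) : Prop :=
  ∃ y ∈ S, y • fixedBy Ω t ≠ fixedBy Ω t ∧
    Nat.card ↥(S ⊓ centralizer {t}) = 8 ∧
    (∀ a ∈ S ⊓ centralizer {t}, ∀ b ∈ S ⊓ centralizer {t}, a * b = b * a) ∧
    y * t * y⁻¹ ∈ S ⊓ centralizer {t} ∧
    (∀ g ∈ S ⊓ centralizer {t}, g * g = 1 ∨ g * g = t * (y * t * y⁻¹)) ∧
    ∃ g ∈ S ⊓ centralizer {t}, g * g ≠ 1

/-- A self-centralising subgroup of order four gives the square bound. -/
theorem squareBound_of_selfCent_four {G : Type u} [Group G] [Finite G] {S C : Subgroup G}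
    (hS : IsPGroup 2 S) (hCS : C ≤ S) (h4 : Nat.card C = 4)
    (hC : ∀ s ∈ S, (∀ c ∈ C, s * c = c * s) → s ∈ C) : H64.RankFour.SquareBound ↥S := by
  haveI : Fact (Nat.Prime 2) := ⟨Nat.prime_two⟩
  obtain ⟨n, hn⟩ := (IsPGroup.iff_card (p := 2)).1 hS
  rcases lt_or_ge n 5 with h | h
  · have : Nat.card S ≤ 16 := hn ▸ (Nat.pow_le_pow_right two_pos (show n ≤ 4 by omega))
    exact squareBound_of_small S hS (by omega) (fun h32 => absurd h32 (by omega))
  have hcent : Subgroup.centralizer ((C.subgroupOf S : Subgroup S) : Set S) = C.subgroupOf S := by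
    ext ⟨s, hs⟩
    rw [Subgroup.mem_centralizer_iff, Subgroup.mem_subgroupOf]
    constructor
    · intro hh
      exact hC s hs fun c hc => (congrArg Subtype.val (hh ⟨c, hCS hc⟩ hc)).symm
    · rintro hsC ⟨c, hc⟩ hcC
      exact Subtype.ext (comm_of_card_sq (p := 2) (by rw [h4]; norm_num) (show c ∈ C from hcC) hsC)
  have hcl := PGroups.nilpotencyClass_of_self_centralizing n ↥S hn (C.subgroupOf S)
    (by rw [Nat.card_congr (Subgroup.subgroupOfEquivOfLe hCS).toEquiv, h4]; norm_num) hcent
  obtain ⟨c, hc⟩ := PGroups.exists_cyclic_index_two n ↥S (by omega) hn hcl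
  refine H64.RankFour.squareBound_of_cyclic (c := c) ?_
  have h1 := (zpowers c).card_mul_index
  rw [Nat.card_zpowers, hc, hn, show 2 ^ n = 2 ^ (n - 1) * 2 by
    rw [← pow_succ, Nat.sub_add_cancel (by omega)]] at h1
  rw [Nat.eq_of_mul_eq_mul_left (by positivity) h1]
  norm_num

variable {G Ω : Type*} [Group G] [MulAction G Ω] [Finite G] [Finite Ω]
  (hb : ∀ g : G, g ≠ 1 → (fixedBy Ω g).ncard ≤ 4)
include hb

theorem kernel_two {S : Subgroup G} (hS : IsPGroup 2 S) {t : G} (htS : t ∈ S) (ht : orderOf t = 2)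
    (hF : (fixedBy Ω t).ncard = 4) {y : G} (hyS : y ∈ S) (hyF : y • fixedBy Ω t ≠ fixedBy Ω t)
    (hy : ∀ x, x ∈ S ⊓ stabilizer G (fixedBy Ω t) ↔ y * x * y⁻¹ ∈ S ⊓ stabilizer G (fixedBy Ω t))
    (hK2 : Nat.card ↥(S ⊓ stabilizer G (fixedBy Ω t) ⊓ fixingSubgroup G (fixedBy Ω t)) = 2) :
    H64.RankFour.SquareBound ↥S ∨ Survivor Ω S t := by
  classical
  haveI : Fact (Nat.Prime 2) := ⟨Nat.prime_two⟩
  set F := fixedBy Ω t with hFdef
  set M := S ⊓ stabilizer G F with hMdef
  set K := M ⊓ fixingSubgroup G F with hKdef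
  have ht1 : t ≠ 1 := fun h => by rw [h, orderOf_one] at ht; omega
  have htt : t * t = 1 := by rw [← pow_two, ← ht, pow_orderOf_eq_one]
  have htM : t ∈ M := ⟨htS, self_mem_stab t⟩
  have htK : t ∈ K := ⟨htM, self_mem_pw t⟩
  have hKmem : ∀ k ∈ K, k = 1 ∨ k = t := by
    intro k hk
    by_contra h
    push Not at h
    haveI := Fintype.ofFinite K
    have h3 : ({1, ⟨t, htK⟩, ⟨k, hk⟩} : Finset K).card = 3 := by
      rw [Finset.card_insert_of_notMem, Finset.card_insert_of_notMem, Finset.card_singleton]
      · simp [Ne.symm h.2]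
      · simp only [Finset.mem_insert, Finset.mem_singleton, Subtype.ext_iff, OneMemClass.coe_one]
        exact fun h' => h'.elim (fun e => ht1 e.symm) (fun e => h.1 e.symm)
    have := Finset.card_le_univ ({1, ⟨t, htK⟩, ⟨k, hk⟩} : Finset K)
    rw [h3, ← Nat.card_eq_fintype_card, hK2] at this
    omega
  -- `t` is central in `M`
  have htc : ∀ m ∈ M, m * t = t * m := by
    intro m hm
    rcases hKmem (m * t * m⁻¹)
      (Subgroup.mem_inf.2 ⟨mul_mem (mul_mem hm htM) (inv_mem hm),
        conj_mem_pw_of_stab (Subgroup.mem_inf.1 hm).2 htK.2⟩) with h | h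
    · exact absurd (by simpa using h) ht1
    · exact mul_inv_eq_iff_eq_mul.1 h
  set t' := y * t * y⁻¹ with ht'def
  have ht'M : t' ∈ M := (hy t).1 htM
  have ht't : t' * t' = 1 := by
    rw [ht'def, show y * t * y⁻¹ * (y * t * y⁻¹) = y * (t * t) * y⁻¹ by group, htt]; simp
  have hft' : fixedBy Ω t' = y • F := fixedBy_conj' y t
  have hne : t ≠ t' := fun h => hyF (by rw [← hft', ← h])
  have ht'1 : t' ≠ 1 := fun h => ht1 (by simpa [ht'def] using h)
  have ht'c : ∀ m ∈ M, m * t' = t' * m := by
    intro m hm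
    have h1 : y⁻¹ * m * y ∈ M := (hy _).2 (by simpa [mul_assoc] using hm)
    have h2 := htc _ h1
    calc m * t' = y * ((y⁻¹ * m * y) * t) * y⁻¹ := by rw [ht'def]; group
      _ = y * (t * (y⁻¹ * m * y)) * y⁻¹ := by rw [h2]
      _ = t' * m := by rw [ht'def]; group
  obtain ⟨V, hV4, hVmem, hV2⟩ := exists_klein htt ht't (htc t' ht'M).symm ht1 ht'1 hne
  have hVM : V ≤ M := by
    intro v hv
    rcases (hVmem v).1 hv with rfl | rfl | rfl | rfl
    · exact one_mem _
    · exact htM
    · exact ht'M
    · exact mul_mem htM ht'M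
  have htV : t ∈ V := (hVmem t).2 (Or.inr (Or.inl rfl))
  have ht'V : t' ∈ V := (hVmem t').2 (Or.inr (Or.inr (Or.inl rfl)))
  have hVc : ∀ m ∈ M, ∀ v ∈ V, m * v = v * m := by
    intro m hm v hv
    rcases (hVmem v).1 hv with rfl | rfl | rfl | rfl
    · simp
    · exact htc m hm
    · exact ht'c m hm
    · rw [← mul_assoc, htc m hm, mul_assoc, ht'c m hm, ← mul_assoc]
  have hCM : S ⊓ centralizer {t} = M := by
    ext s
    simp only [Subgroup.mem_inf, Subgroup.mem_centralizer_singleton_iff, hMdef]
    exact ⟨fun h => ⟨h.1, mem_stab_of_commute h.2⟩, fun h => ⟨h.1, htc s h⟩⟩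
  obtain ⟨i, hi, hid⟩ := card_eq_kernel_mul (p := 2) (Set.toFinite F) (hS.to_le inf_le_left)
    (inf_le_right : M ≤ stabilizer G F)
  rw [← hKdef, hK2] at hi
  rw [hF] at hid
  have hi3 : i ≤ 3 := by
    by_contra h
    have : 2 ^ 4 ∣ Nat.factorial 4 := (pow_dvd_pow 2 (by omega)).trans hid
    norm_num [Nat.factorial] at this
  have hM4 : 4 ≤ Nat.card M := hV4 ▸ card_le_of_inf_eq hVM
  rcases (show i = 0 ∨ i = 1 ∨ i = 2 ∨ i = 3 by omega) with rfl | rfl | rfl | rfl
  · replace hi : Nat.card M = 2 := hi
    omega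
  · -- order four
    replace hi : Nat.card M = 4 := hi
    refine Or.inl (squareBound_of_selfCent_four (C := M) hS inf_le_left hi fun s hs hsc => ?_)
    rw [← hCM]
    exact ⟨hs, Subgroup.mem_centralizer_singleton_iff.2 (hsc t htM)⟩
  · -- order eight
    replace hi : Nat.card M = 8 := hi
    have hMc : ∀ a ∈ M, ∀ b ∈ M, a * b = b * a := by
      have hZ : 4 ≤ Nat.card (Subgroup.center ↥M) := by
        rw [← hV4, ← Nat.card_congr (Subgroup.subgroupOfEquivOfLe hVM).toEquiv]
        refine Nat.le_of_dvd Nat.card_pos (Subgroup.card_dvd_of_le ?_)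
        intro v hv
        rw [Subgroup.mem_center_iff]
        exact fun m => Subtype.ext (hVc m m.2 v hv)
      have hMp : IsPGroup 2 M := hS.to_le inf_le_left
      have h1 := (Subgroup.center ↥M).card_mul_index
      rw [hi] at h1
      have hidx : (Subgroup.center ↥M).index = 1 := by
        have hne' := PGroups.center_index_ne_prime (p := 2) (G := ↥M)
        have : (Subgroup.center ↥M).index ≤ 2 := by
          by_contra h
          nlinarith
        have : (Subgroup.center ↥M).index ≠ 0 := Subgroup.index_ne_zero_of_finite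
        omega
      intro a ha b hb'
      have : (⟨b, hb'⟩ : M) ∈ Subgroup.center ↥M := by
        rw [Subgroup.index_eq_one.1 hidx]; exact mem_top _
      exact congrArg Subtype.val (Subgroup.mem_center_iff.1 this ⟨a, ha⟩)
    by_cases hr : ∃ r ∈ M, r * r = 1 ∧ r ∉ V
    · obtain ⟨r, hrM, hr2, hrV⟩ := hr
      obtain ⟨E, hE, hE2, hEsq, hEc⟩ := exists_extend hV2 hr2 hrV (fun v hv => hVc r hrM v hv)
      have hEM : E ≤ M := by
        intro x hx
        rcases (hE x).1 hx with h | h
        · exact hVM h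
        · simpa using mul_mem (inv_mem hrM) (hVM h)
      have hEeq : E = M := Subgroup.eq_of_le_of_card_ge hEM (by rw [hi, hE2, hV4])
      refine Or.inl (squareBound_of_selfCent hS (hEM.trans inf_le_left) hEsq hEc (by rw [hE2, hV4])
        fun s hs hsc => ?_)
      rw [hEeq, ← hCM]
      exact ⟨hs, Subgroup.mem_centralizer_singleton_iff.2 (hsc t ((hE t).2 (Or.inl htV)))⟩
    · push Not at hr
      refine Or.inr ⟨y, hyS, hyF, by rw [hCM, hi], hCM ▸ hMc, hCM ▸ ht'M, ?_, ?_⟩
      · rw [hCM]
        intro g hg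
        by_contra hh
        push Not at hh
        obtain ⟨hg1, hg2⟩ := hh
        have hsqM : g * g ∈ M := mul_mem hg hg
        have hg4 : g * g * (g * g) = 1 := by
          have h8 : g ^ 8 = 1 := by
            rw [← hi]
            exact congrArg Subtype.val (pow_card_eq_one' (x := (⟨g, hg⟩ : M)))
          by_contra h4
          have h24 : (g * g * (g * g)) * (g * g * (g * g)) = 1 := by
            rw [← h8]; simp only [pow_succ, pow_zero, one_mul, mul_assoc]
          -- then `g` has order eight and `M` is cyclic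
          haveI := Fintype.ofFinite M
          have hgen : ∀ m ∈ M, m ∈ zpowers g := by
            have ho : orderOf g = 8 := by
              have := orderOf_eq_prime_pow (p := 2) (n := 2) (x := g)
                (by rw [show g ^ 2 ^ 2 = g * g * (g * g) by simp [pow_succ, mul_assoc]]; exact h4)
                (by rw [show (2 : ℕ) ^ (2 + 1) = 8 by norm_num]; exact h8)
              simpa using this
            have he : zpowers g = M :=
              Subgroup.eq_of_le_of_card_ge (zpowers_le.2 hg) (by rw [Nat.card_zpowers, ho, hi])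
            intro m hm; rw [he]; exact hm
          obtain ⟨a, ha⟩ := mem_zpowers_iff.1 (hgen t htM)
          obtain ⟨b, hb'⟩ := mem_zpowers_iff.1 (hgen t' ht'M)
          have key : ∀ v : G, v ∈ M → v * v = 1 → v ≠ 1 → v = g * g * (g * g) := by
            intro v hv hv2 hv1
            obtain ⟨c, rfl⟩ := mem_zpowers_iff.1 (hgen v hv)
            have ho : orderOf g = 8 := by
              have := orderOf_eq_prime_pow (p := 2) (n := 2) (x := g)
                (by rw [show g ^ 2 ^ 2 = g * g * (g * g) by simp [pow_succ, mul_assoc]]; exact h4)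
                (by rw [show (2 : ℕ) ^ (2 + 1) = 8 by norm_num]; exact h8)
              simpa using this
            rw [← zpow_add, ← orderOf_dvd_iff_zpow_eq_one, ho] at hv2
            rw [Ne, ← orderOf_dvd_iff_zpow_eq_one, ho] at hv1
            rw [show g * g * (g * g) = g ^ (4 : ℤ) by simp [zpow_ofNat, pow_succ, mul_assoc],
              PGroups.zpow_eq_zpow_iff_dvd ho]
            omega
          exact hne ((key t htM htt ht1).trans (key t' ht'M ht't ht'1).symm)
        have hsV : g * g ∈ V := hr _ hsqM hg4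
        -- the nontrivial square is fixed by conjugation with `y`
        have hyg : y * g * y⁻¹ ∈ M := (hy g).1 hg
        have huniq : ∀ b ∈ M, b * b ≠ 1 → b * b = g * g := by
          intro b hb' hb1
          by_cases hbg : b * g⁻¹ * (b * g⁻¹) = 1
          · have e : b * g⁻¹ * (b * g⁻¹) = b * b * (g * g)⁻¹ := by
              rw [show b * g⁻¹ * (b * g⁻¹) = b * (g⁻¹ * b) * g⁻¹ by group,
                ← (hMc b hb' g⁻¹ (inv_mem hg))]
              group
            rw [e, mul_inv_eq_one] at hbg
            exact hbg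
          · exfalso
            -- `V` has index two in `M`, so the product lies in `V`
            have hidx : (V.subgroupOf M).index = 2 := by
              have h1 := (V.subgroupOf M).card_mul_index
              rw [Nat.card_congr (Subgroup.subgroupOfEquivOfLe hVM).toEquiv, hV4, hi] at h1
              omega
            have hgV : g ∉ V := fun h => hg1 (hV2 g h)
            have hbV : b ∉ V := fun h => hb1 (hV2 b h)
            have := (Subgroup.mul_mem_iff_of_index_two hidx (a := (⟨b, hb'⟩ : M))
              (b := ⟨g⁻¹, inv_mem hg⟩)).2 (iff_of_false (fun h => hbV h)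
                (fun h => hgV (inv_mem_iff.1 h)))
            exact hbg (hV2 _ this)
        have hfix : y * (g * g) * y⁻¹ = g * g := by
          rw [show y * (g * g) * y⁻¹ = y * g * y⁻¹ * (y * g * y⁻¹) by group]
          refine huniq _ hyg fun h => hg1 ?_
          rw [show g * g = y⁻¹ * (y * g * y⁻¹ * (y * g * y⁻¹)) * y by group, h]
          simp
        rcases (hVmem _).1 hsV with h | h | h | h
        · exact hg1 h
        · rw [h] at hfix; exact hne hfix.symm
        · rw [h] at hfix
          exact hne (mul_left_cancel (mul_right_cancel (hfix.trans ht'def))).symm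
        · exact hg2 h
      · by_contra hall
        rw [hCM] at hall
        push Not at hall
        have hMV : M ≤ V := fun m hm => hr m hm (hall m hm)
        have := card_le_of_inf_eq hMV
        omega
  · -- order sixteen
    replace hi : Nat.card M = 16 := hi
    left
    obtain ⟨a, haM, a₁, ha₁M, haa, ha₁a₁, hcom⟩ := exists_noncomm_img (Ω := Ω) hF
      (inf_le_right : M ≤ stabilizer G F) (by rw [← hKdef, hK2]; exact hi)
    have hnc : a * a₁ ≠ a₁ * a := by
      intro h
      apply hcom
      rw [h]; simp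
    have haV : a ∉ V := fun h => hnc (hVc a₁ ha₁M a h).symm
    have ha₁V : a₁ ∉ V := fun h => hnc (hVc a haM a₁ h)
    have hsmallcase : ∀ r ∈ M, ∀ s ∈ M, r * s ≠ s * r → r * r = 1 →
        H64.RankFour.SquareBound ↥S := by
      intro r hrM s hsM hrs hr2
      have hrV : r ∉ V := fun h => hrs (hVc s hsM r h).symm
      obtain ⟨E, hE, hE2, hEsq, hEc⟩ := exists_extend hV2 hr2 hrV (fun v hv => hVc r hrM v hv)
      have hEM : E ≤ M := by
        intro x hx
        rcases (hE x).1 hx with h | h
        · exact hVM h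
        · simpa using mul_mem (inv_mem hrM) (hVM h)
      have hrE : r ∈ E := (hE r).2 (Or.inr (hr2 ▸ V.one_mem))
      refine squareBound_of_selfCent hS (hEM.trans inf_le_left) hEsq hEc (by rw [hE2, hV4])
        fun u hu huc => ?_
      have huM : u ∈ M := hCM ▸
        ⟨hu, Subgroup.mem_centralizer_singleton_iff.2 (huc t ((hE t).2 (Or.inl htV)))⟩
      set D := M ⊓ centralizer {r} with hD
      have hED : E ≤ D := fun x hx =>
        ⟨hEM hx, Subgroup.mem_centralizer_singleton_iff.2 (hEc x hx r hrE)⟩
      have hDlt : Nat.card D < 16 := by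
        rw [← hi]
        refine lt_of_le_of_ne (card_le_of_inf_eq inf_le_left) fun h => ?_
        have := Subgroup.eq_of_le_of_card_ge (inf_le_left : D ≤ M) h.ge
        exact hrs (Subgroup.mem_centralizer_singleton_iff.1 (this.ge hsM).2).symm
      have hdvd : Nat.card E ∣ Nat.card D := Subgroup.card_dvd_of_le hED
      have hdvd' : Nat.card D ∣ 16 := hi ▸ Subgroup.card_dvd_of_le inf_le_left
      rw [hE2, hV4] at hdvd
      have hD8 : Nat.card D = 8 := by
        obtain ⟨c, hc⟩ := hdvd
        rw [hc] at hdvd' hDlt ⊢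
        have : c < 2 := by omega
        interval_cases c <;> omega
      have := Subgroup.eq_of_le_of_card_ge hED (by rw [hE2, hV4, hD8])
      exact this ▸ ⟨huM, Subgroup.mem_centralizer_singleton_iff.2 (huc r hrE)⟩
    have hsq : ∀ {r : G}, r ∈ M → r * r ∈ fixingSubgroup G F → r * r = 1 ∨ r * r = t :=
      fun {r} hr hr' => hKmem _ ⟨mul_mem hr hr, hr'⟩
    rcases hsq haM haa with ha2 | ha2
    · exact hsmallcase a haM a₁ ha₁M hnc ha2
    rcases hsq ha₁M ha₁a₁ with ha12 | ha12
    · exact hsmallcase a₁ ha₁M a haM (Ne.symm hnc) ha12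
    exfalso
    haveI hVn : (V.subgroupOf M).Normal := ⟨fun v hv m => by
      rw [Subgroup.mem_subgroupOf] at hv ⊢
      simp only [Subgroup.coe_mul, InvMemClass.coe_inv]
      rw [hVc m m.2 v hv, mul_inv_cancel_right]
      exact hv⟩
    let q := QuotientGroup.mk' (V.subgroupOf M)
    have hQ : Nat.card (↥M ⧸ V.subgroupOf M) = 4 := by
      rw [← Subgroup.index_eq_card]
      have h1 := (V.subgroupOf M).card_mul_index
      rw [Nat.card_congr (Subgroup.subgroupOfEquivOfLe hVM).toEquiv, hV4, hi] at h1
      omega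
    have hqeq : ∀ (u v : M), q u = q v → (u : G)⁻¹ * v ∈ V := fun u v h => Subgroup.mem_subgroupOf.1 (QuotientGroup.eq.1 (show (QuotientGroup.mk u : ↥M ⧸ V.subgroupOf M) = QuotientGroup.mk v from h))
    have hcommq : ∀ (u v : M), q u = q v → (u : G) * v = v * u := by
      intro u v h
      have h1 := hVc u u.2 _ (hqeq u v h)
      calc (u : G) * v = u * (u * ((u : G)⁻¹ * v)) := by group
        _ = u * ((u : G)⁻¹ * v * u) := by rw [h1]
        _ = v * u := by group
    have hsqq : ∀ (u v : M), q u = q v → (u : G) * u = v * v := by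
      intro u v h
      have h2 := hcommq u v h
      have h3 : ((u : G)⁻¹ * v) * ((u : G)⁻¹ * v) = 1 := hV2 _ (hqeq u v h)
      calc (u : G) * u = u * u * (((u : G)⁻¹ * v) * ((u : G)⁻¹ * v)) := by rw [h3, mul_one]
        _ = u * (v * (u : G)⁻¹) * v := by group
        _ = u * ((u : G)⁻¹ * v) * v := by
          rw [show (v : G) * (u : G)⁻¹ = (u : G)⁻¹ * v by
            rw [eq_inv_mul_iff_mul_eq, ← mul_assoc, h2, mul_inv_cancel_right]]
        _ = v * v := by group
    have ha' : y * a * y⁻¹ ∈ M := (hy a).1 haM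
    have ha₁' : y * a₁ * y⁻¹ ∈ M := (hy a₁).1 ha₁M
    have hb2 : (y * a * y⁻¹) * (y * a * y⁻¹) = t' := by rw [ht'def, ← ha2]; group
    have hb12 : (y * a₁ * y⁻¹) * (y * a₁ * y⁻¹) = t' := by rw [ht'def, ← ha12]; group
    set α : M := ⟨a, haM⟩
    set α₁ : M := ⟨a₁, ha₁M⟩
    have honly : ∀ b : M, (b : G) * b = t' → q b = q α * q α₁ := by
      intro b hbt
      by_contra hne'
      have n1 : q α ≠ 1 := fun h => haV ((QuotientGroup.eq_one_iff α).1 h)
      have n2 : q α₁ ≠ 1 := fun h => ha₁V ((QuotientGroup.eq_one_iff α₁).1 h)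
      have n3 : q α ≠ q α₁ := fun h => hnc (hcommq α α₁ h)
      have n4 : q α * q α₁ ≠ 1 := by
        intro h
        apply hnc
        rw [← map_mul] at h
        have h1 : a * a₁ ∈ V := (QuotientGroup.eq_one_iff (α * α₁)).1 h
        have h2 := hVc a haM _ h1
        rw [mul_assoc] at h2
        exact mul_left_cancel h2
      have n5 : q α * q α₁ ≠ q α := fun h => n2 (mul_eq_left.1 h)
      have n6 : q α * q α₁ ≠ q α₁ := fun h => n1 (mul_eq_right.1 h)
      have n7 : q b ≠ 1 := fun h => ht'1 (hbt ▸ hV2 _ ((QuotientGroup.eq_one_iff b).1 h))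
      have n8 : q b ≠ q α := fun h => hne (ha2.symm.trans ((hsqq b α h).symm.trans hbt))
      have n9 : q b ≠ q α₁ := fun h => hne (ha12.symm.trans ((hsqq b α₁ h).symm.trans hbt))
      haveI := Fintype.ofFinite (↥M ⧸ V.subgroupOf M)
      have h5 : ({1, q α, q α₁, q α * q α₁, q b} : Finset (↥M ⧸ V.subgroupOf M)).card = 5 := by
        rw [Finset.card_insert_of_notMem, Finset.card_insert_of_notMem, Finset.card_insert_of_notMem,
          Finset.card_insert_of_notMem, Finset.card_singleton]
        · simp [Ne.symm hne']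
        · simp [Ne.symm n6, Ne.symm n9]
        · simp [n3, Ne.symm n5, Ne.symm n8]
        · simp [Ne.symm n1, Ne.symm n2, Ne.symm n4, Ne.symm n7]
      have := Finset.card_le_univ ({1, q α, q α₁, q α * q α₁, q b} : Finset (↥M ⧸ V.subgroupOf M))
      rw [h5, ← Nat.card_eq_fintype_card, hQ] at this
      omega
    have := hcommq ⟨_, ha'⟩ ⟨_, ha₁'⟩ ((honly ⟨_, ha'⟩ hb2).trans (honly ⟨_, ha₁'⟩ hb12).symm)
    apply hnc
    have e : y * (a * a₁) * y⁻¹ = y * (a₁ * a) * y⁻¹ := by
      convert this using 1 <;> group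
    exact mul_left_cancel (mul_right_cancel e)

end Cfsg.Agent.H19.Fixity
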