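import Mathlib

/-!
# Small facts about permutations of three or four points
-/

set_option autoImplicit false
set_option linter.unusedSectionVars false
set_option linter.style.haveILetI false
set_option synthInstance.maxSize 2000
set_option maxSynthPendingDepth 6

namespace Cfsg.Agent.H19.Fixity

open Equiv

theorem perm4_orders : ∀ σ : Perm (Fin 4), σ * σ * σ * σ = 1 ∨ σ * σ * σ = 1 := by decide +kernel

theorem perm4_fix : ∀ σ : Perm (Fin 4), σ * σ = 1 → σ ≠ 1 → ∀ a b c : Fin 4,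
    σ a = a → σ b = b → σ c = c → a = b ∨ a = c ∨ b = c := by decide +kernel

theorem perm4_quot : ∀ q : Perm (Fin 4), q ≠ 1 → q * q * q = 1 → ∀ r : Perm (Fin 4), r ≠ 1 →
    r * r * r = 1 → q ≠ r → (q⁻¹ * r) * (q⁻¹ * r) * (q⁻¹ * r) = 1 → ∀ s : Perm (Fin 4), s ≠ 1 →
    s * s * s = 1 → q ≠ s → (q⁻¹ * s) * (q⁻¹ * s) * (q⁻¹ * s) = 1 → r ≠ s →
    (r⁻¹ * s) * (r⁻¹ * s) * (r⁻¹ * s) = 1 → False := by decide +kernel

theorem perm4_free_mul : ∀ δ : Perm (Fin 4), δ * δ = 1 → (∀ a, δ a ≠ a) → ∀ ε : Perm (Fin 4),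
    ε * ε = 1 → (∀ a, ε a ≠ a) → δ * ε * (δ * ε) = 1 := by decide +kernel

theorem perm4_free_cycle : ∀ δ : Perm (Fin 4), δ * δ = 1 → (∀ a, δ a ≠ a) → ∀ σ : Perm (Fin 4),
    σ ≠ 1 → σ * σ * σ = 1 → σ * σ * δ ≠ δ * (σ * σ) := by decide +kernel

theorem perm4_sylow : ∃ c : Perm (Fin 4),
    (Finset.univ.filter (fun g : Perm (Fin 4) => g * c = c * g)).card = 8 ∧
      ∃ a b : Perm (Fin 4), a * c = c * a ∧ b * c = c * b ∧ a * a = 1 ∧ b * b = 1 ∧ a * b ≠ b * a := by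
  refine ⟨swap 0 1 * swap 2 3, ?_, swap 0 1, swap 0 2 * swap 1 3, ?_, ?_, ?_, ?_, ?_⟩ <;> decide +kernel

theorem perm3_inv : ∀ x : Perm (Fin 3), x ≠ 1 → x * x * x = 1 → ∀ g : Perm (Fin 3),
    g * x * g⁻¹ = x⁻¹ → ∃ c, g c = c := by decide +kernel

theorem perm4_inv : ∀ x : Perm (Fin 4), x ≠ 1 → x * x * x = 1 → ∀ g : Perm (Fin 4),
    g * x * g⁻¹ = x⁻¹ → ∃ c, g c = c := by decide +kernel

theorem perm3_cent : ∀ x : Perm (Fin 3), x ≠ 1 → x * x * x = 1 → ∀ g : Perm (Fin 3),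
    g * x * g⁻¹ = x → g * g * g = 1 := by decide +kernel

theorem perm4_cent : ∀ x : Perm (Fin 4), x ≠ 1 → x * x * x = 1 → ∀ g : Perm (Fin 4),
    g * x * g⁻¹ = x → g * g * g = 1 := by decide +kernel

theorem perm3_free : ∀ σ : Perm (Fin 3), (∀ a, σ a ≠ a) → σ * σ * σ = 1 := by decide +kernel

theorem perm4_free : ∀ x : Perm (Fin 4), x ≠ 1 → x * x * x = 1 → ∀ σ : Perm (Fin 4), (∀ a, σ a ≠ a) →
    σ * σ = 1 ∨ ((∃ c, (σ * x) c = c) ∧ σ * x * (σ * x) * (σ * x) ≠ 1) ∨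
      ((∃ c, (σ * (x * x)) c = c) ∧ σ * (x * x) * (σ * (x * x)) * (σ * (x * x)) ≠ 1) := by
  decide +kernel

/-- Evenness on three or four points. -/
def Ev {k : ℕ} (σ : Perm (Fin k)) : Prop := σ * σ * σ = 1 ∨ (σ * σ = 1 ∧ ∀ a, σ a ≠ a)

instance {k : ℕ} (σ : Perm (Fin k)) : Decidable (Ev σ) := by unfold Ev; infer_instance

/-- The homomorphism of the alternating group of degree three onto a group of order three. -/
def chi3 (σ : Perm (Fin 3)) : ZMod 3 :=
  if σ 0 = 0 then 0 else if σ 0 = 1 then 1 else 2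

/-- The homomorphism of the alternating group of degree four onto a group of order three. -/
def chi4 (σ : Perm (Fin 4)) : ZMod 3 :=
  if σ * σ = 1 then 0 else
    if σ * (swap 1 2 * swap 0 1) * (σ * (swap 1 2 * swap 0 1)) = 1 then 1 else 2

theorem chi3_mul : ∀ σ : Perm (Fin 3), Ev σ → ∀ τ : Perm (Fin 3), Ev τ →
    chi3 (σ * τ) = chi3 σ + chi3 τ := by decide +kernel

theorem chi4_mul : ∀ σ : Perm (Fin 4), Ev σ → ∀ τ : Perm (Fin 4), Ev τ →
    chi4 (σ * τ) = chi4 σ + chi4 τ := by decide +kernel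

theorem chi3_ne : ∀ σ : Perm (Fin 3), σ ≠ 1 → σ * σ * σ = 1 → chi3 σ ≠ 0 := by decide +kernel

theorem chi4_ne : ∀ σ : Perm (Fin 4), σ ≠ 1 → σ * σ * σ = 1 → chi4 σ ≠ 0 := by decide +kernel

/-- A subgroup of order eight of a symmetric group of degree four has two noncommuting involutions. -/
theorem exists_noncomm_involutions {α : Type*} [Finite α] (hα : Nat.card α = 4) (Q : Subgroup (Perm α))
    (hQ : Nat.card Q = 8) :
    ∃ a ∈ Q, ∃ b ∈ Q, a * a = 1 ∧ b * b = 1 ∧ a * b ≠ b * a := by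
  haveI : Fact (Nat.Prime 2) := ⟨Nat.prime_two⟩
  obtain ⟨c, hc, a, b, hac, hbc, ha, hb, hab⟩ := perm4_sylow
  have hD : Nat.card (Subgroup.centralizer ({c} : Set (Perm (Fin 4)))) = 8 := by
    rw [← hc]
    apply Nat.subtype_card
    intro g
    simp [Subgroup.mem_centralizer_singleton_iff, eq_comm]
  haveI : Fintype α := Fintype.ofFinite α
  let e : Perm α ≃* Perm (Fin 4) := (Fintype.equivFinOfCardEq
    (by rw [← Nat.card_eq_fintype_card, hα])).permCongrHom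
  have hQ' : Nat.card (Q.map e.toMonoidHom) = 8 := by
    rw [Subgroup.card_map_of_injective e.injective, hQ]
  have h24 : Nat.card (Perm (Fin 4)) = 24 := by rw [Nat.card_perm, Nat.card_fin]; rfl
  let D : Sylow 2 (Perm (Fin 4)) := Sylow.ofCard (Subgroup.centralizer {c})
    (by rw [hD, h24]; decide +kernel)
  let E : Sylow 2 (Perm (Fin 4)) := Sylow.ofCard (Q.map e.toMonoidHom)
    (by rw [hQ', h24]; decide +kernel)
  obtain ⟨g, hg⟩ := MulAction.exists_smul_eq (Perm (Fin 4)) D E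
  have key : ∀ x, x * c = c * x → e.symm (g * x * g⁻¹) ∈ Q := by
    intro x hx
    have h1 : g * x * g⁻¹ ∈ (E : Subgroup (Perm (Fin 4))) := by
      rw [← hg]
      exact Subgroup.smul_mem_pointwise_smul x (MulAut.conj g) _
        (Subgroup.mem_centralizer_singleton_iff.2 hx)
    obtain ⟨q, hq, he⟩ := h1
    rw [← he]
    simpa using hq
  refine ⟨_, key a hac, _, key b hbc, ?_, ?_, fun h => hab ?_⟩
  · rw [← map_mul, show g * a * g⁻¹ * (g * a * g⁻¹) = g * (a * a) * g⁻¹ by group, ha]; simp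
  · rw [← map_mul, show g * b * g⁻¹ * (g * b * g⁻¹) = g * (b * b) * g⁻¹ by group, hb]; simp
  · rw [← map_mul, ← map_mul, e.symm.injective.eq_iff] at h
    have : g * (a * b) * g⁻¹ = g * (b * a) * g⁻¹ := by
      convert h using 1 <;> group
    exact mul_left_cancel (mul_right_cancel this)

end Cfsg.Agent.H19.Fixity
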