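import Cfsg.Agent.H19.Fixity.Common
import Cfsg.Agent.H19.Fixity.Perm4

/-!
# Point stabilisers of odd order: tools for the prime three
-/

set_option autoImplicit false
set_option linter.unusedSectionVars false
set_option linter.style.haveILetI false

namespace Cfsg.Agent.H19.Fixity

open MulAction Subgroup
open scoped Pointwise

theorem perm3_orders : ∀ σ : Equiv.Perm (Fin 3), σ * σ * σ * σ = 1 ∨ σ * σ * σ = 1 := by decide +kernel

section Group

variable {G : Type*} [Group G]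

theorem eq_one_of_inverted {g x : G} (h : g * x * g⁻¹ = x⁻¹) (hg : Odd (orderOf g))
    (hx : x ^ 3 = 1) : x = 1 := by
  obtain ⟨j, hj⟩ := hg
  have h1 : Commute (g ^ 2) x := by
    have h2 : g * x⁻¹ * g⁻¹ = x := by
      have := congrArg (·⁻¹) h
      simpa [mul_assoc] using this
    rw [commute_iff_eq, ← mul_inv_eq_iff_eq_mul]
    calc g ^ 2 * x * (g ^ 2)⁻¹ = g * (g * x * g⁻¹) * g⁻¹ := by rw [pow_two]; group
      _ = x := by rw [h, h2]
  have h3 : (g ^ 2) ^ (j + 1) = g := by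
    rw [← pow_mul, show 2 * (j + 1) = orderOf g + 1 by omega, pow_succ, pow_orderOf_eq_one, one_mul]
  have h4 : Commute g x := h3 ▸ h1.pow_left (j + 1)
  rw [h4.eq, mul_inv_cancel_right] at h
  have h5 : x * x = 1 := mul_eq_one_iff_eq_inv.2 h
  rw [pow_succ, pow_two, h5, one_mul] at hx
  exact hx

theorem eq_one_of_pow_four {σ : G} (h4 : σ * σ * σ * σ = 1) {o : ℕ} (ho : Odd o) (h : σ ^ o = 1) :
    σ = 1 := by
  have h4' : σ ^ 4 = 1 := by rw [← h4]; simp [pow_succ, mul_assoc]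
  have hcop : Nat.Coprime 4 o := by
    have : Nat.Coprime 2 o := (Nat.coprime_two_left).2 ho
    exact Nat.Coprime.pow_left 2 this
  have := Nat.dvd_gcd (orderOf_dvd_of_pow_eq_one h4') (orderOf_dvd_of_pow_eq_one h)
  rw [hcop, Nat.dvd_one, orderOf_eq_one_iff] at this
  exact this

variable [Finite G]

/-- Two `p`-subgroups of largest order in `H` are conjugate in `H`. -/
theorem conj_of_max {p : ℕ} [Fact p.Prime] {H U U' : Subgroup G} (hU : U ≤ H) (hU' : U' ≤ H)
    (hUp : IsPGroup p U) (hU'p : IsPGroup p U')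
    (hmax : ∀ D : Subgroup G, D ≤ H → IsPGroup p D → Nat.card D ≤ Nat.card U)
    (hcard : Nat.card U' = Nat.card U) : ∃ h ∈ H, ∀ x, x ∈ U ↔ h * x * h⁻¹ ∈ U' := by
  have key : ∀ (V : Subgroup G), V ≤ H → IsPGroup p V → Nat.card U ≤ Nat.card V →
      ∃ R : Sylow p H, (R : Subgroup H) = V.subgroupOf H := by
    intro V hV hVp hle
    obtain ⟨R, hR⟩ := (hVp.comap_subtype (K := H)).exists_le_sylow
    refine ⟨R, (Subgroup.eq_of_le_of_card_ge hR ?_).symm⟩
    have h1 := hmax _ (Subgroup.map_subtype_le (R : Subgroup H)) (R.isPGroup'.map H.subtype)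
    rw [Subgroup.card_map_of_injective H.subtype_injective] at h1
    exact h1.trans (hle.trans (le_of_eq (Nat.card_congr (Subgroup.subgroupOfEquivOfLe hV).toEquiv).symm))
  obtain ⟨R, hR⟩ := key U hU hUp le_rfl
  obtain ⟨R', hR'⟩ := key U' hU' hU'p hcard.ge
  obtain ⟨h, hh⟩ := MulAction.exists_smul_eq H R R'
  refine ⟨h, h.2, fun x => ?_⟩
  have e : ∀ v : H, v ∈ (R : Subgroup H) ↔ h * v * h⁻¹ ∈ (R' : Subgroup H) := fun v => by
    rw [← hh]
    exact (Subgroup.smul_mem_pointwise_smul_iff (a := MulAut.conj h)).symm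
  constructor
  · intro hx
    have := (e ⟨x, hU hx⟩).1 (hR ▸ hx)
    rw [hR'] at this
    exact this
  · intro hx
    have hxH : x ∈ H := by
      have := mul_mem (mul_mem (inv_mem h.2) (hU' hx)) h.2
      simpa [mul_assoc] using this
    have := (e ⟨x, hxH⟩).2 (hR' ▸ hx)
    rw [hR] at this
    exact this

theorem not_dvd_relIndex_of_max {p : ℕ} [Fact p.Prime] {H U : Subgroup G} (hU : U ≤ H)
    (hUp : IsPGroup p U) (hmax : ∀ D : Subgroup G, D ≤ H → IsPGroup p D → Nat.card D ≤ Nat.card U) :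
    ¬ p ∣ U.relIndex H := by
  obtain ⟨R, hR⟩ := (hUp.comap_subtype (K := H)).exists_le_sylow
  have hR' : (R : Subgroup H) = U.subgroupOf H := by
    refine (Subgroup.eq_of_le_of_card_ge hR ?_).symm
    have h1 := hmax _ (Subgroup.map_subtype_le (R : Subgroup H)) (R.isPGroup'.map H.subtype)
    rw [Subgroup.card_map_of_injective H.subtype_injective] at h1
    exact h1.trans (le_of_eq (Nat.card_congr (Subgroup.subgroupOfEquivOfLe hU).toEquiv).symm)
  have := R.not_dvd_index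
  rw [hR'] at this
  exact this

theorem max_of_le {E C : Subgroup G} (hEC : E ≤ C) (hE : IsPGroup 3 E) {n : ℕ}
    (hbound : ∀ D : Subgroup G, IsPGroup 3 D → E ≤ D → D ≤ C → Nat.card D ≤ n) :
    ∀ D : Subgroup G, D ≤ C → IsPGroup 3 D → Nat.card D ≤ n := by
  haveI : Fact (Nat.Prime 3) := ⟨Nat.prime_three⟩
  intro D hD hDp
  obtain ⟨R, hR⟩ := (hE.comap_subtype (K := C)).exists_le_sylow
  have hRle := hbound ((R : Subgroup _).map C.subtype) (R.isPGroup'.map _)
    (fun a ha => ⟨⟨a, hEC ha⟩, hR ha, rfl⟩) (Subgroup.map_subtype_le _)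
  rw [Subgroup.card_map_of_injective (Subgroup.subtype_injective _)] at hRle
  obtain ⟨R', hR'⟩ := (hDp.comap_subtype (K := C)).exists_le_sylow
  have h1 : Nat.card D ≤ Nat.card (R' : Subgroup _) :=
    le_trans (le_of_eq (Nat.card_congr (Subgroup.subgroupOfEquivOfLe hD).toEquiv).symm)
      (card_le_of_inf_eq hR')
  rw [Sylow.card_eq_multiplicity] at hRle h1
  omega

theorem card_three_pow_le {U : Subgroup G} (hU : IsPGroup 3 U) {i : ℕ} (h : Nat.card U < 3 ^ (i + 1)) :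
    Nat.card U ≤ 3 ^ i := by
  haveI : Fact (Nat.Prime 3) := ⟨Nat.prime_three⟩
  obtain ⟨j, hj⟩ := (IsPGroup.iff_card (p := 3)).1 hU
  rw [hj] at h ⊢
  exact Nat.pow_le_pow_right (by norm_num) (Nat.lt_succ_iff.1 ((Nat.pow_lt_pow_iff_right (by norm_num)).1 h))

theorem three_mul_card_le {U V : Subgroup G} (hV : IsPGroup 3 V) (h : U < V) :
    3 * Nat.card U ≤ Nat.card V := by
  haveI : Fact (Nat.Prime 3) := ⟨Nat.prime_three⟩
  obtain ⟨j, hj⟩ := (IsPGroup.iff_card (p := 3)).1 hV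
  have hd := Subgroup.card_dvd_of_le h.le
  rw [hj] at hd ⊢
  obtain ⟨i, hij, hi⟩ := (Nat.dvd_prime_pow Nat.prime_three).1 hd
  rw [hi, ← pow_succ']
  refine Nat.pow_le_pow_right (by norm_num) ?_
  rcases hij.lt_or_eq with h' | h'
  · exact h'
  · exact absurd (Subgroup.eq_of_le_of_card_ge h.le (by rw [hi, hj, h'])) h.ne

/-- In an elementary abelian group of order nine two independent elements are a basis. -/
theorem exists_pow_decomp {E : Subgroup G} (hE : Nat.card E = 9) {y z : G} (hy : y ∈ E) (hz : z ∈ E)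
    (hy3 : y ^ 3 = 1) (hz3 : z ^ 3 = 1) (hz1 : z ≠ 1) (hyz : y ∉ zpowers z) :
    ∀ e ∈ E, ∃ a b : Fin 3, e = y ^ (a : ℕ) * z ^ (b : ℕ) := by
  haveI : Fact (Nat.Prime 3) := ⟨Nat.prime_three⟩
  let f : Fin 3 × Fin 3 → E := fun p => ⟨y ^ (p.1 : ℕ) * z ^ (p.2 : ℕ), mul_mem (pow_mem hy _) (pow_mem hz _)⟩
  have hf : Function.Injective f := by
    rintro ⟨a, b⟩ ⟨c, d⟩ h
    have h1 : y ^ (a : ℕ) * z ^ (b : ℕ) = y ^ (c : ℕ) * z ^ (d : ℕ) := congrArg Subtype.val h
    have key : a = c := by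
      by_contra hac
      apply hyz
      have h2 : y ^ ((c : ℕ) + (3 - a)) ∈ zpowers z := by
        have e : y ^ (c : ℕ) = y ^ (a : ℕ) * (z ^ (b : ℕ) * (z ^ (d : ℕ))⁻¹) := by
          rw [← mul_assoc, h1, mul_inv_cancel_right]
        rw [add_comm, pow_add, e, ← mul_assoc, ← pow_add, Nat.sub_add_cancel (by omega), hy3, one_mul]
        exact mul_mem (pow_mem (mem_zpowers z) _) (inv_mem (pow_mem (mem_zpowers z) _))
      rw [← pow_mod_orderOf, orderOf_eq_prime hy3 (fun e => hyz (e ▸ one_mem _))] at h2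
      have : ((c : ℕ) + (3 - a)) % 3 = 1 ∨ ((c : ℕ) + (3 - a)) % 3 = 2 := by
        have : (a : ℕ) ≠ c := fun e => hac (Fin.ext e)
        omega
      rcases this with h | h <;> rw [h] at h2
      · simpa using h2
      · have h4 := mul_mem h2 h2
        rw [← pow_add, show 2 + 2 = 3 + 1 from rfl, pow_succ, hy3, one_mul] at h4
        exact h4
    subst key
    have h2 := mul_left_cancel h1
    have ho : orderOf z = 3 := orderOf_eq_prime hz3 hz1
    exact Prod.ext rfl (Fin.ext (pow_injOn_Iio_orderOf (show (b : ℕ) < orderOf z by omega)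
      (show (d : ℕ) < orderOf z by omega) h2))
  have hbij : Function.Bijective f := (Nat.bijective_iff_injective_and_card f).2
    ⟨hf, by rw [hE, Nat.card_prod, Nat.card_fin]⟩
  intro e he
  obtain ⟨⟨a, b⟩, hab⟩ := hbij.2 ⟨e, he⟩
  exact ⟨a, b, (congrArg Subtype.val hab).symm⟩

end Group

variable {G Ω : Type*} [Group G] [MulAction G Ω]

/-- The action of a set stabiliser through an enumeration of the set. -/
def imgFin {F : Set Ω} {k : ℕ} (e : F ≃ Fin k) : stabilizer G F →* Equiv.Perm (Fin k) :=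
  e.permCongrHom.toMonoidHom.comp (img F)

theorem imgFin_eq_one {F : Set Ω} {k : ℕ} (e : F ≃ Fin k) {g : stabilizer G F} :
    imgFin e g = 1 ↔ (g : G) ∈ fixingSubgroup G F := by
  show e.permCongrHom (img F g) = 1 ↔ _
  rw [map_eq_one_iff _ (MulEquiv.injective _), img_eq_one_iff]

theorem imgFin_fix {F : Set Ω} {k : ℕ} (e : F ≃ Fin k) {g : stabilizer G F} {c : Fin k}
    (h : imgFin e g c = c) : ∃ a ∈ F, (g : G) • a = a := by
  refine ⟨(e.symm c : F), (e.symm c).2, ?_⟩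
  have h1 : e (img F g (e.symm c)) = c := h
  have h2 := congrArg Subtype.val (e.injective (h1.trans (e.apply_symm_apply c).symm))
  rwa [img_apply] at h2

variable [Finite G] (hodd : ∀ (g : G) (a : Ω), g • a = a → Odd (orderOf g))
include hodd

theorem imgFin_odd {F : Set Ω} {k : ℕ} (e : F ≃ Fin k) {g : stabilizer G F} {c : Fin k}
    (h : imgFin e g c = c) : ∃ o, Odd o ∧ imgFin e g ^ o = 1 := by
  obtain ⟨a, -, ha⟩ := imgFin_fix e h
  refine ⟨_, hodd g a ha, ?_⟩
  rw [← map_pow]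
  rw [show g ^ orderOf (g : G) = 1 from Subtype.ext (by rw [Subgroup.coe_pow, pow_orderOf_eq_one,
    OneMemClass.coe_one]), map_one]

theorem imgFin_cube {F : Set Ω} {k : ℕ} (e : F ≃ Fin k) (hk : k = 3 ∨ k = 4) {g : stabilizer G F}
    {c : Fin k} (h : imgFin e g c = c) : imgFin e g * imgFin e g * imgFin e g = 1 := by
  obtain ⟨o, ho, hpow⟩ := imgFin_odd hodd e h
  have : imgFin e g * imgFin e g * imgFin e g * imgFin e g = 1 ∨
      imgFin e g * imgFin e g * imgFin e g = 1 := by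
    rcases hk with rfl | rfl
    · exact perm3_orders _
    · exact perm4_orders _
  rcases this with h4 | h3
  · rw [eq_one_of_pow_four h4 ho hpow]; simp
  · exact h3

/-- No element inverts a three-cycle on a fixed set. -/
theorem no_inversion {F : Set Ω} [Finite Ω] (hF : F.ncard = 3 ∨ F.ncard = 4) {g x : G}
    (hgF : g ∈ stabilizer G F) (hxF : x ∈ stabilizer G F) (hx1 : x ∉ fixingSubgroup G F)
    (hx3 : x ^ 3 ∈ fixingSubgroup G F) (h : g * x * g⁻¹ * x ∈ fixingSubgroup G F) : False := by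
  haveI := (Set.toFinite F).fintype
  obtain ⟨k, hk, e⟩ : ∃ k, (k = 3 ∨ k = 4) ∧ Nonempty (F ≃ Fin k) :=
    ⟨F.ncard, hF, ⟨Fintype.equivFinOfCardEq (by rw [← Nat.card_eq_fintype_card, Nat.card_coe_set_eq])⟩⟩
  obtain ⟨e⟩ := e
  set γ := imgFin e (⟨g, hgF⟩ : stabilizer G F) with hγ
  set σ := imgFin e (⟨x, hxF⟩ : stabilizer G F) with hσ
  have hσ1 : σ ≠ 1 := fun h' => hx1 ((imgFin_eq_one e).1 h')
  have hσ3 : σ * σ * σ = 1 := by
    rw [hσ, ← map_mul, ← map_mul, imgFin_eq_one]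
    simpa [pow_succ] using hx3
  have hinv : γ * σ * γ⁻¹ = σ⁻¹ := by
    rw [eq_inv_iff_mul_eq_one, hγ, hσ, ← map_inv, ← map_mul, ← map_mul, ← map_mul, imgFin_eq_one]
    exact h
  obtain ⟨c, hc⟩ : ∃ c, γ c = c := by
    rcases hk with rfl | rfl
    · exact perm3_inv σ hσ1 hσ3 γ hinv
    · exact perm4_inv σ hσ1 hσ3 γ hinv
  obtain ⟨o, ho, hpow⟩ := imgFin_odd hodd e hc
  have hodd' : Odd (orderOf γ) := by
    rw [← Nat.not_even_iff_odd, even_iff_two_dvd]
    exact fun h2 => (Nat.not_even_iff_odd.2 ho) (even_iff_two_dvd.2 (h2.trans (orderOf_dvd_of_pow_eq_one hpow)))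
  exact hσ1 (eq_one_of_inverted hinv hodd' (by simpa [pow_succ] using hσ3))

/-- An element commuting with a three-cycle on a fixed set has odd order. -/
theorem odd_of_commute {F : Set Ω} [Finite Ω] (hF : F.ncard = 3 ∨ F.ncard = 4) {g x : G}
    (hgF : g ∈ stabilizer G F) (hxF : x ∈ stabilizer G F) (hx1 : x ∉ fixingSubgroup G F)
    (hx3 : x ^ 3 ∈ fixingSubgroup G F) (h : g * x * g⁻¹ * x⁻¹ ∈ fixingSubgroup G F) :
    Odd (orderOf g) := by
  haveI := (Set.toFinite F).fintype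
  obtain ⟨k, hk, e⟩ : ∃ k, (k = 3 ∨ k = 4) ∧ Nonempty (F ≃ Fin k) :=
    ⟨F.ncard, hF, ⟨Fintype.equivFinOfCardEq (by rw [← Nat.card_eq_fintype_card, Nat.card_coe_set_eq])⟩⟩
  obtain ⟨e⟩ := e
  set γ := imgFin e (⟨g, hgF⟩ : stabilizer G F) with hγ
  set σ := imgFin e (⟨x, hxF⟩ : stabilizer G F) with hσ
  have hσ1 : σ ≠ 1 := fun h' => hx1 ((imgFin_eq_one e).1 h')
  have hσ3 : σ * σ * σ = 1 := by
    rw [hσ, ← map_mul, ← map_mul, imgFin_eq_one]
    simpa [pow_succ] using hx3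
  have hc : γ * σ * γ⁻¹ = σ := by
    rw [← mul_inv_eq_one, hγ, hσ, ← map_inv, ← map_mul, ← map_mul, ← map_inv, ← map_mul, imgFin_eq_one]
    exact h
  have h3 : γ * γ * γ = 1 := by
    rcases hk with rfl | rfl
    · exact perm3_cent σ hσ1 hσ3 γ hc
    · exact perm4_cent σ hσ1 hσ3 γ hc
  rw [hγ, ← map_mul, ← map_mul, imgFin_eq_one] at h3
  obtain ⟨a, ha⟩ := Set.nonempty_of_ncard_ne_zero (show F.ncard ≠ 0 by omega)
  have h4 : g * g * g ∈ fixingSubgroup G F := h3
  have ho := hodd _ a ((mem_fixingSubgroup_iff G).1 h4 a ha)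
  rw [← Nat.not_even_iff_odd, even_iff_two_dvd]
  intro h2
  refine (Nat.not_even_iff_odd.2 ho) (even_iff_two_dvd.2 ?_)
  have hdvd : orderOf g ∣ 3 * orderOf (g * g * g) := by
    apply orderOf_dvd_of_pow_eq_one
    rw [pow_mul, show g ^ 3 = g * g * g by simp [pow_succ], pow_orderOf_eq_one]
  rcases (Nat.Prime.dvd_mul Nat.prime_two).1 (h2.trans hdvd) with h' | h'
  · norm_num at h'
  · exact h'

/-- A homomorphism of the set stabiliser onto a group of order three. -/
theorem exists_chi {F : Set Ω} [Finite Ω] (hF : F.ncard = 3 ∨ F.ncard = 4) {x : G}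
    (hxF : x ∈ stabilizer G F) (hx1 : x ∉ fixingSubgroup G F) (hx3 : x ^ 3 ∈ fixingSubgroup G F) :
    ∃ χ : stabilizer G F →* Multiplicative (ZMod 3),
      ∀ y : stabilizer G F, (y : G) ∉ fixingSubgroup G F → (y : G) ^ 3 ∈ fixingSubgroup G F →
        χ y ≠ 1 := by
  haveI := (Set.toFinite F).fintype
  rcases hF with hF | hF
  · obtain ⟨e⟩ : Nonempty (F ≃ Fin 3) :=
      ⟨Fintype.equivFinOfCardEq (by rw [← Nat.card_eq_fintype_card, Nat.card_coe_set_eq, hF])⟩
    have hev : ∀ g : stabilizer G F, Ev (imgFin e g) := by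
      intro g
      by_cases h : ∀ a, imgFin e g a ≠ a
      · exact Or.inl (perm3_free _ h)
      · push Not at h
        obtain ⟨c, hc⟩ := h
        exact Or.inl (imgFin_cube hodd e (Or.inl rfl) hc)
    refine ⟨MonoidHom.mk' (fun g => Multiplicative.ofAdd (chi3 (imgFin e g))) (fun a b => ?_), ?_⟩
    · rw [map_mul, chi3_mul _ (hev a) _ (hev b), ofAdd_add]
    · intro y hy1 hy3 h
      refine chi3_ne (imgFin e y) (fun h' => hy1 ((imgFin_eq_one e).1 h')) ?_
        (ofAdd_eq_one.1 h)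
      rw [← map_mul, ← map_mul, imgFin_eq_one]
      simpa [pow_succ] using hy3
  · obtain ⟨e⟩ : Nonempty (F ≃ Fin 4) :=
      ⟨Fintype.equivFinOfCardEq (by rw [← Nat.card_eq_fintype_card, Nat.card_coe_set_eq, hF])⟩
    have hσ1 : imgFin e (⟨x, hxF⟩ : stabilizer G F) ≠ 1 := fun h' => hx1 ((imgFin_eq_one e).1 h')
    have hσ3 : imgFin e (⟨x, hxF⟩ : stabilizer G F) * imgFin e ⟨x, hxF⟩ * imgFin e ⟨x, hxF⟩ = 1 := by
      rw [← map_mul, ← map_mul, imgFin_eq_one]
      simpa [pow_succ] using hx3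
    have hev : ∀ g : stabilizer G F, Ev (imgFin e g) := by
      intro g
      by_cases h : ∀ a, imgFin e g a ≠ a
      · rcases perm4_free _ hσ1 hσ3 _ h with h2 | ⟨⟨c, hc⟩, hne⟩ | ⟨⟨c, hc⟩, hne⟩
        · exact Or.inr ⟨h2, h⟩
        · rw [← map_mul] at hc hne
          exact absurd (imgFin_cube hodd e (Or.inr rfl) hc) hne
        · rw [← map_mul, ← map_mul] at hc hne
          exact absurd (imgFin_cube hodd e (Or.inr rfl) hc) hne
      · push Not at h
        obtain ⟨c, hc⟩ := h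
        exact Or.inl (imgFin_cube hodd e (Or.inr rfl) hc)
    refine ⟨MonoidHom.mk' (fun g => Multiplicative.ofAdd (chi4 (imgFin e g))) (fun a b => ?_), ?_⟩
    · rw [map_mul, chi4_mul _ (hev a) _ (hev b), ofAdd_add]
    · intro y hy1 hy3 h
      refine chi4_ne (imgFin e y) (fun h' => hy1 ((imgFin_eq_one e).1 h')) ?_
        (ofAdd_eq_one.1 h)
      rw [← map_mul, ← map_mul, imgFin_eq_one]
      simpa [pow_succ] using hy3

end Cfsg.Agent.H19.Fixity
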