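import Cfsg.Agent.H19.Fixity.Common
import Cfsg.Agent.H19.Fixity.Perm4
import Cfsg.Agent.H32.Harada.Main
import Cfsg.Agent.PGroups.MaxClass

/-!
# Fixity four: tools for 2-subgroups
-/

set_option autoImplicit false
set_option linter.unusedSectionVars false
set_option linter.style.haveILetI false

namespace Cfsg.Agent.H19.Fixity

open MulAction Subgroup
open scoped Pointwise

variable {G Ω : Type*} [Group G] [MulAction G Ω] [Finite G]

theorem exists_mem_not_mem_of_card_lt {H K : Subgroup G} (h : Nat.card K < Nat.card H) :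
    ∃ x ∈ H, x ∉ K := by
  by_contra hh
  push Not at hh
  exact absurd (card_le_of_inf_eq hh) (by omega)

theorem card_le_mul_inf {H K L : Subgroup G} (hK : K ≤ L) (hH : H ≤ L) :
    Nat.card H * Nat.card K ≤ Nat.card ↥(H ⊓ K) * Nat.card L := by
  have h1 : (H ⊓ K).relIndex H ≤ K.relIndex L := by
    rw [Subgroup.inf_relIndex_left]
    exact Subgroup.relIndex_le_of_le_right hH
      (Subgroup.index_ne_zero_of_finite (H := K.subgroupOf L))
  have e1 := Subgroup.relIndex_mul_relIndex ⊥ (H ⊓ K) H bot_le inf_le_left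
  have e2 := Subgroup.relIndex_mul_relIndex ⊥ K L bot_le hK
  rw [Subgroup.relIndex_bot_left, Subgroup.relIndex_bot_left] at e1 e2
  rw [← e1, ← e2]
  calc Nat.card ↥(H ⊓ K) * (H ⊓ K).relIndex H * Nat.card K
      ≤ Nat.card ↥(H ⊓ K) * K.relIndex L * Nat.card K :=
        Nat.mul_le_mul_right _ (Nat.mul_le_mul_left _ h1)
    _ = _ := by ring

/-- If all commutators of `b` with `X` lie in `U`, then `|X| ≤ |U| |C_X(b)|`. -/
theorem card_le_values {X U : Subgroup G} (b : G) (h : ∀ x ∈ X, b * x * b⁻¹ * x⁻¹ ∈ U) :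
    Nat.card X ≤ Nat.card U * Nat.card ↥(X ⊓ centralizer {b}) := by
  classical
  let f : X → U := fun x => ⟨_, h x x.2⟩
  have key : ∀ u : U, Nat.card {x : X // f x = u} ≤ Nat.card ↥(X ⊓ centralizer {b}) := by
    intro u
    rcases isEmpty_or_nonempty {x : X // f x = u} with he | ⟨⟨x0, hx0⟩⟩
    · rw [Nat.card_of_isEmpty]; exact Nat.zero_le _
    refine Nat.card_le_card_of_injective
      (fun x => ⟨(x0 : G)⁻¹ * (x.1 : G), Subgroup.mem_inf.2 ⟨mul_mem (inv_mem x0.2) x.1.2, ?_⟩⟩) ?_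
    · rw [Subgroup.mem_centralizer_singleton_iff]
      have e : b * (x.1 : G) * b⁻¹ * (x.1 : G)⁻¹ = b * (x0 : G) * b⁻¹ * (x0 : G)⁻¹ :=
        congrArg Subtype.val (x.2.trans hx0.symm)
      have e' : b * (x.1 : G) * b⁻¹ = b * (x0 : G) * b⁻¹ * (x0 : G)⁻¹ * (x.1 : G) := by
        rw [← e, inv_mul_cancel_right]
      calc (x0 : G)⁻¹ * (x.1 : G) * b
          = (b * (x0 : G) * b⁻¹)⁻¹ * (b * (x0 : G) * b⁻¹ * (x0 : G)⁻¹ * (x.1 : G)) * b := by group
        _ = (b * (x0 : G) * b⁻¹)⁻¹ * (b * (x.1 : G) * b⁻¹) * b := by rw [e']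
        _ = b * ((x0 : G)⁻¹ * (x.1 : G)) := by group
    · intro x x' hxx
      have h1 := congrArg Subtype.val hxx
      exact Subtype.ext (Subtype.ext (mul_left_cancel h1))
  haveI := Fintype.ofFinite U
  calc Nat.card X = Nat.card (Σ u : U, {x : X // f x = u}) :=
        Nat.card_congr (Equiv.sigmaFiberEquiv f).symm
    _ = ∑ u : U, Nat.card {x : X // f x = u} := Nat.card_sigma
    _ ≤ ∑ _u : U, Nat.card ↥(X ⊓ centralizer {b}) := Finset.sum_le_sum fun u _ => key u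
    _ = _ := by rw [Finset.sum_const, Finset.card_univ, Nat.card_eq_fintype_card (α := U), smul_eq_mul]

/-- Square bound from a condition on pairs of subgroups. -/
theorem squareBound_of_sub (S : Subgroup G) (hS : IsPGroup 2 S)
    (h : ∀ T U : Subgroup G, T ≤ S → U ≤ T → (∀ x ∈ T, x * x ∈ U) →
      32 * Nat.card U ≤ Nat.card T → False) :
    H64.RankFour.SquareBound ↥S := by
  haveI : Fact (Nat.Prime 2) := ⟨Nat.prime_two⟩
  intro Q N hNQ _ hsq
  by_contra hgt
  obtain ⟨i, hi⟩ := ((IsPGroup.iff_card (p := 2)).1 (hS.to_subgroup Q))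
  have e := Subgroup.relIndex_mul_relIndex ⊥ N Q bot_le hNQ
  rw [Subgroup.relIndex_bot_left, Subgroup.relIndex_bot_left] at e
  obtain ⟨j, -, hj⟩ := (Nat.dvd_prime_pow Nat.prime_two).1
    (show N.relIndex Q ∣ 2 ^ i from Dvd.intro_left _ (e.trans hi))
  have h32 : 32 ≤ N.relIndex Q := by
    rw [hj] at hgt ⊢
    have : 5 ≤ j := by
      by_contra hj5
      exact hgt (Nat.pow_le_pow_right two_pos (show j ≤ 4 by omega))
    exact Nat.pow_le_pow_right two_pos this
  refine h (Q.map S.subtype) (N.map S.subtype) (Subgroup.map_subtype_le _) (Subgroup.map_mono hNQ) ?_ ?_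
  · rintro _ ⟨x, hx, rfl⟩
    exact ⟨x * x, hsq x hx, rfl⟩
  · rw [card_map_of_injective S.subtype_injective, card_map_of_injective S.subtype_injective, ← e,
      mul_comm]
    exact Nat.mul_le_mul_left _ h32

theorem commutator_mem_of_sq {T U : Subgroup G} (h : ∀ x ∈ T, x * x ∈ U) {x x' : G} (hx : x ∈ T)
    (hx' : x' ∈ T) : x * x' * x⁻¹ * x'⁻¹ ∈ U := by
  rw [show x * x' * x⁻¹ * x'⁻¹ =
    (x * x') * (x * x') * ((x'⁻¹ * x⁻¹ * x') * (x'⁻¹ * x⁻¹ * x')) * (x'⁻¹ * x'⁻¹) by group]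
  exact mul_mem (mul_mem (h _ (mul_mem hx hx'))
    (h _ (mul_mem (mul_mem (inv_mem hx') (inv_mem hx)) hx'))) (h _ (inv_mem hx'))

theorem squareBound_of_small (S : Subgroup G) (hS : IsPGroup 2 S) (h32 : Nat.card S ≤ 32)
    (hna : Nat.card S = 32 → ∃ a ∈ S, ∃ b ∈ S, a * b ≠ b * a) :
    H64.RankFour.SquareBound ↥S := by
  refine squareBound_of_sub S hS fun T U hT _ hsq hcard => ?_
  have h1 := card_le_of_inf_eq hT
  have h2 : 0 < Nat.card U := Nat.card_pos
  have hU : U = ⊥ := Subgroup.card_eq_one.1 (by omega)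
  have hS32 : Nat.card S = 32 := by omega
  have hTS : T = S := Subgroup.eq_of_le_of_card_ge hT (by omega)
  obtain ⟨a, ha, b, hb, hab⟩ := hna hS32
  have := commutator_mem_of_sq hsq (hTS ▸ ha : a ∈ T) (hTS ▸ hb : b ∈ T)
  rw [hU, Subgroup.mem_bot, mul_inv_eq_one, mul_inv_eq_iff_eq_mul] at this
  exact hab this

/-- A self-centralising elementary abelian subgroup of order eight gives the square bound. -/
theorem squareBound_of_selfCent {S E : Subgroup G} (hS : IsPGroup 2 S) (hES : E ≤ S)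
    (h2 : ∀ e ∈ E, e * e = 1) (hc : ∀ e ∈ E, ∀ e' ∈ E, e * e' = e' * e) (h8 : Nat.card E = 8)
    (hC : ∀ s ∈ S, (∀ e ∈ E, s * e = e * s) → s ∈ E) : H64.RankFour.SquareBound ↥S := by
  refine H32.Harada.squareBound_of_selfCentralizing hS (A := E.subgroupOf S)
    (fun x hx => Subtype.ext (h2 x hx)) (fun x hx y hy => Subtype.ext (hc x hx y hy))
    (by rw [Nat.card_congr (Subgroup.subgroupOfEquivOfLe hES).toEquiv, h8]) ?_
  ext ⟨s, hs⟩
  rw [Subgroup.mem_centralizer_iff, Subgroup.mem_subgroupOf]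
  constructor
  · intro h
    exact hC s hs fun e he => (congrArg Subtype.val (h ⟨e, hES he⟩ he)).symm
  · rintro hsE ⟨e, he⟩ heE
    exact Subtype.ext (hc e heE s hsE)

/-- Extending an elementary abelian subgroup by a commuting involution. -/
theorem exists_extend {V : Subgroup G} (h2 : ∀ v ∈ V, v * v = 1) {r : G} (hr : r * r = 1)
    (hrV : r ∉ V) (hc : ∀ v ∈ V, r * v = v * r) :
    ∃ E : Subgroup G, (∀ x, x ∈ E ↔ x ∈ V ∨ r * x ∈ V) ∧ Nat.card E = 2 * Nat.card V ∧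
      (∀ e ∈ E, e * e = 1) ∧ ∀ e ∈ E, ∀ e' ∈ E, e * e' = e' * e := by
  have hcV : ∀ u ∈ V, ∀ v ∈ V, u * v = v * u := by
    intro u hu v hv
    have h1 : (u * v)⁻¹ = u * v := inv_eq_of_mul_eq_one_right (h2 _ (mul_mem hu hv))
    rw [← h1, mul_inv_rev, inv_eq_of_mul_eq_one_right (h2 u hu), inv_eq_of_mul_eq_one_right (h2 v hv)]
  have hdec : ∀ x : G, (x ∈ V ∨ r * x ∈ V) → ∃ v ∈ V, x = v ∨ x = r * v := by
    rintro x (h | h)
    · exact ⟨x, h, Or.inl rfl⟩
    · exact ⟨r * x, h, Or.inr (by rw [← mul_assoc, hr, one_mul])⟩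
  have hback : ∀ v ∈ V, r * v ∈ V ∨ r * (r * v) ∈ V :=
    fun v hv => Or.inr (by rwa [← mul_assoc, hr, one_mul])
  have hsq : ∀ x : G, (x ∈ V ∨ r * x ∈ V) → x * x = 1 := by
    intro x hx
    obtain ⟨v, hv, rfl | rfl⟩ := hdec x hx
    · exact h2 _ hv
    · rw [mul_assoc, ← mul_assoc v, ← hc v hv, mul_assoc r v v, h2 v hv, mul_one, hr]
  have hmul : ∀ x y : G, (x ∈ V ∨ r * x ∈ V) → (y ∈ V ∨ r * y ∈ V) → (x * y ∈ V ∨ r * (x * y) ∈ V) := by
    intro x y hx hy
    obtain ⟨v, hv, rfl | rfl⟩ := hdec x hx <;> obtain ⟨w, hw, rfl | rfl⟩ := hdec y hy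
    · exact Or.inl (mul_mem hv hw)
    · rw [← mul_assoc, ← hc _ hv, mul_assoc]; exact hback _ (mul_mem hv hw)
    · rw [mul_assoc]; exact hback _ (mul_mem hv hw)
    · left
      rw [mul_assoc, ← mul_assoc v, ← hc v hv, mul_assoc r, ← mul_assoc, hr, one_mul]
      exact mul_mem hv hw
  let E : Subgroup G :=
    { carrier := {x | x ∈ V ∨ r * x ∈ V}
      one_mem' := Or.inl V.one_mem
      mul_mem' := fun {x y} hx hy => hmul x y hx hy
      inv_mem' := fun {x} hx => by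
        show x⁻¹ ∈ V ∨ r * x⁻¹ ∈ V
        rwa [inv_eq_of_mul_eq_one_right (hsq x hx)] }
  refine ⟨E, fun x => Iff.rfl, ?_, fun e he => hsq e he, fun e he e' he' => ?_⟩
  · have hVE : V ≤ E := fun v hv => Or.inl hv
    have hidx : (V.subgroupOf E).index = 2 := by
      rw [Subgroup.index_eq_two_iff]
      refine ⟨⟨r, Or.inr (hr ▸ V.one_mem)⟩, fun ⟨b, hb⟩ => ?_⟩
      simp only [Subgroup.mem_subgroupOf, Subgroup.coe_mul]
      obtain ⟨v, hv, rfl | rfl⟩ := hdec b hb
      · refine Or.inr ⟨hv, fun h => hrV ?_⟩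
        have := mul_mem (inv_mem hv) h
        rwa [inv_mul_cancel_left] at this
      · refine Or.inl ⟨?_, fun h => hrV ?_⟩
        · rw [mul_assoc, ← hc v hv, ← mul_assoc, hr, one_mul]; exact hv
        · have := mul_mem h (inv_mem hv)
          rwa [mul_inv_cancel_right] at this
    have h1 := (V.subgroupOf E).card_mul_index
    rw [hidx, Nat.card_congr (Subgroup.subgroupOfEquivOfLe hVE).toEquiv] at h1
    rw [← h1, mul_comm]
  · have h1 : (e * e')⁻¹ = e * e' := inv_eq_of_mul_eq_one_right (hsq _ (hmul _ _ he he'))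
    rw [← h1, mul_inv_rev, inv_eq_of_mul_eq_one_right (hsq _ he), inv_eq_of_mul_eq_one_right (hsq _ he')]

/-- A four-group generated by two commuting involutions. -/
theorem exists_klein {t u : G} (ht : t * t = 1) (hu : u * u = 1) (htu : t * u = u * t) (ht1 : t ≠ 1)
    (hu1 : u ≠ 1) (hne : t ≠ u) :
    ∃ V : Subgroup G, Nat.card V = 4 ∧ (∀ x, x ∈ V ↔ x = 1 ∨ x = t ∨ x = u ∨ x = t * u) ∧
      ∀ v ∈ V, v * v = 1 := by
  obtain ⟨A, hA, hA2, hAsq, -⟩ := exists_extend (V := (⊥ : Subgroup G))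
    (fun v hv => by rw [Subgroup.mem_bot.1 hv, one_mul]) ht (by simpa using ht1)
    (fun v hv => by rw [Subgroup.mem_bot.1 hv, mul_one, one_mul])
  have hmem : ∀ x, x ∈ A ↔ x = 1 ∨ x = t := by
    intro x
    rw [hA, Subgroup.mem_bot, Subgroup.mem_bot, mul_eq_one_iff_eq_inv',
      inv_eq_of_mul_eq_one_right ht]
  obtain ⟨V, hV, hV2, hVsq, -⟩ := exists_extend hAsq hu
    (by rw [hmem]; exact fun h => h.elim hu1 (fun h' => hne h'.symm))
    (fun v hv => by
      rcases (hmem v).1 hv with rfl | rfl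
      · simp
      · exact htu.symm)
  refine ⟨V, ?_, fun x => ?_, hVsq⟩
  · rw [hV2, hA2, Subgroup.card_bot]
  · rw [hV, hmem, hmem]
    have hui : u⁻¹ = u := inv_eq_of_mul_eq_one_right hu
    constructor
    · rintro ((h | h) | (h | h))
      · exact Or.inl h
      · exact Or.inr (Or.inl h)
      · exact Or.inr (Or.inr (Or.inl (by rw [eq_inv_of_mul_eq_one_right h, hui])))
      · refine Or.inr (Or.inr (Or.inr ?_))
        rw [htu, ← h, ← mul_assoc, hu, one_mul]
    · rintro (h | h | h | h)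
      · exact Or.inl (Or.inl h)
      · exact Or.inl (Or.inr h)
      · exact Or.inr (Or.inl (by rw [h, hu]))
      · exact Or.inr (Or.inr (by rw [h, htu, ← mul_assoc, hu, one_mul]))

section Bound

variable [Finite Ω] (hb : ∀ g : G, g ≠ 1 → (fixedBy Ω g).ncard ≤ 4)
include hb

theorem fix_eq_of_mem_pw {F : Set Ω} (hF : F.ncard = 4) {g : G} (hg : g ≠ 1)
    (hgF : g ∈ fixingSubgroup G F) : fixedBy Ω g = F :=
  (Set.eq_of_subset_of_ncard_le (mem_pw_iff.1 hgF) (by rw [hF]; exact hb g hg) (Set.toFinite _)).symm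

theorem eq_one_of_pw_pw {F F' : Set Ω} (hF : F.ncard = 4) (hF' : F'.ncard = 4) (hne : F ≠ F') {g : G}
    (h : g ∈ fixingSubgroup G F) (h' : g ∈ fixingSubgroup G F') : g = 1 :=
  by_contra fun hg => hne ((fix_eq_of_mem_pw hb hF hg h).symm.trans (fix_eq_of_mem_pw hb hF' hg h'))

theorem smul_inj_of_pw {F : Set Ω} (hF : F.ncard = 4) {b : Ω} (hb' : b ∉ F) {u u' : G}
    (hu : u ∈ fixingSubgroup G F) (hu' : u' ∈ fixingSubgroup G F) (h : u • b = u' • b) : u = u' := by
  have h1 : u⁻¹ * u' = 1 := by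
    by_contra h1
    apply hb'
    rw [← fix_eq_of_mem_pw hb hF h1 (mul_mem (inv_mem hu) hu')]
    show (u⁻¹ * u') • b = b
    rw [mul_smul, ← h, inv_smul_smul]
  exact inv_mul_eq_one.1 h1

/-- The kernel on `F` acts semiregularly on the rest of another set. -/
theorem card_kernel_le {F F' : Set Ω} (hF : F.ncard = 4) (hF' : F'.ncard = 4) (hne : F ≠ F')
    {U : Subgroup G} (hU : U ≤ fixingSubgroup G F) (hU' : U ≤ stabilizer G F') : Nat.card U ≤ 4 := by
  obtain ⟨b, hbF', hbF⟩ : ∃ b ∈ F', b ∉ F := by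
    by_contra h
    push Not at h
    exact hne (Set.eq_of_subset_of_ncard_le h (by omega) (Set.toFinite _)).symm
  rw [← hF', ← Nat.card_coe_set_eq]
  refine Nat.card_le_card_of_injective
    (fun u : U => ⟨(u : G) • b, (mem_stabilizer_iff.1 (hU' u.2)) ▸ Set.smul_mem_smul_set hbF'⟩)
    (fun u u' h => Subtype.ext (smul_inj_of_pw hb hF hbF (hU u.2) (hU u'.2) (congrArg Subtype.val h)))

theorem regular_of_card {F F' : Set Ω} (hF : F.ncard = 4) (hF' : F'.ncard = 4) (hne : F ≠ F')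
    {U : Subgroup G} (hU : U ≤ fixingSubgroup G F) (hU' : U ≤ stabilizer G F') (h4 : Nat.card U = 4) :
    (∀ a ∈ F', a ∉ F) ∧ ∀ a ∈ F', ∀ c ∈ F', ∃ u ∈ U, u • a = c := by
  obtain ⟨b, hbF', hbF⟩ : ∃ b ∈ F', b ∉ F := by
    by_contra h
    push Not at h
    exact hne (Set.eq_of_subset_of_ncard_le h (by omega) (Set.toFinite _)).symm
  haveI := (Set.toFinite F').to_subtype
  let f : U → F' := fun u => ⟨(u : G) • b, (mem_stabilizer_iff.1 (hU' u.2)) ▸ Set.smul_mem_smul_set hbF'⟩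
  have hbij : Function.Bijective f := (Nat.bijective_iff_injective_and_card f).2
    ⟨fun u u' h => Subtype.ext (smul_inj_of_pw hb hF hbF (hU u.2) (hU u'.2) (congrArg Subtype.val h)),
      by rw [Nat.card_coe_set_eq, hF', h4]⟩
  have horb : ∀ a ∈ F', ∃ u ∈ U, u • b = a := fun a ha => by
    obtain ⟨u, hu⟩ := hbij.2 ⟨a, ha⟩
    exact ⟨u, u.2, congrArg Subtype.val hu⟩
  refine ⟨fun a ha haF => ?_, fun a ha c hc => ?_⟩
  · obtain ⟨u, hu, rfl⟩ := horb a ha
    have h1 : u • (u • b) = u • b := (mem_fixingSubgroup_iff G).1 (hU hu) _ haF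
    have h2 : u • b = b := MulAction.injective u h1
    exact hbF (h2 ▸ haF)
  · obtain ⟨u, hu, rfl⟩ := horb a ha
    obtain ⟨v, hv, rfl⟩ := horb c hc
    exact ⟨v * u⁻¹, mul_mem hv (inv_mem hu), by rw [mul_smul, inv_smul_smul]⟩

end Bound

/-- An image of order eight on four points gives two elements that are noncommuting involutions on
them. -/
theorem exists_noncomm_img {F : Set Ω} [Finite Ω] (hF : F.ncard = 4) {U : Subgroup G}
    (hUF : U ≤ stabilizer G F) (h8 : Nat.card U = Nat.card ↥(U ⊓ fixingSubgroup G F) * 8) :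
    ∃ a ∈ U, ∃ b ∈ U, a * a ∈ fixingSubgroup G F ∧ b * b ∈ fixingSubgroup G F ∧
      a * b * a⁻¹ * b⁻¹ ∉ fixingSubgroup G F := by
  let φ : U →* Equiv.Perm F := (img F).comp (Subgroup.inclusion hUF)
  have hker : φ.ker = (fixingSubgroup G F).subgroupOf U := by
    ext u
    exact img_eq_one_iff
  have hcard : Nat.card φ.range = 8 := by
    have h1 := φ.ker.card_mul_index
    rw [Subgroup.index_ker, hker] at h1
    have h2 : Nat.card ((fixingSubgroup G F).subgroupOf U) = Nat.card ↥(U ⊓ fixingSubgroup G F) := by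
      rw [← Subgroup.inf_subgroupOf_left, Nat.card_congr (Subgroup.subgroupOfEquivOfLe inf_le_left).toEquiv]
    rw [h2, h8] at h1
    exact Nat.eq_of_mul_eq_mul_left Nat.card_pos h1
  obtain ⟨_, ⟨a, rfl⟩, _, ⟨b, rfl⟩, ha, hb, hab⟩ :=
    exists_noncomm_involutions (by rw [Nat.card_coe_set_eq, hF]) φ.range hcard
  have hk : ∀ u : U, φ u = 1 ↔ (u : G) ∈ fixingSubgroup G F := fun u => img_eq_one_iff
  refine ⟨a, a.2, b, b.2, (hk (a * a)).1 (by rw [map_mul, ha]), (hk (b * b)).1 (by rw [map_mul, hb]),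
    fun h => hab ?_⟩
  have := (hk (a * b * a⁻¹ * b⁻¹)).2 h
  rwa [map_mul, map_mul, map_mul, map_inv, map_inv, mul_inv_eq_one, mul_inv_eq_iff_eq_mul] at this

end Cfsg.Agent.H19.Fixity
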