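import Cfsg.Agent.H19.Fixity.OddCoset
import Cfsg.Agent.H19.Fixity.TwoTools
import Cfsg.Agent.H59.Yoshida

/-!
# A non-real element of order three with centraliser Sylow subgroup of order nine is not in a simple group
-/

set_option autoImplicit false
set_option linter.unusedSectionVars false
set_option linter.style.haveILetI false
set_option linter.unusedVariables false

namespace Cfsg.Agent.H19.Fixity

open Subgroup

/-- Four nontrivial elements of an elementary abelian group of order nine, no two of them inverse, have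
product different from one. -/
theorem zmod_four : ∀ c : Fin 3 × Fin 3, c ∉ ({(0, 0), (1, 0), (2, 0), (0, 1), (0, 2)} : Finset (Fin 3 × Fin 3)) →
    ∀ d : Fin 3 × Fin 3, d ∉ ({(0, 0), (1, 0), (2, 0), (0, 1), (0, 2)} : Finset (Fin 3 × Fin 3)) → c ≠ d → c ≠ -d →
    (1, 1) + c + d ≠ 0 := by decide +kernel

theorem prod_ne_one {V : Type*} [CommGroup V] [Finite V] (hV : Nat.card V = 9) (O : Finset V)
    (hcard : O.card = 1 ∨ O.card = 2 ∨ O.card = 4) (h3 : ∀ a ∈ O, a ^ 3 = 1) (h1 : (1 : V) ∉ O)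
    (hinv : ∀ a ∈ O, a⁻¹ ∉ O) : ∏ a ∈ O, a ≠ 1 := by
  classical
  intro hprod
  rcases hcard with h | h | h
  · obtain ⟨a, rfl⟩ := Finset.card_eq_one.1 h
    rw [Finset.prod_singleton] at hprod
    exact h1 (hprod ▸ Finset.mem_singleton_self _)
  · obtain ⟨a, b, hab, rfl⟩ := Finset.card_eq_two.1 h
    rw [Finset.prod_pair hab] at hprod
    exact hinv a (by simp) (by rw [inv_eq_of_mul_eq_one_right hprod]; simp)
  · obtain ⟨a, ha⟩ := Finset.card_pos.1 (show 0 < O.card by omega)
    obtain ⟨b, c, d, hbc, hbd, hcd, hO⟩ :=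
      Finset.card_eq_three.1 (show (O.erase a).card = 3 by rw [Finset.card_erase_of_mem ha, h])
    have hin : ∀ v ∈ ({b, c, d} : Finset V), v ≠ a ∧ v ∈ O := fun v hv =>
      Finset.mem_erase.1 (hO ▸ hv)
    obtain ⟨hba, hb⟩ := hin b (by simp)
    obtain ⟨hca, hc⟩ := hin c (by simp)
    obtain ⟨hda, hd⟩ := hin d (by simp)
    rw [← Finset.insert_erase ha, Finset.prod_insert (Finset.notMem_erase a O), hO,
      Finset.prod_insert (by simp [hbc, hbd]), Finset.prod_pair hcd] at hprod
    have hbz : a ∉ zpowers b := by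
      refine fun hz => ?_
      obtain ⟨i, hi⟩ := mem_zpowers_iff.1 hz
      have hb3 : b ^ (3 : ℤ) = 1 := by exact_mod_cast h3 b hb
      rw [← Int.emod_add_mul_ediv i 3, zpow_add, zpow_mul, hb3, one_zpow, mul_one] at hi
      rcases (show i % 3 = 0 ∨ i % 3 = 1 ∨ i % 3 = 2 by omega) with h0 | h0 | h0 <;> rw [h0] at hi
      · exact h1 (by rw [zpow_zero] at hi; exact hi ▸ ha)
      · exact hba (by rw [zpow_one] at hi; exact hi)
      · apply hinv b hb
        have : b⁻¹ = a := by
          rw [← hi, eq_comm, eq_inv_iff_mul_eq_one, ← zpow_add_one, show (2 : ℤ) + 1 = 3 by norm_num, hb3]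
        rw [this]; exact ha
    have hb1 : b ≠ 1 := fun e => h1 (e ▸ hb)
    let f : Fin 3 × Fin 3 → V := fun p => a ^ (p.1 : ℕ) * b ^ (p.2 : ℕ)
    have hsurj : ∀ v : V, ∃ p, f p = v := fun v => by
      obtain ⟨i, j, e⟩ := exists_pow_decomp (E := (⊤ : Subgroup V)) (by rw [Subgroup.card_top, hV])
        (mem_top a) (mem_top b) (h3 a ha) (h3 b hb) hb1 hbz v (mem_top v)
      exact ⟨(i, j), e.symm⟩
    have hbij : Function.Bijective f :=
      (Nat.bijective_iff_surjective_and_card f).2 ⟨hsurj, by rw [hV, Nat.card_prod, Nat.card_fin]⟩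
    have hadd : ∀ p q, f (p + q) = f p * f q := by
      intro p q
      have key : ∀ (v : V), v ^ 3 = 1 → ∀ i j : Fin 3, v ^ ((i + j : Fin 3) : ℕ) = v ^ (i : ℕ) * v ^ (j : ℕ) := by
        intro v hv i j
        rw [← pow_add, Fin.val_add]
        conv_rhs => rw [← Nat.div_add_mod ((i : ℕ) + j) 3, pow_add, pow_mul, hv, one_pow, one_mul]
      show a ^ ((p.1 + q.1 : Fin 3) : ℕ) * b ^ ((p.2 + q.2 : Fin 3) : ℕ) = _
      rw [key a (h3 a ha), key b (h3 b hb)]
      exact mul_mul_mul_comm _ _ _ _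
    have hf0 : f 0 = 1 := by simp [f]
    have hfneg : ∀ p, f (-p) = (f p)⁻¹ := fun p => eq_inv_of_mul_eq_one_left (by rw [← hadd, neg_add_cancel, hf0])
    obtain ⟨pc, hpc⟩ := hsurj c
    obtain ⟨pd, hpd⟩ := hsurj d
    have ha0 : f (1, 0) = a := by simp [f]
    have hb0 : f (0, 1) = b := by simp [f]
    have ha2 : f (2, 0) = a⁻¹ := by rw [← ha0, ← hfneg]; rfl
    have hb2 : f (0, 2) = b⁻¹ := by rw [← hb0, ← hfneg]; rfl
    have hnot : ∀ v ∈ O, v ≠ a → v ≠ b → ∀ p, f p = v →
        p ∉ ({(0, 0), (1, 0), (2, 0), (0, 1), (0, 2)} : Finset (Fin 3 × Fin 3)) := by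
      intro v hv hva hvb p hp hmem
      simp only [Finset.mem_insert, Finset.mem_singleton] at hmem
      rcases hmem with rfl | rfl | rfl | rfl | rfl
      · exact h1 (by rw [← hf0]; exact (show f 0 = v from hp) ▸ hv)
      · exact hva (hp.symm.trans ha0)
      · exact hinv a ha (by rw [← ha2, hp]; exact hv)
      · exact hvb (hp.symm.trans hb0)
      · exact hinv b hb (by rw [← hb2, hp]; exact hv)
    refine zmod_four pc (hnot c hc hca hbc.symm pc hpc) pd (hnot d hd hda hbd.symm pd hpd)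
      (fun e => hcd (by rw [← hpc, ← hpd, e]))
      (fun e => hinv d hd (by rw [← hpd, ← hfneg, ← e, hpc]; exact hc)) (hbij.1 ?_)
    rw [hf0, hadd, hadd, hpc, hpd, show ((1, 1) : Fin 3 × Fin 3) = (1, 0) + (0, 1) from rfl, hadd, ha0, hb0]
    rw [← hprod]
    simp only [mul_assoc]

variable {G : Type*} [Group G] [Finite G]

/-- Fusion of conjugates of `y` is controlled by the normaliser of the Sylow subgroup. -/
theorem control (P : Sylow 3 G) {y : G} {E : Subgroup G} (hE9 : Nat.card E = 9)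
    (hEP : E ≤ P) (hyE : y ∈ E) (hEC : E ≤ centralizer {y}) (hnc : ¬ IsCyclic E)
    (hmax : ∀ D : Subgroup G, D ≤ centralizer {y} → IsPGroup 3 D → Nat.card D ≤ 9)
    (hreal : ∀ g : G, g * y * g⁻¹ ≠ y⁻¹) :
    ∀ (m : ℕ) (W : Subgroup G), Nat.card (P : Subgroup G) - Nat.card W ≤ m → E ≤ W →
      W ≤ (P : Subgroup G) → ∀ g : G, (∀ w ∈ W, g * w * g⁻¹ ∈ (P : Subgroup G)) →
      ∃ n ∈ normalizer ((P : Subgroup G) : Set G), n * y * n⁻¹ = g * y * g⁻¹ := by
  classical
  haveI : Fact (Nat.Prime 3) := ⟨Nat.prime_three⟩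
  intro m
  induction m using Nat.strong_induction_on with
  | _ m ih =>
    intro W hm hEW hWP g hg
    rcases eq_or_lt_of_le hWP with hWeq | hlt
    · refine ⟨g, Subgroup.mem_normalizer_iff.2 fun x => ⟨fun hx => hg x (hWeq ▸ hx), fun hx => ?_⟩, rfl⟩
      have hsurj : (P : Subgroup G).map (MulAut.conj g).toMonoidHom = (P : Subgroup G) := by
        refine Subgroup.eq_of_le_of_card_ge ?_ (by rw [Subgroup.card_map_of_injective (MulAut.conj g).injective])
        rintro _ ⟨v, hv, rfl⟩; exact hg v (hWeq ▸ hv)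
      rw [← hsurj] at hx
      obtain ⟨v, hv, e⟩ := hx
      rwa [← (mul_left_cancel (mul_right_cancel (e : g * v * g⁻¹ = g * x * g⁻¹)))]
    have hWp : IsPGroup 3 W := P.isPGroup'.to_le hWP
    have hyW : y ∈ W := hEW hyE
    have h9 : Nat.card ↥(W ⊓ centralizer {y}) = 9 := by
      refine le_antisymm (hmax _ inf_le_right (hWp.to_le inf_le_left)) ?_
      rw [← hE9]; exact card_le_of_inf_eq (le_inf hEW hEC)
    have hncW : ¬ IsCyclic W := fun h => hnc (by
      haveI := h; exact Subgroup.isCyclic_of_le hEW)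
    set H := normalizer (W : Set G) with hHdef
    have hH : ∀ h ∈ H, ∀ w ∈ W, h * w * h⁻¹ ∈ W := fun h hh w hw =>
      (Subgroup.mem_normalizer_iff.1 hh w).1 hw
    obtain ⟨K, O, hWK, hKH, hKdec, hOK, hOne, hO4, -⟩ :=
      orbit_facts hWp hncW hyW h9 (Subgroup.le_normalizer) hH hreal
    -- a 3-subgroup of `K` containing `W` is `W`
    have hYK : ∀ Y : Subgroup G, W ≤ Y → IsPGroup 3 Y → Y ≤ K → Y = W := by
      intro Y hWY hY hYK
      refine le_antisymm (fun k hk => ?_) hWY
      obtain ⟨w, hw, hc⟩ := hKdec k (hYK hk)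
      have hcY : w⁻¹ * k ∈ Y ⊓ centralizer {y} := Subgroup.mem_inf.2
        ⟨mul_mem (inv_mem (hWY hw)) hk, Subgroup.mem_centralizer_singleton_iff.2 hc⟩
      have heq : Y ⊓ centralizer {y} = E :=
        (Subgroup.eq_of_le_of_card_ge (le_inf (hEW.trans hWY) hEC)
          (hE9 ▸ hmax _ inf_le_right (hY.to_le inf_le_left))).symm
      rw [heq] at hcY
      simpa using mul_mem hw (hEW hcY)
    have hH3 : ∀ Y : Subgroup G, W ≤ Y → IsPGroup 3 Y → Y ≤ H → Nat.card Y ≤ 3 * Nat.card W := by
      intro Y hWY hY hYH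
      have h1 := card_le_mul_inf (H := Y) hKH hYH
      rw [hYK (Y ⊓ K) (le_inf hWY hWK) (hY.to_le inf_le_left) inf_le_right, ← hOK] at h1
      have h2 : Nat.card Y ≤ Nat.card W * O.card :=
        Nat.le_of_mul_le_mul_right (by rw [mul_assoc]; exact h1) (Nat.card_pos (α := K))
      have h3 : Nat.card Y ≤ 4 * Nat.card W := h2.trans (by rw [mul_comm]; exact Nat.mul_le_mul_right _ hO4)
      obtain ⟨j, hj⟩ := (IsPGroup.iff_card (p := 3)).1 hY
      obtain ⟨i, hi⟩ := (IsPGroup.iff_card (p := 3)).1 hWp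
      rw [hj, hi] at h3 ⊢
      rw [← pow_succ']
      refine Nat.pow_le_pow_right (by norm_num) ?_
      by_contra hlt'
      have : 3 ^ (i + 2) ≤ 3 ^ j := Nat.pow_le_pow_right (by norm_num) (by omega)
      have h9' : 3 ^ (i + 2) = 9 * 3 ^ i := by rw [pow_add]; ring
      have : 0 < 3 ^ i := by positivity
      omega
    have hHmax : ∀ D : Subgroup G, D ≤ H → IsPGroup 3 D → Nat.card D ≤ 3 * Nat.card W :=
      max_of_le Subgroup.le_normalizer hWp fun D hD hWD hDH => hH3 D hWD hD hDH
    set Y1 := (P : Subgroup G) ⊓ H with hY1def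
    have hWY1 : W < Y1 := H90.lt_normalizerIn P.isPGroup' hlt
    have hY1p : IsPGroup 3 Y1 := P.isPGroup'.to_le inf_le_left
    have hY1card : Nat.card Y1 = 3 * Nat.card W :=
      le_antisymm (hHmax _ inf_le_right hY1p) (three_mul_card_le hY1p hWY1)
    set W2 := W.map (MulAut.conj g).toMonoidHom with hW2def
    have hW2c : Nat.card W2 = Nat.card W := Subgroup.card_map_of_injective (MulAut.conj g).injective
    have hW2P : W2 ≤ P := by rintro _ ⟨w, hw, rfl⟩; exact hg w hw
    have hW2lt : W2 < P := lt_of_le_of_ne hW2P fun h => by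
      have h1 := Subgroup.eq_of_le_of_card_ge hWP (by rw [← hW2c, h])
      exact hlt.ne h1
    set Y2' := (P : Subgroup G) ⊓ normalizer (W2 : Set G) with hY2'def
    have hY2'lt : W2 < Y2' := H90.lt_normalizerIn P.isPGroup' hW2lt
    set Y2 := Y2'.map (MulAut.conj g⁻¹).toMonoidHom with hY2def
    have hY2p : IsPGroup 3 Y2 := (P.isPGroup'.to_le (inf_le_left : Y2' ≤ _)).map _
    have hY2H : Y2 ≤ H := by
      rintro _ ⟨a, ha, rfl⟩
      refine Subgroup.mem_normalizer_iff.2 fun x => ?_
      have ha' := Subgroup.mem_normalizer_iff.1 (Subgroup.mem_inf.1 ha).2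
      have e : ∀ v : G, v ∈ W ↔ g * v * g⁻¹ ∈ W2 := fun v => by
        constructor
        · intro hv; exact ⟨v, hv, rfl⟩
        · rintro ⟨u, hu, e⟩
          rwa [← (mul_left_cancel (mul_right_cancel (e : g * u * g⁻¹ = g * v * g⁻¹)))]
      simp only [MulEquiv.coe_toMonoidHom, MulAut.conj_apply, inv_inv]
      rw [e, e, ha' (g * x * g⁻¹)]
      exact Iff.of_eq (congrArg (· ∈ W2) (by group))
    have hY2card : Nat.card Y2 = Nat.card Y1 := by
      refine le_antisymm (hY1card ▸ hHmax _ hY2H hY2p) ?_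
      rw [hY2def, Subgroup.card_map_of_injective (MulAut.conj g⁻¹).injective, hY1card, ← hW2c]
      exact three_mul_card_le (P.isPGroup'.to_le inf_le_left) hY2'lt
    obtain ⟨h, hh, hconj⟩ := conj_of_max (p := 3) (H := H) (U := Y1) (U' := Y2) inf_le_right hY2H hY1p hY2p
      (fun D hD hDp => hY1card ▸ hHmax D hD hDp) hY2card
    -- `H = K Y1`
    have hprod : ∃ k ∈ K, ∃ u ∈ Y1, h = k * u := by
      by_contra hcon
      push Not at hcon
      haveI := Fintype.ofFinite H
      haveI := Fintype.ofFinite (K × Y1)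
      let f : K × Y1 → H := fun p => ⟨(p.1 : G) * p.2, mul_mem (hKH p.1.2) (Subgroup.mem_inf.1 p.2.2).2⟩
      have hWeq : K ⊓ Y1 = W := hYK _ (le_inf hWK hWY1.le) (hY1p.to_le inf_le_right) inf_le_left
      haveI := Fintype.ofFinite W
      have hfib : ∀ x ∈ Finset.univ.image f, (Finset.univ.filter (fun p => f p = x)).card ≤ Nat.card W := by
        intro x hx
        obtain ⟨p₀, -, rfl⟩ := Finset.mem_image.1 hx
        have hd : ∀ p, f p = f p₀ → (p₀.1 : G)⁻¹ * (p.1 : G) ∈ W := by
          intro p hp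
          rw [← hWeq]
          refine Subgroup.mem_inf.2 ⟨mul_mem (inv_mem p₀.1.2) p.1.2, ?_⟩
          have e : (p.1 : G) * p.2 = p₀.1 * p₀.2 := congrArg Subtype.val hp
          rw [show (p₀.1 : G)⁻¹ * (p.1 : G) = p₀.2 * (p.2 : G)⁻¹ by
            rw [eq_mul_inv_iff_mul_eq, mul_assoc, e, inv_mul_cancel_left]]
          exact mul_mem p₀.2.2 (inv_mem p.2.2)
        rw [Nat.card_eq_fintype_card, ← Finset.card_univ]
        refine Finset.card_le_card_of_injOn
          (fun p => if hp : f p = f p₀ then (⟨_, hd p hp⟩ : W) else 1) (by simp) ?_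
        intro p hp q hq he
        simp only [Finset.coe_filter, Finset.mem_univ, true_and, Set.mem_ofPred_eq] at hp hq
        simp only [hp, hq, dif_pos, Subtype.mk.injEq, mul_left_cancel_iff] at he
        have e : (p.1 : G) * p.2 = q.1 * q.2 := congrArg Subtype.val (hp.trans hq.symm)
        rw [he, mul_left_cancel_iff] at e
        exact Prod.ext (Subtype.ext he) (Subtype.ext e)
      have hcount := Finset.card_le_mul_card_image Finset.univ _ hfib
      rw [Finset.card_univ, ← Nat.card_eq_fintype_card, Nat.card_prod, hY1card] at hcount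
      have himg : (Finset.univ.image f).card < Nat.card H := by
        rw [Nat.card_eq_fintype_card, ← Finset.card_univ]
        refine Finset.card_lt_card ((Finset.subset_univ _).ssubset_of_ne fun he => ?_)
        obtain ⟨⟨k, u⟩, -, e⟩ := Finset.mem_image.1 (he ▸ Finset.mem_univ (⟨h, hh⟩ : H))
        exact hcon k k.2 u u.2 (congrArg Subtype.val e).symm
      -- the index of `K` is at most three
      have hO3 : Nat.card H ≤ 3 * Nat.card K := by
        rw [← hOK]
        refine Nat.mul_le_mul_right _ ?_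
        by_contra hgt
        have hO : O.card = 4 := by omega
        have hd : 3 ∣ O.card := by
          have h1 := Subgroup.relIndex_mul_relIndex ⊥ W K bot_le hWK
          have h2 := Subgroup.relIndex_mul_relIndex ⊥ Y1 H bot_le inf_le_right
          rw [Subgroup.relIndex_bot_left, Subgroup.relIndex_bot_left] at h1 h2
          rw [← hOK, ← h1, hY1card] at h2
          have h4 : 3 * Y1.relIndex H = O.card * W.relIndex K := by
            apply Nat.eq_of_mul_eq_mul_left (Nat.card_pos (α := W))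
            rw [← mul_assoc, mul_comm (Nat.card W) 3, h2]; ring
          have hnd : ¬ 3 ∣ W.relIndex K := not_dvd_relIndex_of_max hWK hWp fun D hD hDp =>
            (max_of_le hWK hWp (n := Nat.card W)
              (fun D hD hWD hDK => le_of_eq (congrArg (fun S : Subgroup G => Nat.card S) (hYK D hWD hD hDK))))
              D hD hDp
          exact ((Nat.Prime.dvd_mul Nat.prime_three).1 ⟨_, h4.symm⟩).resolve_right hnd
        rw [hO] at hd
        norm_num at hd
      have hWpos : 0 < Nat.card W := Nat.card_pos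
      have h5 : Nat.card W * (Finset.univ.image f).card < Nat.card W * (3 * Nat.card K) :=
        Nat.mul_lt_mul_of_pos_left (lt_of_lt_of_le himg hO3) hWpos
      have h6 : Nat.card K * (3 * Nat.card W) = Nat.card W * (3 * Nat.card K) := by ring
      omega
    obtain ⟨k, hk, u, hu, hku⟩ := hprod
    obtain ⟨w, hw, hc⟩ := hKdec k hk
    set c := w⁻¹ * k with hcdef
    have hmap : ∀ x ∈ Y1, c * x * c⁻¹ ∈ Y2 := by
      intro x hx
      have h1 := (hconj (u⁻¹ * x * u)).1 (mul_mem (mul_mem (inv_mem hu) hx) hu)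
      have h2 : k * x * k⁻¹ ∈ Y2 := by
        rw [hku] at h1
        convert h1 using 1
        group
      have hwY2 : w ∈ Y2 := by
        refine ⟨g * w * g⁻¹, hY2'lt.le ⟨w, hw, rfl⟩, ?_⟩
        simp [mul_assoc]
      have h3 := mul_mem (mul_mem (inv_mem hwY2) h2) hwY2
      convert h3 using 1
      rw [hcdef]; group
    have hg' : ∀ x ∈ Y1, g * c * x * (g * c)⁻¹ ∈ (P : Subgroup G) := by
      intro x hx
      obtain ⟨a, ha, e⟩ := hmap x hx
      have e' : g⁻¹ * a * g⁻¹⁻¹ = c * x * c⁻¹ := e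
      have : g * c * x * (g * c)⁻¹ = a := by
        rw [show g * c * x * (g * c)⁻¹ = g * (c * x * c⁻¹) * g⁻¹ by group, ← e']; group
      rw [this]; exact (Subgroup.mem_inf.1 ha).1
    have hlt' : Nat.card W < Nat.card Y1 := by
      rw [hY1card]; have : 0 < Nat.card W := Nat.card_pos; omega
    have hY1le : Nat.card Y1 ≤ Nat.card (P : Subgroup G) := card_le_of_inf_eq inf_le_left
    obtain ⟨n, hn, e⟩ := ih (Nat.card (P : Subgroup G) - Nat.card Y1) (by omega) Y1 le_rfl
      (hEW.trans hWY1.le) inf_le_left (g * c) hg'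
    refine ⟨n, hn, ?_⟩
    have hcy : c * y * c⁻¹ = y := by rw [hc, mul_inv_cancel_right]
    rw [e]
    calc g * c * y * (g * c)⁻¹ = g * (c * y * c⁻¹) * g⁻¹ := by group
      _ = g * y * g⁻¹ := by rw [hcy]

/-- The transfer contradiction. -/
theorem control_false [IsSimpleGroup G] (hna : ¬ IsMulCommutative G) (P : Sylow 3 G) {y : G}
    {E : Subgroup G} (hy3 : y ^ 3 = 1) (hE9 : Nat.card E = 9) (hEP : E ≤ P) (hyE : y ∈ E)
    (hEC : E ≤ centralizer {y}) (hnc : ¬ IsCyclic E) (h27 : 27 ≤ Nat.card (P : Subgroup G))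
    (hmax : ∀ D : Subgroup G, D ≤ centralizer {y} → IsPGroup 3 D → Nat.card D ≤ 9)
    (hreal : ∀ g : G, g * y * g⁻¹ ≠ y⁻¹) : False := by
  classical
  haveI : Fact (Nat.Prime 3) := ⟨Nat.prime_three⟩
  have hy1 : y ≠ 1 := fun h => hreal 1 (by simp [h])
  have hyP : y ∈ (P : Subgroup G) := hEP hyE
  have hncP : ¬ IsCyclic (P : Subgroup G) := fun h => hnc (by haveI := h; exact Subgroup.isCyclic_of_le hEP)
  have hPy : Nat.card ↥((P : Subgroup G) ⊓ centralizer {y}) = 9 := by
    refine le_antisymm (hmax _ inf_le_right (P.isPGroup'.to_le inf_le_left)) ?_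
    rw [← hE9]; exact card_le_of_inf_eq (le_inf hEP hEC)
  set N := normalizer ((P : Subgroup G) : Set G) with hNdef
  have hN : ∀ h ∈ N, ∀ w ∈ (P : Subgroup G), h * w * h⁻¹ ∈ (P : Subgroup G) := fun h hh w hw =>
    (Subgroup.mem_normalizer_iff.1 hh w).1 hw
  obtain ⟨K, O, hPK, hKN, -, hOK, hOne, hO4, h1O, hinvO, hidx, hOex, hOval, hOclass⟩ :=
    orbit_facts P.isPGroup' hncP hyP hPy Subgroup.le_normalizer hN hreal
  have hO124 : O.card = 1 ∨ O.card = 2 ∨ O.card = 4 := by
    have hne3 : O.card ≠ 3 := by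
      intro h3
      have h1 := Subgroup.card_dvd_of_le hPK
      obtain ⟨m, hm⟩ := h1
      have h2 : 3 * Nat.card (P : Subgroup G) ∣ Nat.card G := by
        refine Dvd.dvd.trans ?_ (Subgroup.card_subgroup_dvd_card N)
        rw [← hOK, h3]
        exact Nat.mul_dvd_mul_left 3 ⟨m, hm⟩
      obtain ⟨j, hj⟩ := (IsPGroup.iff_card (p := 3)).1 P.isPGroup'
      rw [hj, ← pow_succ'] at h2
      have := P.pow_dvd_card_of_pow_dvd_card h2
      rw [hj, Nat.pow_dvd_pow_iff_le_right (by norm_num)] at this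
      omega
    have := hOne.card_pos
    omega
  let V := ↥(P : Subgroup G) ⧸ commutator ↥(P : Subgroup G)
  letI : CommGroup V := inferInstanceAs (CommGroup (Abelianization ↥(P : Subgroup G)))
  let φ : ↥(P : Subgroup G) →* V := QuotientGroup.mk' _
  haveI : Fintype (G ⧸ (P : Subgroup G)) := Fintype.ofFinite _
  have hτ : MonoidHom.transfer φ y = 1 := hom_trivial hna _ y
  have ho3 : orderOf y = 3 := orderOf_eq_prime hy3 hy1
  rw [H59.transfer_eq_prod_fixTerm φ y (fun g n h hn hn1 => by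
    rw [ho3] at hn
    rcases (Nat.dvd_prime Nat.prime_three).1 hn with rfl | rfl
    · omega
    · have e : (⟨g⁻¹ * y ^ 3 * g, h⟩ : (P : Subgroup G)) = 1 := Subtype.ext (by simp [hy3])
      rw [e, map_one])] at hτ
  have hO3 : ∀ a ∈ O, a ^ 3 = 1 := by
    intro a ha
    obtain ⟨h, hh, rfl⟩ := hOex a ha
    rw [← QuotientGroup.mk_pow]
    have e : (⟨h * y * h⁻¹, hN h hh y hyP⟩ : (P : Subgroup G)) ^ 3 = 1 :=
      Subtype.ext (by rw [Subgroup.coe_pow, OneMemClass.coe_one, conj_pow, hy3]; simp)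
    rw [e]; rfl
  have hCmax : ¬ 3 ∣ E.relIndex (centralizer {y}) :=
    not_dvd_relIndex_of_max hEC (P.isPGroup'.to_le hEP) fun D hD hDp => hE9 ▸ hmax D hD hDp
  set c := E.relIndex (centralizer {y}) with hcdef
  -- every fixed coset gives a value in `O`
  have hval : ∀ g : G, g⁻¹ * y * g ∈ (P : Subgroup G) → H59.fixTerm φ y g ∈ O := by
    intro g hg
    set x := g⁻¹ * y * g with hxdef
    have hxmax : ∀ D : Subgroup G, D ≤ centralizer {x} → IsPGroup 3 D → Nat.card D ≤ 9 := by
      intro D hD hDp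
      refine le_trans (le_of_eq (Subgroup.card_map_of_injective (f := (MulAut.conj g).toMonoidHom)
        (MulAut.conj g).injective).symm) (hmax _ ?_ (hDp.map _))
      rintro _ ⟨d, hd, rfl⟩
      rw [Subgroup.mem_centralizer_singleton_iff]
      have e := Subgroup.mem_centralizer_singleton_iff.1 (hD hd)
      show g * d * g⁻¹ * y = y * (g * d * g⁻¹)
      calc g * d * g⁻¹ * y = g * (d * x) * g⁻¹ := by rw [hxdef]; group
        _ = g * (x * d) * g⁻¹ := by rw [e]
        _ = _ := by rw [hxdef]; group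
    set U := (P : Subgroup G) ⊓ centralizer {x} with hUdef
    have hxU : x ∈ U := Subgroup.mem_inf.2 ⟨hg, Subgroup.mem_centralizer_singleton_iff.2 rfl⟩
    have hUp : IsPGroup 3 U := P.isPGroup'.to_le inf_le_left
    have hx3 : orderOf x = 3 := by
      rw [hxdef, show g⁻¹ * y * g = g⁻¹ * y * g⁻¹⁻¹ by rw [inv_inv], orderOf_conj', ho3]
    have hU9 : Nat.card U = 9 := by
      refine le_antisymm (hxmax _ inf_le_right hUp) ?_
      by_contra hlt
      have hU3 := card_three_pow_le hUp (i := 1) (by norm_num; omega)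
      have hUz : U = zpowers x :=
        (Subgroup.eq_of_le_of_card_ge (zpowers_le.2 hxU) (by rw [Nat.card_zpowers, hx3]; omega)).symm
      obtain ⟨z, hzP, hzo, hzc⟩ := exists_central P (hx3 ▸ orderOf_dvd_natCard x)
      have hzU : z ∈ U := Subgroup.mem_inf.2 ⟨hzP, Subgroup.mem_centralizer_singleton_iff.2 (hzc x hg).symm⟩
      rw [hUz] at hzU
      have hzz : zpowers z = zpowers x := Subgroup.eq_of_le_of_card_ge (zpowers_le.2 hzU)
        (by rw [Nat.card_zpowers, Nat.card_zpowers, hzo, hx3])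
      have hPU : (P : Subgroup G) ≤ U := by
        intro a ha
        refine Subgroup.mem_inf.2 ⟨ha, Subgroup.mem_centralizer_singleton_iff.2 ?_⟩
        obtain ⟨i, hi⟩ := mem_zpowers_iff.1 (hzz.symm ▸ mem_zpowers x : x ∈ zpowers z)
        rw [← hi]
        exact (((commute_iff_eq a z).2 (hzc a ha)).zpow_right i).eq
      have := card_le_of_inf_eq hPU
      omega
    obtain ⟨c', hc', hconj⟩ := conj_of_max (p := 3) (H := centralizer {x})
      (U := E.map (MulAut.conj g⁻¹).toMonoidHom) (U' := U)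
      (by
        rintro _ ⟨a, ha, rfl⟩
        rw [Subgroup.mem_centralizer_singleton_iff]
        have e := Subgroup.mem_centralizer_singleton_iff.1 (hEC ha)
        show g⁻¹ * a * g⁻¹⁻¹ * x = x * (g⁻¹ * a * g⁻¹⁻¹)
        calc g⁻¹ * a * g⁻¹⁻¹ * x = g⁻¹ * (a * y) * g := by rw [hxdef]; group
          _ = g⁻¹ * (y * a) * g := by rw [e]
          _ = _ := by rw [hxdef]; group)
      inf_le_right ((P.isPGroup'.to_le hEP).map _) hUp
      (fun D hD hDp => by
        rw [Subgroup.card_map_of_injective (MulAut.conj g⁻¹).injective, hE9]; exact hxmax D hD hDp)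
      (by rw [Subgroup.card_map_of_injective (MulAut.conj g⁻¹).injective, hE9, hU9])
    obtain ⟨n, hn, hne⟩ := control P hE9 hEP hyE hEC hnc hmax hreal _ E le_rfl le_rfl hEP (c' * g⁻¹)
      (fun w hw => by
        have h1 := (Subgroup.mem_inf.1 ((hconj (g⁻¹ * w * g⁻¹⁻¹)).1 ⟨w, hw, rfl⟩)).1
        convert h1 using 1
        group)
    have hx : n * y * n⁻¹ = x := by
      rw [hne]
      have e := Subgroup.mem_centralizer_singleton_iff.1 hc'
      calc c' * g⁻¹ * y * (c' * g⁻¹)⁻¹ = (c' * x) * c'⁻¹ := by rw [hxdef]; group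
        _ = x := by rw [e, mul_inv_cancel_right]
    rw [H59.fixTerm, dif_pos hg]
    have := hOval n hn
    show (QuotientGroup.mk (⟨x, hg⟩ : (P : Subgroup G)) : V) ∈ O
    convert this using 3
    exact hx.symm
  -- the fibres
  set Fx := Finset.univ.filter (fun q : G ⧸ (P : Subgroup G) => q.out⁻¹ * y * q.out ∈ (P : Subgroup G))
    with hFxdef
  have hfibre : ∀ a ∈ O, (Fx.filter (fun q => H59.fixTerm φ y q.out = a)).card = c := by
    intro a ha
    obtain ⟨h, hh, hah⟩ := hOex a ha
    set q₀ : G ⧸ (P : Subgroup G) := QuotientGroup.mk h⁻¹ with hq₀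
    have hmem : ∀ q, q ∈ Fx.filter (fun q => H59.fixTerm φ y q.out = a) ↔
        q ∈ MulAction.orbit (centralizer ({y} : Set G)) q₀ := by
      intro q
      constructor
      · intro hq
        obtain ⟨hq1, hq2⟩ := Finset.mem_filter.1 hq
        obtain ⟨-, hq1⟩ := Finset.mem_filter.1 hq1
        rw [H59.fixTerm, dif_pos hq1, hah] at hq2
        obtain ⟨w, hw, e⟩ := hOclass h hh _ hq1 hq2
        refine ⟨⟨q.out * w * h, ?_⟩, ?_⟩
        · rw [Subgroup.mem_centralizer_singleton_iff]
          calc q.out * w * h * y = q.out * (w * (h * y * h⁻¹) * w⁻¹) * (w * h) := by group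
            _ = q.out * (q.out⁻¹ * y * q.out) * (w * h) := by rw [e]
            _ = y * (q.out * w * h) := by group
        · show (q.out * w * h) • q₀ = q
          rw [hq₀, MulAction.Quotient.smul_mk, smul_eq_mul, mul_inv_cancel_right]
          conv_rhs => rw [← QuotientGroup.out_eq' q]
          rw [QuotientGroup.eq]
          simpa using inv_mem hw
      · rintro ⟨⟨d, hd⟩, rfl⟩
        have hd' := Subgroup.mem_centralizer_singleton_iff.1 hd
        show (d • q₀) ∈ _
        rw [hq₀, MulAction.Quotient.smul_mk, smul_eq_mul]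
        have e : (d * h⁻¹)⁻¹ * y * (d * h⁻¹) = h * y * h⁻¹ := by
          calc (d * h⁻¹)⁻¹ * y * (d * h⁻¹) = h * (d⁻¹ * (y * d)) * h⁻¹ := by group
            _ = h * (d⁻¹ * (d * y)) * h⁻¹ := by rw [hd']
            _ = _ := by group
        have h2 : H59.fixTerm φ y (d * h⁻¹) = a := by
          rw [H59.fixTerm, dif_pos (by rw [e]; exact hN h hh y hyP), hah]
          exact congrArg φ (Subtype.ext e)
        refine Finset.mem_filter.2 ⟨Finset.mem_filter.2 ⟨Finset.mem_univ _, ?_⟩, by rw [H59.fixTerm_out]; exact h2⟩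
        obtain ⟨p, hp⟩ := QuotientGroup.mk_out_eq_mul (P : Subgroup G) (d * h⁻¹)
        rw [hp, show (d * h⁻¹ * p)⁻¹ * y * (d * h⁻¹ * p) =
          (p : G)⁻¹ * ((d * h⁻¹)⁻¹ * y * (d * h⁻¹)) * p by group, e]
        exact mul_mem (mul_mem (inv_mem p.2) (hN h hh y hyP)) p.2
    rw [← Set.ncard_coe_finset,
      show ((Fx.filter (fun q => H59.fixTerm φ y q.out = a) : Finset _) : Set (G ⧸ (P : Subgroup G))) =
        MulAction.orbit (centralizer ({y} : Set G)) q₀ from Set.ext hmem, ← MulAction.index_stabilizer]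
    have hstab : MulAction.stabilizer (centralizer ({y} : Set G)) q₀ = E.subgroupOf (centralizer {y}) := by
      refine (Subgroup.eq_of_le_of_card_ge (H := E.subgroupOf (centralizer {y})) ?_ ?_).symm
      · intro d hd
        rw [MulAction.mem_stabilizer_iff]
        show (d : G) • q₀ = q₀
        rw [hq₀, MulAction.Quotient.smul_mk, smul_eq_mul, QuotientGroup.eq]
        have h1 := hN h hh _ (inv_mem (hEP hd))
        convert h1 using 1
        simp only [Subgroup.coe_subtype]
        group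
      · rw [Nat.card_congr (Subgroup.subgroupOfEquivOfLe hEC).toEquiv, hE9,
          ← Subgroup.card_map_of_injective (Subgroup.subtype_injective _)]
        refine hmax _ (Subgroup.map_subtype_le _) ?_
        refine IsPGroup.map ?_ _
        intro d
        have hd : (d : G) • (QuotientGroup.mk h⁻¹ : G ⧸ (P : Subgroup G)) = QuotientGroup.mk h⁻¹ := d.2
        rw [MulAction.Quotient.smul_mk, smul_eq_mul, QuotientGroup.eq] at hd
        obtain ⟨k, hk⟩ := P.isPGroup' ⟨_, hd⟩
        refine ⟨k, Subtype.ext (Subtype.ext ?_)⟩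
        have hk' : (((d : G) * h⁻¹)⁻¹ * h⁻¹) ^ 3 ^ k = 1 := congrArg Subtype.val hk
        rw [show ((d : G) * h⁻¹)⁻¹ * h⁻¹ = h * (d : G)⁻¹ * h⁻¹ by group, conj_pow, conj_eq_one_iff,
          inv_pow, inv_eq_one] at hk'
        simpa using hk'
    rw [hstab]
    rfl
  have hprod : ∏ q : G ⧸ (P : Subgroup G), H59.fixTerm φ y q.out = (∏ a ∈ O, a) ^ c := by
    rw [← Finset.prod_subset (Finset.subset_univ Fx) (fun q _ hq => by
      rw [H59.fixTerm, dif_neg]
      intro h; exact hq (Finset.mem_filter.2 ⟨Finset.mem_univ _, h⟩))]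
    rw [← Finset.prod_fiberwise_of_maps_to (s := Fx) (t := O)
      (g := fun q : G ⧸ (P : Subgroup G) => H59.fixTerm φ y q.out)
      (fun q hq => hval _ (Finset.mem_filter.1 hq).2), ← Finset.prod_pow]
    refine Finset.prod_congr rfl fun a ha => ?_
    rw [Finset.prod_congr rfl (g := fun _ => a) (fun q hq => (Finset.mem_filter.1 hq).2), Finset.prod_const,
      hfibre a ha]
  rw [hprod] at hτ
  have h3 : (∏ a ∈ O, a) ^ 3 = 1 := by
    rw [← Finset.prod_pow]; exact Finset.prod_eq_one hO3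
  have hone : ∏ a ∈ O, a = 1 := by
    have hd := Nat.dvd_gcd (orderOf_dvd_of_pow_eq_one h3) (orderOf_dvd_of_pow_eq_one hτ)
    rw [(Nat.prime_three.coprime_iff_not_dvd.2 hCmax), Nat.dvd_one, orderOf_eq_one_iff] at hd
    exact hd
  exact prod_ne_one (by rw [← Subgroup.index_eq_card, hidx]) O hO124 hO3 h1O hinvO hone

end Cfsg.Agent.H19.Fixity
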