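import Cfsg.Agent.H19.Fixity.OddBasic
import Cfsg.Agent.PGroups.Basic

/-!
# Classes filling cosets of the derived group, and their images under a normaliser
-/

set_option autoImplicit false
set_option linter.unusedSectionVars false
set_option linter.style.haveILetI false

namespace Cfsg.Agent.H19.Fixity

open Subgroup

/-- In a noncyclic 3-group an element with centraliser of order nine has its class equal to its coset
of the derived group, whose index is nine. -/
theorem coset_class {X : Type*} [Group X] [Finite X] (hX : IsPGroup 3 X) (hnc : ¬ IsCyclic X) (x : X)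
    (h9 : Nat.card (centralizer ({x} : Set X)) = 9) :
    (commutator X).index = 9 ∧
      ∀ v : X, (v : X ⧸ commutator X) = (x : X ⧸ commutator X) ↔ IsConj x v := by
  classical
  haveI : Fact (Nat.Prime 3) := ⟨Nat.prime_three⟩
  haveI := Fintype.ofFinite X
  have hidx : 9 ≤ (commutator X).index := by
    by_contra h
    apply hnc
    obtain ⟨n, hn⟩ := hX.index (commutator X)
    rw [hn] at h
    have hn1 : n ≤ 1 := by
      by_contra h2
      exact h (le_trans (by norm_num) (Nat.pow_le_pow_right (show 1 ≤ 3 by norm_num) (show 2 ≤ n by omega)))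
    have hd : (frattini X).index ∣ 3 := by
      refine (Subgroup.index_dvd_of_le (PGroups.commutator_le_frattini hX)).trans ?_
      rw [hn]
      exact (pow_dvd_pow 3 hn1).trans (dvd_of_eq (pow_one 3))
    haveI : IsCyclic (X ⧸ frattini X) := by
      rcases (Nat.dvd_prime Nat.prime_three).1 hd with h1 | h1
      · haveI : Subsingleton (X ⧸ frattini X) :=
          (Nat.card_eq_one_iff_unique.1 (by rw [← Subgroup.index_eq_card, h1])).1
        exact isCyclic_of_subsingleton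
      · exact isCyclic_of_prime_card (p := 3) (by rw [← Subgroup.index_eq_card, h1])
    exact PGroups.isCyclic_of_frattini
  set C := centralizer ({x} : Set X) with hC
  let f : X ⧸ C → commutator X := fun q => ⟨q.out * x * q.out⁻¹ * x⁻¹, by
    have := Subgroup.commutator_mem_commutator (mem_top q.out) (mem_top x)
    rwa [commutatorElement_def] at this⟩
  have hf : Function.Injective f := by
    intro q q' h
    have h1 : q.out * x * q.out⁻¹ = q'.out * x * q'.out⁻¹ := mul_right_cancel (congrArg Subtype.val h)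
    rw [← QuotientGroup.out_eq' q, ← QuotientGroup.out_eq' q', QuotientGroup.eq]
    refine Subgroup.mem_centralizer_singleton_iff.2 ?_
    calc q.out⁻¹ * q'.out * x = q.out⁻¹ * (q'.out * x * q'.out⁻¹) * q'.out := by group
      _ = q.out⁻¹ * (q.out * x * q.out⁻¹) * q'.out := by rw [h1]
      _ = x * (q.out⁻¹ * q'.out) := by group
  have h1 : C.index ≤ Nat.card (commutator X) := by
    rw [Subgroup.index_eq_card]; exact Nat.card_le_card_of_injective f hf
  have h2 := C.card_mul_index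
  have h3 := (commutator X).card_mul_index
  rw [h9] at h2
  have hle : Nat.card (commutator X) * 9 ≤ Nat.card (commutator X) * (commutator X).index :=
    Nat.mul_le_mul_left _ hidx
  have h4 : Nat.card (commutator X) = C.index := by omega
  have hbij : Function.Bijective f := (Nat.bijective_iff_injective_and_card f).2
    ⟨hf, by rw [← Subgroup.index_eq_card, h4]⟩
  refine ⟨Nat.eq_of_mul_eq_mul_left (Nat.card_pos (α := commutator X)) (by rw [h3, ← h2, h4, mul_comm]),
    fun v => ⟨fun hv => ?_, ?_⟩⟩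
  · have hmem : v * x⁻¹ ∈ commutator X := by
      rw [← QuotientGroup.eq_one_iff, QuotientGroup.mk_mul, QuotientGroup.mk_inv, hv, mul_inv_cancel]
    obtain ⟨q, hq⟩ := hbij.2 ⟨_, hmem⟩
    exact isConj_iff.2 ⟨q.out, mul_right_cancel (congrArg Subtype.val hq)⟩
  · intro hv
    obtain ⟨c, rfl⟩ := isConj_iff.1 hv
    have := Subgroup.commutator_mem_commutator (mem_top c) (mem_top x)
    rw [commutatorElement_def] at this
    rw [← QuotientGroup.eq_one_iff, QuotientGroup.mk_mul, QuotientGroup.mk_inv,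
      mul_inv_eq_one] at this
    exact this

variable {G : Type*} [Group G] [Finite G]

theorem card_centralizer_subtype {W : Subgroup G} {x : G} (hx : x ∈ W) :
    Nat.card (centralizer ({(⟨x, hx⟩ : W)} : Set W)) = Nat.card ↥(W ⊓ centralizer {x}) := by
  rw [← Subgroup.card_map_of_injective W.subtype_injective]
  congr 2
  ext a
  constructor
  · rintro ⟨⟨b, hb⟩, hbc, rfl⟩
    exact Subgroup.mem_inf.2 ⟨hb, Subgroup.mem_centralizer_singleton_iff.2
      (congrArg Subtype.val (Subgroup.mem_centralizer_singleton_iff.1 hbc))⟩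
  · intro ha
    obtain ⟨ha1, ha2⟩ := Subgroup.mem_inf.1 ha
    exact ⟨⟨a, ha1⟩, Subgroup.mem_centralizer_singleton_iff.2
      (Subtype.ext (Subgroup.mem_centralizer_singleton_iff.1 ha2)), rfl⟩

/-- The image in `W / W'` of the conjugates of `y` under a group `H` normalising `W`. -/
theorem orbit_facts {W H : Subgroup G} (hW : IsPGroup 3 W) (hnc : ¬ IsCyclic W) {y : G} (hy : y ∈ W)
    (h9 : Nat.card ↥(W ⊓ centralizer {y}) = 9) (hWH : W ≤ H)
    (hH : ∀ h ∈ H, ∀ w ∈ W, h * w * h⁻¹ ∈ W) (hreal : ∀ g : G, g * y * g⁻¹ ≠ y⁻¹) :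
    ∃ (K : Subgroup G) (O : Finset (↥W ⧸ commutator W)),
      W ≤ K ∧ K ≤ H ∧ (∀ k ∈ K, ∃ w ∈ W, (w⁻¹ * k) * y = y * (w⁻¹ * k)) ∧
      O.card * Nat.card K = Nat.card H ∧ O.Nonempty ∧ O.card ≤ 4 ∧ 1 ∉ O ∧ (∀ a ∈ O, a⁻¹ ∉ O) ∧
      (commutator W).index = 9 ∧
      (∀ a ∈ O, ∃ h, ∃ hh : h ∈ H, a = QuotientGroup.mk ⟨h * y * h⁻¹, hH h hh y hy⟩) ∧
      (∀ (h : G) (hh : h ∈ H), QuotientGroup.mk ⟨h * y * h⁻¹, hH h hh y hy⟩ ∈ O) ∧
      (∀ (u : G) (hu : u ∈ H) (v : G) (hv : v ∈ W),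
        (QuotientGroup.mk ⟨v, hv⟩ : ↥W ⧸ commutator W) =
          QuotientGroup.mk ⟨u * y * u⁻¹, hH u hu y hy⟩ →
        ∃ w ∈ W, v = w * (u * y * u⁻¹) * w⁻¹) := by
  classical
  haveI : Fact (Nat.Prime 3) := ⟨Nat.prime_three⟩
  haveI := Fintype.ofFinite H
  haveI := Fintype.ofFinite (↥W ⧸ commutator W)
  let val : H → ↥W ⧸ commutator W := fun h =>
    QuotientGroup.mk ⟨(h : G) * y * (h : G)⁻¹, hH h h.2 y hy⟩
  have hcent : ∀ h : H, Nat.card
      (centralizer ({(⟨(h : G) * y * (h : G)⁻¹, hH h h.2 y hy⟩ : W)} : Set W)) = 9 := by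
    intro h
    rw [card_centralizer_subtype, ← h9]
    refine Nat.card_congr ⟨fun a => ⟨(h : G)⁻¹ * a * h, Subgroup.mem_inf.2 ⟨?_, ?_⟩⟩,
      fun a => ⟨(h : G) * a * (h : G)⁻¹, Subgroup.mem_inf.2 ⟨?_, ?_⟩⟩, fun a => ?_, fun a => ?_⟩
    · simpa using hH (h : G)⁻¹ (inv_mem h.2) a (Subgroup.mem_inf.1 a.2).1
    · rw [Subgroup.mem_centralizer_singleton_iff]
      have := Subgroup.mem_centralizer_singleton_iff.1 (Subgroup.mem_inf.1 a.2).2
      calc (h : G)⁻¹ * a * h * y = (h : G)⁻¹ * ((a : G) * ((h : G) * y * (h : G)⁻¹)) * h := by group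
        _ = (h : G)⁻¹ * (((h : G) * y * (h : G)⁻¹) * a) * h := by rw [this]
        _ = y * ((h : G)⁻¹ * a * h) := by group
    · exact hH h h.2 a (Subgroup.mem_inf.1 a.2).1
    · rw [Subgroup.mem_centralizer_singleton_iff]
      have := Subgroup.mem_centralizer_singleton_iff.1 (Subgroup.mem_inf.1 a.2).2
      calc (h : G) * a * (h : G)⁻¹ * ((h : G) * y * (h : G)⁻¹) = (h : G) * ((a : G) * y) * (h : G)⁻¹ := by group
        _ = (h : G) * (y * a) * (h : G)⁻¹ := by rw [this]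
        _ = (h : G) * y * (h : G)⁻¹ * ((h : G) * a * (h : G)⁻¹) := by group
    · exact Subtype.ext (by group)
    · exact Subtype.ext (by group)
  have hclass : ∀ (h : H) (v : G) (hv : v ∈ W),
      (QuotientGroup.mk ⟨v, hv⟩ : ↥W ⧸ commutator W) = val h ↔
        ∃ w ∈ W, v = w * ((h : G) * y * (h : G)⁻¹) * w⁻¹ := by
    intro h v hv
    rw [(coset_class hW hnc _ (hcent h)).2, isConj_iff]
    constructor
    · rintro ⟨⟨w, hw⟩, e⟩; exact ⟨w, hw, (congrArg Subtype.val e).symm⟩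
    · rintro ⟨w, hw, e⟩; exact ⟨⟨w, hw⟩, Subtype.ext e.symm⟩
  let K : Subgroup G :=
    { carrier := {k | k ∈ H ∧ ∃ w ∈ W, (w⁻¹ * k) * y = y * (w⁻¹ * k)}
      one_mem' := ⟨one_mem _, 1, one_mem _, by simp⟩
      mul_mem' := by
        rintro a b ⟨ha, w, hw, hc⟩ ⟨hb, w', hw', hc'⟩
        set c := w⁻¹ * a with hcdef
        have hcH : c ∈ H := mul_mem (inv_mem (hWH hw)) ha
        refine ⟨mul_mem ha hb, w * (c * w' * c⁻¹), mul_mem hw (hH c hcH w' hw'), ?_⟩
        have e : (w * (c * w' * c⁻¹))⁻¹ * (a * b) = c * (w'⁻¹ * b) := by rw [hcdef]; group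
        rw [e]
        exact ((commute_iff_eq c y).2 hc).mul_left ((commute_iff_eq _ y).2 hc')
      inv_mem' := by
        rintro a ⟨ha, w, hw, hc⟩
        set c := w⁻¹ * a with hcdef
        have hcH : c ∈ H := mul_mem (inv_mem (hWH hw)) ha
        refine ⟨inv_mem ha, c⁻¹ * w⁻¹ * c, by simpa using hH c⁻¹ (inv_mem hcH) _ (inv_mem hw), ?_⟩
        have e : (c⁻¹ * w⁻¹ * c)⁻¹ * a⁻¹ = c⁻¹ := by rw [hcdef]; group
        rw [e]
        exact ((commute_iff_eq c y).2 hc).inv_left }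
  have hK : ∀ k, k ∈ K ↔ k ∈ H ∧ ∃ w ∈ W, (w⁻¹ * k) * y = y * (w⁻¹ * k) := fun k => Iff.rfl
  have hval : ∀ h h' : H, val h' = val h ↔ (h : G)⁻¹ * h' ∈ K := by
    intro h h'
    rw [hclass h _ (hH h' h'.2 y hy), hK]
    refine ⟨?_, ?_⟩
    · rintro ⟨w, hw, e⟩
      refine ⟨mul_mem (inv_mem h.2) h'.2, (h : G)⁻¹ * w * h,
        by simpa using hH (h : G)⁻¹ (inv_mem h.2) w hw, ?_⟩
      have e2 : ((h : G)⁻¹ * w * h)⁻¹ * ((h : G)⁻¹ * h') = (h : G)⁻¹ * w⁻¹ * h' := by group
      rw [e2]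
      calc (h : G)⁻¹ * w⁻¹ * h' * y = (h : G)⁻¹ * w⁻¹ * ((h' : G) * y * (h' : G)⁻¹) * h' := by group
        _ = (h : G)⁻¹ * w⁻¹ * (w * ((h : G) * y * (h : G)⁻¹) * w⁻¹) * h' := by rw [e]
        _ = y * ((h : G)⁻¹ * w⁻¹ * h') := by group
    · rintro ⟨-, w, hw, hc⟩
      set c := w⁻¹ * ((h : G)⁻¹ * h') with hcdef
      refine ⟨(h : G) * w * (h : G)⁻¹, hH h h.2 w hw, ?_⟩
      have e : (h' : G) = h * w * c := by rw [hcdef]; group
      calc (h' : G) * y * (h' : G)⁻¹ = h * w * (c * y) * (h * w * c)⁻¹ := by rw [e]; group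
        _ = h * w * (y * c) * (h * w * c)⁻¹ := by rw [hc]
        _ = _ := by group
  set O := Finset.univ.image val with hOdef
  have h1O : (1 : ↥W ⧸ commutator W) ∉ O := by
    intro h1
    obtain ⟨h, -, e⟩ := Finset.mem_image.1 h1
    have : (QuotientGroup.mk ⟨(1 : G), one_mem W⟩ : ↥W ⧸ commutator W) = val h := e.symm
    obtain ⟨w, hw, e'⟩ := (hclass h 1 (one_mem _)).1 this
    have hy1 : y = 1 := by
      have := congrArg (fun z => (w * (h : G))⁻¹ * z * (w * (h : G))) e'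
      simpa [mul_assoc] using this.symm
    exact hreal 1 (by simp [hy1])
  have hinvO : ∀ a ∈ O, a⁻¹ ∉ O := by
    intro a ha hai
    obtain ⟨h, -, rfl⟩ := Finset.mem_image.1 ha
    obtain ⟨h', -, e⟩ := Finset.mem_image.1 hai
    have hinvmem : ((h : G) * y * (h : G)⁻¹)⁻¹ ∈ W := inv_mem (hH h h.2 y hy)
    have : (QuotientGroup.mk ⟨_, hinvmem⟩ : ↥W ⧸ commutator W) = val h' := by
      rw [e]; exact QuotientGroup.mk_inv (commutator W) (⟨_, hH h h.2 y hy⟩ : W)
    obtain ⟨w, hw, e'⟩ := (hclass h' _ hinvmem).1 this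
    apply hreal ((h : G)⁻¹ * w * h')
    have := congrArg (fun z => (h : G)⁻¹ * z * h) e'
    beta_reduce at this
    rw [show (h : G)⁻¹ * ((h : G) * y * (h : G)⁻¹)⁻¹ * h = y⁻¹ by group] at this
    rw [this]; group
  have hidx : (commutator ↥W).index = 9 :=
    (coset_class hW hnc ⟨y, hy⟩ (by rw [card_centralizer_subtype, h9])).1
  refine ⟨K, O, fun w hw => (hK w).2 ⟨hWH hw, w, hw, by simp⟩, fun k hk => ((hK k).1 hk).1,
    fun k hk => ((hK k).1 hk).2, ?_, ⟨val 1, Finset.mem_image.2 ⟨1, Finset.mem_univ _, rfl⟩⟩, ?_, h1O,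
    hinvO, hidx, fun a ha => ?_, fun h hh => Finset.mem_image.2 ⟨⟨h, hh⟩, Finset.mem_univ _, rfl⟩,
    fun u hu v hv e => (hclass ⟨u, hu⟩ v hv).1 e⟩
  · rw [Nat.card_eq_fintype_card (α := H), ← Finset.card_univ,
      Finset.card_eq_sum_card_fiberwise (f := val) (t := O)
        (fun h _ => Finset.mem_image.2 ⟨h, Finset.mem_univ _, rfl⟩)]
    rw [Finset.sum_congr rfl (g := fun _ => Nat.card K) (fun a ha => ?_), Finset.sum_const, smul_eq_mul]
    obtain ⟨h, -, rfl⟩ := Finset.mem_image.1 ha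
    haveI := Fintype.ofFinite K
    rw [Nat.card_eq_fintype_card, ← Finset.card_univ]
    refine Finset.card_bij' (fun x hx => ⟨(h : G)⁻¹ * x, (hval h x).1 (Finset.mem_filter.1 hx).2⟩)
      (fun k _ => ⟨(h : G) * k, mul_mem h.2 ((hK k).1 k.2).1⟩) (fun _ _ => Finset.mem_univ _)
      (fun k _ => ?_) (fun x _ => Subtype.ext (by simp)) (fun k _ => Subtype.ext (by simp))
    refine Finset.mem_filter.2 ⟨Finset.mem_univ _, (hval h _).2 ?_⟩
    simp
  · have hdis : Disjoint O (O.map ⟨fun a => a⁻¹, inv_injective⟩) := by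
      rw [Finset.disjoint_left]
      intro a ha hb
      obtain ⟨b, hb, e⟩ := Finset.mem_map.1 hb
      exact hinvO b hb ((show b⁻¹ = a from e) ▸ ha)
    have hsub : O ∪ O.map ⟨fun a => a⁻¹, inv_injective⟩ ⊆ Finset.univ.erase 1 := by
      intro a ha
      refine Finset.mem_erase.2 ⟨?_, Finset.mem_univ _⟩
      rcases Finset.mem_union.1 ha with ha | ha
      · exact fun e => h1O (e ▸ ha)
      · obtain ⟨b, hb, rfl⟩ := Finset.mem_map.1 ha
        exact fun e => h1O ((inv_eq_one.1 e : b = 1) ▸ hb)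
    have := Finset.card_le_card hsub
    rw [Finset.card_union_of_disjoint hdis, Finset.card_map, Finset.card_erase_of_mem (Finset.mem_univ _),
      Finset.card_univ, ← Nat.card_eq_fintype_card, ← Subgroup.index_eq_card, hidx] at this
    omega
  · obtain ⟨h, -, rfl⟩ := Finset.mem_image.1 ha
    exact ⟨h, h.2, rfl⟩

end Cfsg.Agent.H19.Fixity
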