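import Cfsg.Agent.H19.Fixity.OddMembers
import Cfsg.Agent.H59.Yoshida

/-!
# One fixed set in a Sylow 3-subgroup: a free element of order three gives a transfer contradiction
-/

set_option autoImplicit false
set_option linter.unusedSectionVars false
set_option linter.style.haveILetI false
set_option linter.unusedVariables false

namespace Cfsg.Agent.H19.Fixity

open MulAction Subgroup
open scoped Pointwise

variable {G Ω : Type*} [Group G] [MulAction G Ω] [Finite G] [Finite Ω] {e : ℕ}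
  (H : ThreeSetting G Ω e)
include H

theorem single_case [IsSimpleGroup G] (hna : ¬ IsMulCommutative G) (P : Sylow 3 G) {F : Set Ω}
    (hFe : F.ncard = e) (hPF : (P : Subgroup G) ≤ stabilizer G F)
    (hex : ∃ r ∈ (P : Subgroup G), r ≠ 1 ∧ r ∈ fixingSubgroup G F)
    (hall : ∀ x ∈ (P : Subgroup G), x ≠ 1 → (fixedBy Ω x).ncard = e → fixedBy Ω x = F) {x₀ : G}
    (hx₀M : x₀ ∈ stabilizer G F) (hx₀ : orderOf x₀ = 3) (hx₀F : fixedBy Ω x₀ ≠ F) : False := by
  classical
  haveI : Fact (Nat.Prime 3) := ⟨Nat.prime_three⟩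
  have hFk : F.ncard = 3 ∨ F.ncard = 4 := by rw [hFe]; exact H.he
  set M := stabilizer G F with hMdef
  -- free elements are those outside the kernel
  have hfree : ∀ v : G, v ∈ M → orderOf v = 3 → fixedBy Ω v ≠ F →
      v ∉ fixingSubgroup G F ∧ (fixedBy Ω v).ncard + 3 = e := by
    intro v hv ho hne
    have hv1 : v ≠ 1 := fun h => by rw [h, orderOf_one] at ho; omega
    refine ⟨fun h => hne (fix_eq_three H hFe (isPGroup_zpowers ho) hv1 h), ?_⟩
    refine (H.counts v (isPGroup_zpowers ho) hv1).resolve_left fun h => hne ?_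
    exact fix_eq_of_sylow P hPF e hall hv (isPGroup_zpowers ho) hv1 h
  obtain ⟨hx₀pw, hx₀c⟩ := hfree x₀ hx₀M hx₀ hx₀F
  obtain ⟨χ, hχ⟩ := exists_chi H.odd hFk hx₀M hx₀pw
    (by rw [← hx₀, pow_orderOf_eq_one]; exact one_mem _)
  -- extremal conjugates
  have hext : ∀ v : G, v ∈ M → orderOf v = 3 → (fixedBy Ω v).ncard + 3 = e →
      ∃ m ∈ M, m * v * m⁻¹ ∈ (P : Subgroup G) ∧
        ∀ D : Subgroup G, D ≤ centralizer {m * v * m⁻¹} → IsPGroup 3 D →
          Nat.card D ≤ Nat.card ↥((P : Subgroup G) ⊓ centralizer {m * v * m⁻¹}) := by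
    intro v hv ho hc
    set C := M ⊓ centralizer {v} with hCdef
    have hvC : zpowers v ≤ C := zpowers_le.2 (Subgroup.mem_inf.2
      ⟨hv, Subgroup.mem_centralizer_singleton_iff.2 rfl⟩)
    obtain ⟨R, hR⟩ := ((isPGroup_zpowers ho).comap_subtype (K := C)).exists_le_sylow
    set U := (R : Subgroup C).map C.subtype with hUdef
    have hUM : U ≤ M := (Subgroup.map_subtype_le _).trans inf_le_left
    obtain ⟨m, hm, hmU⟩ := exists_conj_mem_sylow P hPF (R.isPGroup'.map C.subtype) hUM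
    have hvU : v ∈ U := ⟨⟨v, hvC (mem_zpowers v)⟩, hR (mem_zpowers v), rfl⟩
    have hyP := hmU v hvU
    refine ⟨m, hm, hyP, ?_⟩
    set y := m * v * m⁻¹ with hydef
    set T := (P : Subgroup G) ⊓ centralizer {y} with hTdef
    have hTM : ∀ D : Subgroup G, D ≤ M ⊓ centralizer {y} → IsPGroup 3 D → Nat.card D ≤ Nat.card T := by
      intro D hD hDp
      have h1 : U.map (MulAut.conj m).toMonoidHom ≤ T := by
        rintro _ ⟨a, ha, rfl⟩
        refine Subgroup.mem_inf.2 ⟨hmU a ha, Subgroup.mem_centralizer_singleton_iff.2 ?_⟩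
        have e := Subgroup.mem_centralizer_singleton_iff.1
          (Subgroup.mem_inf.1 ((Subgroup.map_subtype_le _) ha : a ∈ C)).2
        show m * a * m⁻¹ * y = y * (m * a * m⁻¹)
        calc m * a * m⁻¹ * y = m * (a * v) * m⁻¹ := by rw [hydef]; group
          _ = m * (v * a) * m⁻¹ := by rw [e]
          _ = _ := by rw [hydef]; group
      have h2 : D.map (MulAut.conj m⁻¹).toMonoidHom ≤ C := by
        rintro _ ⟨a, ha, rfl⟩
        obtain ⟨ha1, ha2⟩ := Subgroup.mem_inf.1 (hD ha)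
        refine Subgroup.mem_inf.2 ⟨?_, Subgroup.mem_centralizer_singleton_iff.2 ?_⟩
        · show m⁻¹ * a * m⁻¹⁻¹ ∈ M
          rw [inv_inv]; exact mul_mem (mul_mem (inv_mem hm) ha1) hm
        · have e := Subgroup.mem_centralizer_singleton_iff.1 ha2
          show m⁻¹ * a * m⁻¹⁻¹ * v = v * (m⁻¹ * a * m⁻¹⁻¹)
          calc m⁻¹ * a * m⁻¹⁻¹ * v = m⁻¹ * (a * y) * m := by rw [hydef]; group
            _ = m⁻¹ * (y * a) * m := by rw [e]
            _ = _ := by rw [hydef]; group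
      have h3 : Nat.card D ≤ Nat.card (R : Subgroup C) := by
        obtain ⟨R', hR'⟩ := ((hDp.map (MulAut.conj m⁻¹).toMonoidHom).comap_subtype (K := C)).exists_le_sylow
        have := card_le_of_inf_eq (K := (D.map (MulAut.conj m⁻¹).toMonoidHom).subgroupOf C) hR'
        rw [Nat.card_congr (Subgroup.subgroupOfEquivOfLe h2).toEquiv,
          Subgroup.card_map_of_injective (MulAut.conj m⁻¹).injective, Sylow.card_eq_multiplicity] at this
        rw [Sylow.card_eq_multiplicity]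
        exact this
      refine h3.trans (le_trans (le_of_eq ?_) (card_le_of_inf_eq h1))
      rw [hUdef, Subgroup.card_map_of_injective (MulAut.conj m).injective,
        Subgroup.card_map_of_injective C.subtype_injective]
    -- a nontrivial element of the kernel centralised by `y`
    obtain ⟨r0, hr0P, hr01, hr0F⟩ := hex
    obtain ⟨r, hrQ, hro, hrc⟩ := exists_central_mem P.isPGroup'
      (inf_le_left : (P : Subgroup G) ⊓ fixingSubgroup G F ≤ P)
      (fun g hg x hx => Subgroup.mem_inf.2 ⟨mul_mem (mul_mem hg (Subgroup.mem_inf.1 hx).1) (inv_mem hg),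
        conj_mem_pw_of_stab (hPF hg) (Subgroup.mem_inf.1 hx).2⟩)
      (fun h => hr01 (Subgroup.mem_bot.1 (h ▸ Subgroup.mem_inf.2 ⟨hr0P, hr0F⟩)))
    have hr1 : r ≠ 1 := fun h => by rw [h, orderOf_one] at hro; omega
    have hrfix : fixedBy Ω r = F := fix_eq_three H hFe (isPGroup_zpowers hro) hr1 (Subgroup.mem_inf.1 hrQ).2
    have hrT : r ∈ T := Subgroup.mem_inf.2
      ⟨(Subgroup.mem_inf.1 hrQ).1, Subgroup.mem_centralizer_singleton_iff.2 (hrc y hyP).symm⟩
    have hTC : T ≤ centralizer {y} := inf_le_right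
    refine max_of_le hTC (P.isPGroup'.to_le inf_le_left) fun D hD hTD hDC => ?_
    by_contra hgt
    have hlt : T < D := lt_of_le_of_ne hTD fun h => hgt (le_of_eq (by rw [h]))
    obtain ⟨g, hgD, hgT, hg⟩ := exists_normalizing hD hlt
    have hgM : g ∈ M := by
      have h1 := (hg r).1 hrT
      have h2 := hall _ (Subgroup.mem_inf.1 h1).1 (by simpa using hr1) (by rw [ncard_fixedBy_conj, hrfix, hFe])
      rw [fixedBy_conj', hrfix] at h2
      exact mem_stabilizer_iff.2 h2
    have hTM' : T ≤ M := inf_le_left.trans hPF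
    have hlt2 : T < D ⊓ M := lt_of_le_of_ne (le_inf hTD hTM') fun h =>
      hgT (h ▸ Subgroup.mem_inf.2 ⟨hgD, hgM⟩)
    have h4 := three_mul_card_le (hD.to_le inf_le_left) hlt2
    have h5 := hTM (D ⊓ M) (le_inf inf_le_right (inf_le_left.trans hDC)) (hD.to_le inf_le_left)
    have : 0 < Nat.card T := Nat.card_pos
    omega
  obtain ⟨m, hm, hxP, hxmax⟩ := hext x₀ hx₀M hx₀ hx₀c
  set x := m * x₀ * m⁻¹ with hxdef
  have hxo : orderOf x = 3 := by rw [hxdef, orderOf_conj', hx₀]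
  have hxM : x ∈ M := hPF hxP
  have hxc : (fixedBy Ω x).ncard + 3 = e := by rw [hxdef, ncard_fixedBy_conj, hx₀c]
  set T := (P : Subgroup G) ⊓ centralizer {x} with hTdef
  have hχx : χ ⟨x, hxM⟩ ≠ 1 := by
    refine hχ _ (fun h => ?_) (by show x ^ 3 ∈ _; rw [← hxo, pow_orderOf_eq_one]; exact one_mem _)
    have := fix_type_of_mem H hFe (isPGroup_zpowers hxo) (fun h => by rw [h, orderOf_one] at hxo; omega) h
    omega
  obtain ⟨r0, hr0P, hr01, hr0F⟩ := hex
  obtain ⟨r, hrQ, hro, hrc⟩ := exists_central_mem P.isPGroup'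
    (inf_le_left : (P : Subgroup G) ⊓ fixingSubgroup G F ≤ P)
    (fun g hg v hv => Subgroup.mem_inf.2 ⟨mul_mem (mul_mem hg (Subgroup.mem_inf.1 hv).1) (inv_mem hg),
      conj_mem_pw_of_stab (hPF hg) (Subgroup.mem_inf.1 hv).2⟩)
    (fun h => hr01 (Subgroup.mem_bot.1 (h ▸ Subgroup.mem_inf.2 ⟨hr0P, hr0F⟩)))
  have hr1 : r ≠ 1 := fun h => by rw [h, orderOf_one] at hro; omega
  have hrfix : fixedBy Ω r = F := fix_eq_three H hFe (isPGroup_zpowers hro) hr1 (Subgroup.mem_inf.1 hrQ).2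
  have hrT : r ∈ T := Subgroup.mem_inf.2
    ⟨(Subgroup.mem_inf.1 hrQ).1, Subgroup.mem_centralizer_singleton_iff.2 (hrc x hxP).symm⟩
  -- fixed cosets form one orbit of the centraliser
  have hkey : ∀ g : G, g⁻¹ * x * g ∈ M → ∃ c ∈ centralizer ({x} : Set G), ∃ μ ∈ M, g = c * μ := by
    intro g hgM
    set v := g⁻¹ * x * g with hvdef
    have hve : v = g⁻¹ * x * g⁻¹⁻¹ := by rw [hvdef, inv_inv]
    have hvo : orderOf v = 3 := by rw [hve, orderOf_conj', hxo]
    have hvc : (fixedBy Ω v).ncard + 3 = e := by rw [hve, ncard_fixedBy_conj, hxc]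
    obtain ⟨m', hm', hyP, hymax⟩ := hext v hgM hvo hvc
    set a := m' * g⁻¹ with hadef
    set y := m' * v * m'⁻¹ with hydef
    have hax : a * x * a⁻¹ = y := by rw [hadef, hydef, hvdef]; group
    set T' := (P : Subgroup G) ⊓ centralizer {y} with hT'def
    have hconjC : ∀ d, d * x = x * d → a * d * a⁻¹ * y = y * (a * d * a⁻¹) := by
      intro d hd
      calc a * d * a⁻¹ * y = a * (d * x) * a⁻¹ := by rw [← hax]; group
        _ = a * (x * d) * a⁻¹ := by rw [hd]
        _ = _ := by rw [← hax]; group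
    have hTp : IsPGroup 3 T := P.isPGroup'.to_le inf_le_left
    have hcardeq : Nat.card T' = Nat.card (T.map (MulAut.conj a).toMonoidHom) := by
      refine le_antisymm ?_ (hymax _ ?_ (hTp.map _))
      · rw [Subgroup.card_map_of_injective (MulAut.conj a).injective,
          ← Subgroup.card_map_of_injective (f := (MulAut.conj a⁻¹).toMonoidHom) (MulAut.conj a⁻¹).injective]
        refine hxmax _ ?_ ((P.isPGroup'.to_le inf_le_left).map _)
        rintro _ ⟨d, hd, rfl⟩
        have e := Subgroup.mem_centralizer_singleton_iff.1 (Subgroup.mem_inf.1 hd).2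
        rw [Subgroup.mem_centralizer_singleton_iff]
        show a⁻¹ * d * a⁻¹⁻¹ * x = x * (a⁻¹ * d * a⁻¹⁻¹)
        calc a⁻¹ * d * a⁻¹⁻¹ * x = a⁻¹ * (d * (a * x * a⁻¹)) * a := by group
          _ = a⁻¹ * ((a * x * a⁻¹) * d) * a := by rw [hax, e]
          _ = _ := by group
      · rintro _ ⟨d, hd, rfl⟩
        exact Subgroup.mem_centralizer_singleton_iff.2
          (hconjC d (Subgroup.mem_centralizer_singleton_iff.1 (Subgroup.mem_inf.1 hd).2))
    obtain ⟨c', hc', hconj⟩ := conj_of_max (p := 3) (H := centralizer {y})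
      (U := T.map (MulAut.conj a).toMonoidHom) (U' := T')
      (by
        rintro _ ⟨d, hd, rfl⟩
        exact Subgroup.mem_centralizer_singleton_iff.2
          (hconjC d (Subgroup.mem_centralizer_singleton_iff.1 (Subgroup.mem_inf.1 hd).2)))
      inf_le_right (hTp.map _) (P.isPGroup'.to_le inf_le_left)
      (fun D hD hDp => hcardeq ▸ hymax D hD hDp) hcardeq
    have hμ : c' * a ∈ M := by
      have h1 : c' * (a * r * a⁻¹) * c'⁻¹ ∈ T' := (hconj _).1 ⟨r, hrT, rfl⟩
      rw [show c' * (a * r * a⁻¹) * c'⁻¹ = (c' * a) * r * (c' * a)⁻¹ by group] at h1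
      have h2 := hall _ (Subgroup.mem_inf.1 h1).1 (by rw [Ne, conj_eq_one_iff]; exact hr1)
        (by rw [ncard_fixedBy_conj, hrfix, hFe])
      rw [fixedBy_conj', hrfix] at h2
      exact mem_stabilizer_iff.2 h2
    refine ⟨a⁻¹ * c' * a, ?_, (c' * a)⁻¹ * m', mul_mem (inv_mem hμ) hm', ?_⟩
    · rw [Subgroup.mem_centralizer_singleton_iff]
      have e := Subgroup.mem_centralizer_singleton_iff.1 hc'
      calc a⁻¹ * c' * a * x = a⁻¹ * (c' * (a * x * a⁻¹)) * a := by group
        _ = a⁻¹ * ((a * x * a⁻¹) * c') * a := by rw [hax, e]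
        _ = _ := by group
    · rw [hadef]; group
  haveI : Fintype (G ⧸ M) := Fintype.ofFinite _
  have hτ : MonoidHom.transfer χ x = 1 := hom_trivial hna _ x
  rw [H59.transfer_eq_prod_fixTerm χ x (fun g n h hn hn1 => by
    rw [hxo] at hn
    rcases (Nat.dvd_prime Nat.prime_three).1 hn with rfl | rfl
    · omega
    · have e1 : (⟨g⁻¹ * x ^ 3 * g, h⟩ : M) = 1 := Subtype.ext (by simp [← hxo, pow_orderOf_eq_one])
      rw [e1, map_one])] at hτ
  set q₀ : G ⧸ M := QuotientGroup.mk 1 with hq₀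
  set Fx := Finset.univ.filter (fun q : G ⧸ M => q.out⁻¹ * x * q.out ∈ M) with hFxdef
  have hval : ∀ q ∈ Fx, H59.fixTerm χ x q.out = χ ⟨x, hxM⟩ ∧
      q ∈ MulAction.orbit (centralizer ({x} : Set G)) q₀ := by
    intro q hq
    have hq' := (Finset.mem_filter.1 hq).2
    obtain ⟨c, hc, μ, hμ, hgc⟩ := hkey q.out hq'
    have e1 := Subgroup.mem_centralizer_singleton_iff.1 hc
    refine ⟨?_, ⟨⟨c, hc⟩, ?_⟩⟩
    · rw [hgc, H59.fixTerm, dif_pos (hgc ▸ hq')]
      have e2 : (⟨(c * μ)⁻¹ * x * (c * μ), hgc ▸ hq'⟩ : M) = ⟨μ, hμ⟩⁻¹ * ⟨x, hxM⟩ * ⟨μ, hμ⟩ := by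
        apply Subtype.ext
        show (c * μ)⁻¹ * x * (c * μ) = μ⁻¹ * x * μ
        calc (c * μ)⁻¹ * x * (c * μ) = μ⁻¹ * (c⁻¹ * (x * c)) * μ := by group
          _ = μ⁻¹ * (c⁻¹ * (c * x)) * μ := by rw [e1]
          _ = _ := by group
      rw [e2, map_mul, map_mul, map_inv, mul_right_comm, inv_mul_cancel, one_mul]
    · show c • q₀ = q
      rw [hq₀, MulAction.Quotient.smul_mk, smul_eq_mul, mul_one]
      conv_rhs => rw [← QuotientGroup.out_eq' q]
      rw [QuotientGroup.eq, hgc, inv_mul_cancel_left]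
      exact hμ
  have hFxcard : ¬ 3 ∣ Fx.card := by
    have hset : (Fx : Set (G ⧸ M)) = MulAction.orbit (centralizer ({x} : Set G)) q₀ := by
      ext q
      refine ⟨fun hq => (hval q (Finset.mem_coe.1 hq)).2, ?_⟩
      rintro ⟨⟨c, hc⟩, rfl⟩
      refine Finset.mem_coe.2 (Finset.mem_filter.2 ⟨Finset.mem_univ _, ?_⟩)
      have e1 := Subgroup.mem_centralizer_singleton_iff.1 hc
      show (c • q₀).out⁻¹ * x * (c • q₀).out ∈ M
      rw [hq₀, MulAction.Quotient.smul_mk, smul_eq_mul, mul_one]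
      obtain ⟨p, hp⟩ := QuotientGroup.mk_out_eq_mul M c
      rw [hp, show (c * p)⁻¹ * x * (c * (p : G)) = (p : G)⁻¹ * (c⁻¹ * (x * c)) * p by group, ← e1,
        inv_mul_cancel_left]
      exact mul_mem (mul_mem (inv_mem p.2) hxM) p.2
    rw [← Set.ncard_coe_finset, hset, ← MulAction.index_stabilizer]
    have hTC : T ≤ centralizer {x} := inf_le_right
    intro hd
    apply not_dvd_relIndex_of_max hTC (P.isPGroup'.to_le inf_le_left) hxmax
    refine dvd_trans hd (Subgroup.index_dvd_of_le ?_)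
    intro t ht
    rw [MulAction.mem_stabilizer_iff]
    show (t : G) • q₀ = q₀
    rw [hq₀, MulAction.Quotient.smul_mk, smul_eq_mul, mul_one, QuotientGroup.eq, mul_one]
    exact inv_mem (hPF (Subgroup.mem_inf.1 ht).1)
  rw [← Finset.prod_subset (Finset.subset_univ Fx) (fun q _ hq => by
      rw [H59.fixTerm, dif_neg]
      intro h; exact hq (Finset.mem_filter.2 ⟨Finset.mem_univ _, h⟩)),
    Finset.prod_congr rfl (g := fun _ => χ ⟨x, hxM⟩) (fun q hq => (hval q hq).1), Finset.prod_const] at hτ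
  apply hχx
  have h3 : χ ⟨x, hxM⟩ ^ 3 = 1 := by
    rw [← map_pow, show (⟨x, hxM⟩ : M) ^ 3 = 1 from Subtype.ext (by
      rw [Subgroup.coe_pow, OneMemClass.coe_one, ← hxo, pow_orderOf_eq_one]), map_one]
  have hd := Nat.dvd_gcd (orderOf_dvd_of_pow_eq_one h3) (orderOf_dvd_of_pow_eq_one hτ)
  rw [(Nat.prime_three.coprime_iff_not_dvd.2 hFxcard), Nat.dvd_one, orderOf_eq_one_iff] at hd
  exact hd

end Cfsg.Agent.H19.Fixity
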