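import Cfsg.Agent.H19.Fixity.OddNonreal
import Cfsg.Agent.H19.Fixity.OddControl
import Cfsg.Agent.H19.Fixity.OddSingle

/-!
# Point stabilisers of odd order divisible by three
-/

set_option autoImplicit false
set_option linter.unusedSectionVars false
set_option linter.style.haveILetI false
set_option linter.unusedVariables false

namespace Cfsg.Agent.H19.Fixity

open MulAction Subgroup
open scoped Pointwise

variable {G Ω : Type*} [Group G] [MulAction G Ω] [Finite G] [Finite Ω]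

theorem fix_count_mod {x : G} (hx : IsPGroup 3 (zpowers x)) :
    Nat.card Ω % 3 = (fixedBy Ω x).ncard % 3 := by
  haveI : Fact (Nat.Prime 3) := ⟨Nat.prime_three⟩
  have h := hx.card_modEq_card_fixedPoints Ω
  have e : MulAction.fixedPoints (zpowers x) Ω = fixedBy Ω x := by
    ext a
    rw [MulAction.mem_fixedPoints]
    refine ⟨fun h' => h' ⟨x, mem_zpowers x⟩, fun h' ⟨y, hy⟩ => ?_⟩
    obtain ⟨i, rfl⟩ := mem_zpowers_iff.1 hy
    exact mem_fixedBy_zpow h' i
  rw [e, Nat.card_coe_set_eq] at h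
  exact h

/-- All 3-elements fix the same one or two points. -/
theorem small_count [IsPretransitive G Ω] [FaithfulSMul G Ω] {k : ℕ} (hk1 : 1 ≤ k) (hk2 : k ≤ 2)
    (hall : ∀ x : G, IsPGroup 3 (zpowers x) → x ≠ 1 → (fixedBy Ω x).ncard = k) (h3 : 3 ∣ Nat.card G)
    (P : Sylow 3 G) :
    ∃ H : Subgroup G, H ≠ ⊤ ∧ 3 ∣ Nat.card H ∧ ∀ g : G, g ∉ H →
      ¬ 3 ∣ Nat.card ↥(H ⊓ H.map (MulAut.conj g).toMonoidHom) := by
  haveI : Fact (Nat.Prime 3) := ⟨Nat.prime_three⟩
  obtain ⟨z, hzP, hzo, hzc⟩ := exists_central P h3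
  have hz1 : z ≠ 1 := fun h => by rw [h, orderOf_one] at hzo; omega
  set F := fixedBy Ω z with hFdef
  have hF : F.ncard = k := hall z (isPGroup_zpowers hzo) hz1
  have hPF : (P : Subgroup G) ≤ stabilizer G F := fun x hx => mem_stab_of_commute (hzc x hx)
  have hP : ∀ x ∈ (P : Subgroup G), x ≠ 1 → (fixedBy Ω x).ncard = k → fixedBy Ω x = F := by
    intro x hx hx1 hxk
    obtain ⟨i, hi, hid⟩ := card_eq_kernel_mul (p := 3) (Set.toFinite F)
      (isPGroup_zpowers_of_mem P.isPGroup' hx) (zpowers_le.2 (hPF hx))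
    have hi0 : i = 0 := by
      by_contra h
      have h3' : 3 ∣ F.ncard.factorial := (dvd_pow_self 3 h).trans hid
      rw [hF] at h3'
      interval_cases k <;> norm_num [Nat.factorial] at h3'
    rw [hi0, pow_zero, mul_one] at hi
    have heq : zpowers x ⊓ fixingSubgroup G F = zpowers x :=
      Subgroup.eq_of_le_of_card_ge inf_le_left hi.le
    have hxF : x ∈ fixingSubgroup G F := (Subgroup.mem_inf.1 (heq.ge (mem_zpowers x))).2
    exact (Set.eq_of_subset_of_ncard_le (mem_pw_iff.1 hxF) (by rw [hF, hxk]) (Set.toFinite _)).symm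
  have hdiv : 3 ∣ Nat.card (stabilizer G F) := hzo ▸ Subgroup.orderOf_dvd_natCard _ (hPF hzP)
  obtain ⟨h1, h2⟩ := strong_of_fix (F := F) (Set.nonempty_of_ncard_ne_zero (by omega)) hdiv
    (fun x hx hxo => by
      have hx1 : x ≠ 1 := fun h => by rw [h, orderOf_one] at hxo; omega
      exact fix_eq_of_sylow P hPF k hP hx (isPGroup_zpowers hxo) hx1 (hall x (isPGroup_zpowers hxo) hx1))
  exact ⟨_, h1, hdiv, h2⟩

/-- The case of a fixed set with `e` points. -/
theorem large_count [IsSimpleGroup G] (hna : ¬ IsMulCommutative G) [IsPretransitive G Ω] [FaithfulSMul G Ω]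
    {e : ℕ} (H : ThreeSetting G Ω e)
    (hex : ∃ x : G, IsPGroup 3 (zpowers x) ∧ x ≠ 1 ∧ (fixedBy Ω x).ncard = e) (P : Sylow 3 G) :
    (∃ K : Subgroup G, K ≠ ⊤ ∧ 3 ∣ Nat.card K ∧ ∀ g : G, g ∉ K →
      ¬ 3 ∣ Nat.card ↥(K ⊓ K.map (MulAut.conj g).toMonoidHom)) ∨
      (Nat.card P = 9 ∧ ∀ x ∈ (P : Subgroup G), x ^ 3 = 1) := by
  classical
  haveI : Fact (Nat.Prime 3) := ⟨Nat.prime_three⟩
  obtain ⟨x₁, hx₁p, hx₁1, hx₁c⟩ := hex
  obtain ⟨R, hR⟩ := hx₁p.exists_le_sylow
  obtain ⟨c, hc⟩ := MulAction.exists_smul_eq G R P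
  have hxP : c * x₁ * c⁻¹ ∈ (P : Subgroup G) := by
    rw [← hc]
    exact Subgroup.smul_mem_pointwise_smul _ (MulAut.conj c) _ (hR (mem_zpowers x₁))
  set x := c * x₁ * c⁻¹
  have hx1 : x ≠ 1 := by rw [Ne, conj_eq_one_iff]; exact hx₁1
  have hxc : (fixedBy Ω x).ncard = e := by rw [ncard_fixedBy_conj, hx₁c]
  set F := fixedBy Ω x with hFdef
  by_cases hshare : ∀ v ∈ (P : Subgroup G), v ≠ 1 → (fixedBy Ω v).ncard = e → fixedBy Ω v = F
  · left
    have hPF : (P : Subgroup G) ≤ stabilizer G F := fun g hg => by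
      have h := hshare _ (mul_mem (mul_mem hg hxP) (inv_mem hg)) (by rw [Ne, conj_eq_one_iff]; exact hx1)
        (by rw [ncard_fixedBy_conj, hxc])
      rw [fixedBy_conj'] at h
      exact mem_stabilizer_iff.2 h
    by_cases hM : ∀ v ∈ stabilizer G F, orderOf v = 3 → fixedBy Ω v = F
    · have hdiv : 3 ∣ Nat.card (stabilizer G F) := by
        obtain ⟨i, hi⟩ := (IsPGroup.iff_card (p := 3)).1 P.isPGroup'
        have hi0 : i ≠ 0 := fun h => hx1 (by
          have : (P : Subgroup G) = ⊥ := Subgroup.card_eq_one.1 (by rw [hi, h, pow_zero])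
          rw [this] at hxP; exact Subgroup.mem_bot.1 hxP)
        exact ((dvd_pow_self 3 hi0).trans (dvd_of_eq hi.symm)).trans (Subgroup.card_dvd_of_le hPF)
      obtain ⟨h1, h2⟩ := strong_of_fix (F := F)
        (Set.nonempty_of_ncard_ne_zero (by rw [hxc]; rcases H.he with h | h <;> omega)) hdiv hM
      exact ⟨_, h1, hdiv, h2⟩
    · push Not at hM
      obtain ⟨v, hv, hvo, hvF⟩ := hM
      exact (single_case H hna P hxc hPF ⟨x, hxP, hx1, self_mem_pw x⟩ hshare hv hvo hvF).elim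
  push Not at hshare
  obtain ⟨x', hx'P, hx'1, hx'c, hx'F⟩ := hshare
  by_cases hinv : ∀ v ∈ (P : Subgroup G), v ≠ 1 → (fixedBy Ω v).ncard = e →
      (P : Subgroup G) ≤ stabilizer G (fixedBy Ω v)
  · right
    have hPF := hinv x hxP hx1 hxc
    have hPF' := hinv x' hx'P hx'1 hx'c
    have hne : F ≠ fixedBy Ω x' := Ne.symm hx'F
    have hnot : ¬ (P : Subgroup G) ≤ fixingSubgroup G F := fun h =>
      hx'F (fix_eq_three H hxc (isPGroup_zpowers_of_mem P.isPGroup' hx'P) hx'1 (h hx'P))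
    obtain ⟨hT, -⟩ := stab_card H P.isPGroup' hxP hx1 hxc hnot
    rw [inf_eq_left.2 hPF] at hT
    set Q := (P : Subgroup G) ⊓ fixingSubgroup G F with hQdef
    set Q' := (P : Subgroup G) ⊓ fixingSubgroup G (fixedBy Ω x') with hQ'def
    have hbot : Q ⊓ Q' = ⊥ := by
      rw [eq_bot_iff, ← inf_pw_eq_bot H P.isPGroup' hxc hx'c hne]
      exact le_inf inf_le_left (inf_le_right.trans inf_le_right)
    have h1 := card_le_mul_inf (H := Q) (K := Q') (L := (P : Subgroup G)) inf_le_left inf_le_left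
    rw [hbot, Subgroup.card_bot, one_mul] at h1
    have h2 : Nat.card (P : Subgroup G) ≤ 3 * Nat.card Q' := index_kernel_le H P.isPGroup' hx'c hPF'
    have hQ'pos : 0 < Nat.card Q' := Nat.card_pos
    have hQ3 : Nat.card Q ≤ 3 := Nat.le_of_mul_le_mul_right (h1.trans h2) hQ'pos
    have hQ1 : 1 < Nat.card Q := by
      by_contra h
      have : Q = ⊥ := Subgroup.card_eq_one.1 (by have := Nat.card_pos (α := Q); omega)
      have hxQ : x ∈ Q := Subgroup.mem_inf.2 ⟨hxP, self_mem_pw x⟩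
      rw [this, Subgroup.mem_bot] at hxQ
      exact hx1 hxQ
    refine ⟨?_, fun v hv => ?_⟩
    · obtain ⟨i, hi⟩ := (IsPGroup.iff_card (p := 3)).1 P.isPGroup'
      rw [hi] at hT
      show Nat.card (P : Subgroup G) = 9
      have h9 : i = 2 := by
        have h3i : 3 ^ i = 3 * Nat.card Q := hT
        rcases (show i ≤ 1 ∨ i = 2 ∨ 3 ≤ i by omega) with h | h | h
        · have := Nat.pow_le_pow_right (show 1 ≤ 3 by norm_num) h
          omega
        · exact h
        · have := Nat.pow_le_pow_right (show 1 ≤ 3 by norm_num) h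
          omega
      rw [hi, h9]
      rfl
    · exact eq_one_of_pw_three H hxc hx'c hne (isPGroup_zpowers_of_mem P.isPGroup' (pow_mem hv 3))
        (cube_mem_pw H P.isPGroup' hxc hPF hv) (cube_mem_pw H P.isPGroup' hx'c hPF' hv)
  · exfalso
    push Not at hinv
    obtain ⟨y, hyP, hy1, hyc, hmove⟩ := hinv
    obtain ⟨hQ, hE, hE3, hCE, h27⟩ := moved_data H P.isPGroup' hyP hy1 hyc hmove
    set E := (P : Subgroup G) ⊓ stabilizer G (fixedBy Ω y) with hEdef
    have hyE : y ∈ E := Subgroup.mem_inf.2 ⟨hyP, self_mem_stab y⟩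
    have hEC : E ≤ centralizer {y} := fun a ha => Subgroup.mem_centralizer_singleton_iff.2
      (comm_of_card_sq (p := 3) (by rw [hE]; norm_num) ha hyE)
    have hnc : ¬ IsCyclic E := by
      intro hcyc
      obtain ⟨g, hg⟩ := hcyc.exists_generator
      have h9 : orderOf g = 9 := by rw [orderOf_eq_card_of_forall_mem_zpowers hg, hE]
      have h3 : g ^ 3 = 1 := Subtype.ext (hE3 g g.2)
      have := orderOf_dvd_of_pow_eq_one h3
      rw [h9] at this
      norm_num at this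
    exact control_false hna P (hE3 y hyE) hE inf_le_left hyE hEC hnc h27
      (max_of_le hEC (P.isPGroup'.to_le inf_le_left)
        (fun D hD hED hDy => centralizer_bound H P hyP hy1 hyc hmove hD hED hDy))
      (not_real H P hyP hy1 hyc hmove)

/-- Odd point stabilisers of order divisible by three. -/
theorem odd_three [IsSimpleGroup G] (hna : ¬ IsMulCommutative G) [IsPretransitive G Ω] [FaithfulSMul G Ω]
    (hb : ∀ g : G, g ≠ 1 → (fixedBy Ω g).ncard ≤ 4)
    (hodd : ∀ (g : G) (a : Ω), g • a = a → Odd (orderOf g)) (P : Sylow 3 G) (a : Ω)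
    (h3 : 3 ∣ Nat.card (stabilizer G a)) :
    (∃ K : Subgroup G, K ≠ ⊤ ∧ 3 ∣ Nat.card K ∧ ∀ g : G, g ∉ K →
      ¬ 3 ∣ Nat.card ↥(K ⊓ K.map (MulAut.conj g).toMonoidHom)) ∨
      (Nat.card P = 9 ∧ ∀ x ∈ (P : Subgroup G), x ^ 3 = 1) := by
  haveI : Fact (Nat.Prime 3) := ⟨Nat.prime_three⟩
  obtain ⟨⟨x₀, hx₀a⟩, hx₀o⟩ := exists_prime_orderOf_dvd_card' (G := stabilizer G a) 3 h3
  rw [← orderOf_coe] at hx₀o
  simp only at hx₀o
  have hx₀1 : x₀ ≠ 1 := fun h => by rw [h, orderOf_one] at hx₀o; omega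
  have hx₀p := isPGroup_zpowers hx₀o
  have hx₀pos : 0 < (fixedBy Ω x₀).ncard :=
    (Set.ncard_pos (Set.toFinite _)).2 ⟨a, mem_stabilizer_iff.1 hx₀a⟩
  have h3G : 3 ∣ Nat.card G := hx₀o ▸ orderOf_dvd_natCard x₀
  by_cases h4 : ∃ x : G, IsPGroup 3 (zpowers x) ∧ x ≠ 1 ∧ 3 ≤ (fixedBy Ω x).ncard
  · obtain ⟨x, hxp, hx1, hx3⟩ := h4
    have hx4 := hb x hx1
    have hmod := fix_count_mod (Ω := Ω) hxp
    refine large_count hna ⟨(show (fixedBy Ω x).ncard = 3 ∨ (fixedBy Ω x).ncard = 4 by omega), hodd,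
      fun y hyp hy1 => ?_⟩ ⟨x, hxp, hx1, rfl⟩ P
    have := fix_count_mod (Ω := Ω) hyp
    have := hb y hy1
    omega
  · push Not at h4
    left
    refine small_count (Ω := Ω) (k := Nat.card Ω % 3) ?_ ?_ (fun x hxp hx1 => ?_) h3G P
    · have := h4 x₀ hx₀p hx₀1
      have := fix_count_mod (Ω := Ω) hx₀p
      omega
    · omega
    · have := h4 x hxp hx1
      have := fix_count_mod (Ω := Ω) hxp
      omega

end Cfsg.Agent.H19.Fixity
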