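import Cfsg.Agent.H19.Fixity.OddBasic
import Cfsg.Agent.H19.Fixity.TwoTools

/-!
# Point stabilisers of odd order: kernels on fixed sets inside 3-subgroups
-/

set_option autoImplicit false
set_option linter.unusedSectionVars false
set_option linter.style.haveILetI false

namespace Cfsg.Agent.H19.Fixity

open MulAction Subgroup
open scoped Pointwise

/-- The setting for the prime three: a fixed set of a nontrivial 3-element has `e` or `e - 3` points. -/
structure ThreeSetting (G Ω : Type*) [Group G] [MulAction G Ω] (e : ℕ) : Prop where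
  he : e = 3 ∨ e = 4
  odd : ∀ (g : G) (a : Ω), g • a = a → Odd (orderOf g)
  counts : ∀ x : G, IsPGroup 3 (zpowers x) → x ≠ 1 →
    (fixedBy Ω x).ncard = e ∨ (fixedBy Ω x).ncard + 3 = e

variable {G Ω : Type*} [Group G] [MulAction G Ω] [Finite G] [Finite Ω] {e : ℕ}
  (H : ThreeSetting G Ω e)
include H

theorem fix_eq_three {F : Set Ω} (hF : F.ncard = e) {x : G} (hx : IsPGroup 3 (zpowers x)) (hx1 : x ≠ 1)
    (hxF : x ∈ fixingSubgroup G F) : fixedBy Ω x = F := by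
  have h1 := mem_pw_iff.1 hxF
  have h2 : F.ncard ≤ (fixedBy Ω x).ncard := Set.ncard_le_ncard h1 (Set.toFinite _)
  refine (Set.eq_of_subset_of_ncard_le h1 ?_ (Set.toFinite _)).symm
  rcases H.counts x hx hx1 with h | h <;> omega

theorem fix_type_of_mem {F : Set Ω} (hF : F.ncard = e) {x : G} (hx : IsPGroup 3 (zpowers x)) (hx1 : x ≠ 1)
    (hxF : x ∈ fixingSubgroup G F) : (fixedBy Ω x).ncard = e := by
  rw [fix_eq_three H hF hx hx1 hxF, hF]

theorem eq_one_of_pw_three {F F' : Set Ω} (hF : F.ncard = e) (hF' : F'.ncard = e) (hne : F ≠ F') {x : G}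
    (hx : IsPGroup 3 (zpowers x)) (h : x ∈ fixingSubgroup G F) (h' : x ∈ fixingSubgroup G F') : x = 1 :=
  by_contra fun hx1 => hne ((fix_eq_three H hF hx hx1 h).symm.trans (fix_eq_three H hF' hx hx1 h'))

theorem inf_pw_eq_bot {P : Subgroup G} (hP : IsPGroup 3 P) {F F' : Set Ω} (hF : F.ncard = e)
    (hF' : F'.ncard = e) (hne : F ≠ F') :
    P ⊓ fixingSubgroup G F ⊓ fixingSubgroup G F' = ⊥ := by
  rw [eq_bot_iff]
  intro x hx
  obtain ⟨hx1, hx2⟩ := Subgroup.mem_inf.1 hx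
  exact Subgroup.mem_bot.2 (eq_one_of_pw_three H hF hF' hne
    (isPGroup_zpowers_of_mem hP (Subgroup.mem_inf.1 hx1).1) (Subgroup.mem_inf.1 hx1).2 hx2)

theorem index_kernel_le {P : Subgroup G} (hP : IsPGroup 3 P) {F : Set Ω} (hF : F.ncard = e)
    (hPF : P ≤ stabilizer G F) : Nat.card P ≤ 3 * Nat.card ↥(P ⊓ fixingSubgroup G F) := by
  haveI : Fact (Nat.Prime 3) := ⟨Nat.prime_three⟩
  obtain ⟨i, hi, hid⟩ := card_eq_kernel_mul (p := 3) (Set.toFinite F) hP hPF
  have : i ≤ 1 := by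
    by_contra h
    have h9 : 3 ^ 2 ∣ F.ncard.factorial := (pow_dvd_pow 3 (by omega)).trans hid
    rw [hF] at h9
    rcases H.he with rfl | rfl <;> norm_num [Nat.factorial] at h9
  rw [hi, mul_comm 3]
  exact Nat.mul_le_mul_left _ (le_trans (Nat.pow_le_pow_right (by norm_num) this) (le_of_eq (pow_one 3)))

theorem cube_mem_pw {P : Subgroup G} (hP : IsPGroup 3 P) {F : Set Ω} (hF : F.ncard = e)
    (hPF : P ≤ stabilizer G F) {x : G} (hx : x ∈ P) : x ^ 3 ∈ fixingSubgroup G F := by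
  haveI : Fact (Nat.Prime 3) := ⟨Nat.prime_three⟩
  obtain ⟨i, hi⟩ := hP ⟨x, hx⟩
  have h1 : img F ⟨x, hPF hx⟩ ^ 3 ^ i = 1 := by
    rw [← map_pow, show (⟨x, hPF hx⟩ : stabilizer G F) ^ 3 ^ i = 1 from Subtype.ext (by
      simpa using congrArg Subtype.val hi), map_one]
  obtain ⟨j, -, hj⟩ := (Nat.dvd_prime_pow Nat.prime_three).1 (orderOf_dvd_of_pow_eq_one h1)
  have hdvd : orderOf (img F ⟨x, hPF hx⟩) ∣ F.ncard.factorial := by
    rw [← Nat.card_coe_set_eq, ← Nat.card_perm]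
    exact orderOf_dvd_natCard _
  have hj1 : j ≤ 1 := by
    by_contra h
    have h9 : 3 ^ 2 ∣ F.ncard.factorial := (pow_dvd_pow 3 (by omega)).trans (hj ▸ hdvd)
    rw [hF] at h9
    rcases H.he with rfl | rfl <;> norm_num [Nat.factorial] at h9
  have h2 : img F ⟨x, hPF hx⟩ ^ 3 = 1 := orderOf_dvd_iff_pow_eq_one.1
    (hj ▸ (pow_dvd_pow 3 hj1).trans (dvd_of_eq (pow_one 3)))
  rw [← map_pow, img_eq_one_iff] at h2
  exact h2

/-- The stabiliser of the fixed set in a 3-group exceeds the kernel by the factor three. -/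
theorem stab_card {P : Subgroup G} (hP : IsPGroup 3 P) {x : G} (hx : x ∈ P) (hx1 : x ≠ 1)
    (hc : (fixedBy Ω x).ncard = e) (hnot : ¬ P ≤ fixingSubgroup G (fixedBy Ω x)) :
    Nat.card ↥(P ⊓ stabilizer G (fixedBy Ω x)) = 3 * Nat.card ↥(P ⊓ fixingSubgroup G (fixedBy Ω x)) ∧
      ∃ z ∈ P ⊓ stabilizer G (fixedBy Ω x), z ∉ fixingSubgroup G (fixedBy Ω x) := by
  haveI : Fact (Nat.Prime 3) := ⟨Nat.prime_three⟩
  set F := fixedBy Ω x
  set Q := P ⊓ fixingSubgroup G F with hQdef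
  set T := P ⊓ stabilizer G F with hTdef
  have hQT : Q ≤ T := inf_le_inf_left P (pw_le_stab F)
  have hQP : Q < P := lt_of_le_of_ne inf_le_left fun h => hnot (h ▸ inf_le_right)
  obtain ⟨g, hgP, hgQ, hg⟩ := exists_normalizing hP hQP
  have hgT : g ∈ T := by
    refine Subgroup.mem_inf.2 ⟨hgP, mem_stabilizer_iff.2 ?_⟩
    have h1 := (hg x).1 (Subgroup.mem_inf.2 ⟨hx, self_mem_pw x⟩)
    have h2 := fix_eq_three H hc (isPGroup_zpowers_of_mem hP (Subgroup.mem_inf.1 h1).1)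
      (by simpa using hx1) (Subgroup.mem_inf.1 h1).2
    rwa [fixedBy_conj'] at h2
  have hlt : Q < T := lt_of_le_of_ne hQT fun h => hgQ (h ▸ hgT)
  have hTker : T ⊓ fixingSubgroup G F = Q := by
    ext y
    simp only [hTdef, hQdef, Subgroup.mem_inf]
    exact ⟨fun h => ⟨h.1.1, h.2⟩, fun h => ⟨⟨h.1, pw_le_stab F h.2⟩, h.2⟩⟩
  refine ⟨?_, g, hgT, fun h => hgQ (Subgroup.mem_inf.2 ⟨hgP, h⟩)⟩
  have h1 := index_kernel_le H (hP.to_le inf_le_left) hc (inf_le_right : T ≤ stabilizer G F)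
  rw [hTker] at h1
  exact le_antisymm h1 (three_mul_card_le (hP.to_le inf_le_left) hlt)

/-- Data of a kernel whose set is moved. -/
theorem moved_data {P : Subgroup G} (hP : IsPGroup 3 P) {x : G} (hx : x ∈ P) (hx1 : x ≠ 1)
    (hc : (fixedBy Ω x).ncard = e) (hmove : ¬ P ≤ stabilizer G (fixedBy Ω x)) :
    Nat.card ↥(P ⊓ fixingSubgroup G (fixedBy Ω x)) = 3 ∧
      Nat.card ↥(P ⊓ stabilizer G (fixedBy Ω x)) = 9 ∧
      (∀ a ∈ P ⊓ stabilizer G (fixedBy Ω x), a ^ 3 = 1) ∧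
      P ⊓ centralizer {x} = P ⊓ stabilizer G (fixedBy Ω x) ∧
      27 ≤ Nat.card P := by
  haveI : Fact (Nat.Prime 3) := ⟨Nat.prime_three⟩
  obtain ⟨hT, -⟩ := stab_card H hP hx hx1 hc (fun h => hmove (h.trans (pw_le_stab _)))
  set F := fixedBy Ω x with hFdef
  set Q := P ⊓ fixingSubgroup G F with hQdef
  set T := P ⊓ stabilizer G F with hTdef
  have hQT : Q ≤ T := inf_le_inf_left P (pw_le_stab F)
  have hTP : T < P := lt_of_le_of_ne inf_le_left fun h => hmove (h ▸ inf_le_right)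
  obtain ⟨g, hgP, hgT, hg⟩ := exists_normalizing hP hTP
  have hgF : g • F ≠ F := fun h => hgT (Subgroup.mem_inf.2 ⟨hgP, mem_stabilizer_iff.2 h⟩)
  have hgc : (g • F).ncard = e := by rw [Set.ncard_smul_set, hc]
  have hgF' : T ≤ stabilizer G (g • F) := by
    intro a ha
    have h1 : g⁻¹ * a * g ∈ T := (hg _).2 (by simpa [mul_assoc] using ha)
    rw [mem_stabilizer_iff]
    calc a • g • F = g • ((g⁻¹ * a * g) • F) := by rw [← mul_smul, ← mul_smul]; group
      _ = g • F := by rw [mem_stabilizer_iff.1 (Subgroup.mem_inf.1 h1).2]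
  set Q' := T ⊓ fixingSubgroup G (g • F)
  have hQ'card : Nat.card Q ≤ Nat.card Q' := by
    refine Nat.card_le_card_of_injective (fun q : Q => (⟨g * q * g⁻¹, Subgroup.mem_inf.2
      ⟨(hg _).1 (hQT q.2), conj_mem_pw.2 (Subgroup.mem_inf.1 q.2).2⟩⟩ : Q')) ?_
    intro a b h
    exact Subtype.ext (mul_left_cancel (mul_right_cancel (congrArg Subtype.val h)))
  have hbot : Q ⊓ Q' = ⊥ := by
    rw [eq_bot_iff, ← inf_pw_eq_bot H hP hc hgc (Ne.symm hgF)]
    exact le_inf inf_le_left (inf_le_right.trans inf_le_right)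
  have h1 := card_le_mul_inf (H := Q) (K := Q') (L := T) inf_le_left hQT
  rw [hbot, Subgroup.card_bot, one_mul, hT] at h1
  have hQ3 : Nat.card Q ≤ 3 := Nat.le_of_mul_le_mul_left
    (le_trans (Nat.mul_le_mul_left _ hQ'card) (h1.trans (le_of_eq (mul_comm 3 _)))) Nat.card_pos
  have hQgt : 1 < Nat.card Q := by
    rcases (Nat.one_le_iff_ne_zero.2 (Nat.card_pos (α := Q)).ne').lt_or_eq with h | h
    · exact h
    · have := Subgroup.card_eq_one.1 h.symm
      have hxQ : x ∈ Q := Subgroup.mem_inf.2 ⟨hx, self_mem_pw x⟩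
      rw [this, Subgroup.mem_bot] at hxQ
      exact absurd hxQ hx1
  have hQ : Nat.card Q = 3 := by
    obtain ⟨i, hi⟩ := (IsPGroup.iff_card (p := 3)).1 (hP.to_le (inf_le_left : Q ≤ P))
    rw [hi] at hQ3 hQgt ⊢
    rcases (show i = 0 ∨ i = 1 ∨ 2 ≤ i by omega) with rfl | rfl | h
    · simp at hQgt
    · rfl
    · have := Nat.pow_le_pow_right (show 1 ≤ 3 by norm_num) h
      omega
  rw [hQ] at hT
  refine ⟨hQ, hT, fun a ha => ?_, ?_, ?_⟩
  · have e1 := cube_mem_pw H (hP.to_le inf_le_left) hc (inf_le_right : T ≤ stabilizer G F) ha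
    have e2 := cube_mem_pw H (hP.to_le inf_le_left) hgc hgF' ha
    exact eq_one_of_pw_three H hc hgc (Ne.symm hgF)
      (isPGroup_zpowers_of_mem hP (pow_mem (Subgroup.mem_inf.1 ha).1 3)) e1 e2
  · ext a
    rw [hTdef, Subgroup.mem_inf, Subgroup.mem_inf, Subgroup.mem_centralizer_singleton_iff]
    refine ⟨fun h => ⟨h.1, mem_stab_of_commute h.2⟩, fun h => ⟨h.1, ?_⟩⟩
    exact comm_of_card_sq (p := 3) (U := T) (by rw [hT]; norm_num) (Subgroup.mem_inf.2 h)
      (Subgroup.mem_inf.2 ⟨hx, self_mem_stab x⟩)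
  · have := three_mul_card_le hP hTP
    omega

/-- The centre meets the stabiliser of a moved set in a group of order three outside the kernel. -/
theorem central_of_moved {P : Subgroup G} (hP : IsPGroup 3 P) {x : G} (hx : x ∈ P) (hx1 : x ≠ 1)
    (hc : (fixedBy Ω x).ncard = e) (hmove : ¬ P ≤ stabilizer G (fixedBy Ω x)) {z : G} (hz : z ∈ P)
    (hz1 : z ≠ 1) (hzc : ∀ a ∈ P, a * z = z * a) :
    z ∈ P ⊓ stabilizer G (fixedBy Ω x) ∧ z ∉ fixingSubgroup G (fixedBy Ω x) := by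
  refine ⟨Subgroup.mem_inf.2 ⟨hz, mem_stab_of_commute (hzc x hx).symm⟩, fun h => hmove fun a ha => ?_⟩
  rw [← fix_eq_three H hc (isPGroup_zpowers_of_mem hP hz) hz1 h]
  exact mem_stab_of_commute (hzc a ha)

end Cfsg.Agent.H19.Fixity
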