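import Cfsg.Agent.H19.Fixity.OddMembers

/-!
# A moved kernel of order three: centraliser and non-reality
-/

set_option autoImplicit false
set_option linter.unusedSectionVars false
set_option linter.style.haveILetI false
set_option linter.unusedVariables false

namespace Cfsg.Agent.H19.Fixity

open MulAction Subgroup
open scoped Pointwise

/-- An element of odd prime power order fixing `z` and normalising `⟨y, z⟩` acts as a transvection. -/
theorem transvection {G : Type*} [Group G] [Finite G] {E : Subgroup G} (hE : Nat.card E = 9)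
    (hEc : ∀ a ∈ E, ∀ b ∈ E, a * b = b * a) (hE3 : ∀ a ∈ E, a ^ 3 = 1) {y z : G} (hy : y ∈ E)
    (hz : z ∈ E) (hz1 : z ≠ 1) (hyz : y ∉ zpowers z) {n : G} (hn : IsPGroup 3 (zpowers n))
    (hnE : n * y * n⁻¹ ∈ E) (hnz : n * z = z * n) (hny : n * y ≠ y * n) :
    ∃ k : ℕ, n ^ k * y * (n ^ k)⁻¹ = y * z := by
  haveI : Fact (Nat.Prime 3) := ⟨Nat.prime_three⟩
  obtain ⟨a, b, hab⟩ := exists_pow_decomp hE hy hz (hE3 y hy) (hE3 z hz) hz1 hyz _ hnE
  have hz3 := hE3 z hz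
  have hy3 := hE3 y hy
  have hzconj : ∀ i : ℕ, n * z ^ i * n⁻¹ = z ^ i := fun i => by
    rw [((commute_iff_eq n z).2 hnz).pow_right i |>.eq, mul_inv_cancel_right]
  rcases (show (a : ℕ) = 0 ∨ (a : ℕ) = 1 ∨ (a : ℕ) = 2 by omega) with ha | ha | ha
  · exfalso
    apply hyz
    rw [ha, pow_zero, one_mul] at hab
    have : y = n⁻¹ * z ^ (b : ℕ) * n := by rw [← hab]; group
    rw [this, show n⁻¹ * z ^ (b : ℕ) * n = z ^ (b : ℕ) by
      conv_lhs => rw [← hzconj (b : ℕ)]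
      group]
    exact pow_mem (mem_zpowers z) _
  · rw [ha, pow_one] at hab
    rcases (show (b : ℕ) = 0 ∨ (b : ℕ) = 1 ∨ (b : ℕ) = 2 by omega) with hb | hb | hb
    · rw [hb, pow_zero, mul_one] at hab
      exact absurd (mul_inv_eq_iff_eq_mul.1 hab) hny
    · rw [hb, pow_one] at hab
      exact ⟨1, by rw [pow_one, hab]⟩
    · rw [hb] at hab
      refine ⟨2, ?_⟩
      calc n ^ 2 * y * (n ^ 2)⁻¹ = n * (n * y * n⁻¹) * n⁻¹ := by rw [pow_two]; group
        _ = n * (y * z ^ 2) * n⁻¹ := by rw [hab]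
        _ = (n * y * n⁻¹) * (n * z ^ 2 * n⁻¹) := by group
        _ = y * (z ^ 3 * z) := by rw [hab, hzconj, mul_assoc, ← pow_add, ← pow_succ]
        _ = y * z := by rw [hz3, one_mul]
  · exfalso
    rw [ha] at hab
    apply hny
    have h2 : n ^ 2 * y * (n ^ 2)⁻¹ = y := by
      calc n ^ 2 * y * (n ^ 2)⁻¹ = n * (n * y * n⁻¹) * n⁻¹ := by rw [pow_two]; group
        _ = n * (y ^ 2 * z ^ (b : ℕ)) * n⁻¹ := by rw [hab]
        _ = (n * y * n⁻¹) ^ 2 * (n * z ^ (b : ℕ) * n⁻¹) := by rw [pow_two, pow_two]; group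
        _ = (y ^ 2 * z ^ (b : ℕ)) * (y ^ 2 * z ^ (b : ℕ)) * z ^ (b : ℕ) := by rw [hab, hzconj, pow_two (_ * _)]
        _ = y ^ 2 * (z ^ (b : ℕ) * y ^ 2) * z ^ (b : ℕ) * z ^ (b : ℕ) := by group
        _ = y ^ 2 * (y ^ 2 * z ^ (b : ℕ)) * z ^ (b : ℕ) * z ^ (b : ℕ) := by
          rw [hEc _ (pow_mem hz (b : ℕ)) _ (pow_mem hy 2)]
        _ = (y ^ 3 * y) * (z ^ 3) ^ (b : ℕ) := by
          rw [← pow_mul z 3 (b : ℕ), show 3 * (b : ℕ) = (b : ℕ) + (b : ℕ) + (b : ℕ) by omega, pow_add,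
            pow_add, ← pow_succ]
          simp only [pow_succ, pow_zero, one_mul, mul_assoc]
        _ = y := by rw [hy3, hz3, one_pow, one_mul, mul_one]
    have hc : Commute (n ^ 2) y := mul_inv_eq_iff_eq_mul.1 h2
    obtain ⟨i, hi⟩ := hn ⟨n, mem_zpowers n⟩
    have hi' : n ^ 3 ^ i = 1 := congrArg Subtype.val hi
    obtain ⟨j, hj⟩ : Odd (3 ^ i) := Odd.pow (by decide)
    have h3 : (n ^ 2) ^ (j + 1) = n := by
      rw [← pow_mul, show 2 * (j + 1) = 3 ^ i + 1 by omega, pow_succ, hi', one_mul]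
    exact (h3 ▸ hc.pow_left (j + 1) : Commute n y)

theorem notMem_zpowers {G : Type*} [Group G] {Q : Subgroup G} {y z : G} (hz3 : z ^ 3 = 1) (hy : y ∈ Q)
    (hy1 : y ≠ 1) (hzQ : z ∉ Q) : y ∉ zpowers z := by
  intro h
  obtain ⟨i, hi⟩ := mem_zpowers_iff.1 h
  have hi' : y = z ^ (i % 3) := by
    rw [← hi]
    conv_lhs => rw [← Int.emod_add_mul_ediv i 3]
    rw [zpow_add, zpow_mul, show z ^ (3 : ℤ) = 1 by exact_mod_cast hz3, one_zpow, mul_one]
  rcases (show i % 3 = 0 ∨ i % 3 = 1 ∨ i % 3 = 2 by omega) with h3 | h3 | h3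
  · rw [h3, zpow_zero] at hi'; exact hy1 hi'
  · rw [h3, zpow_one] at hi'; exact hzQ (hi' ▸ hy)
  · rw [h3] at hi'
    apply hzQ
    have : z = y * y := by
      rw [hi', ← zpow_add, show (2 : ℤ) + 2 = 3 + 1 by norm_num, zpow_add, zpow_one,
        show z ^ (3 : ℤ) = 1 by exact_mod_cast hz3, one_mul]
    rw [this]; exact mul_mem hy hy

variable {G Ω : Type*} [Group G] [MulAction G Ω] [Finite G] [Finite Ω] {e : ℕ}
  (H : ThreeSetting G Ω e)
include H

/-- The Sylow 3-subgroup of the centraliser of a generator of a moved kernel has order nine. -/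
theorem centralizer_bound (P : Sylow 3 G) {y : G} (hyP : y ∈ (P : Subgroup G)) (hy1 : y ≠ 1)
    (hc : (fixedBy Ω y).ncard = e)
    (hmove : ¬ (P : Subgroup G) ≤ stabilizer G (fixedBy Ω y)) {D : Subgroup G} (hD : IsPGroup 3 D)
    (hED : (P : Subgroup G) ⊓ stabilizer G (fixedBy Ω y) ≤ D) (hDy : D ≤ centralizer {y}) :
    Nat.card D ≤ 9 := by
  haveI : Fact (Nat.Prime 3) := ⟨Nat.prime_three⟩
  obtain ⟨hQ, hE, hE3, hCE, h27⟩ := moved_data H P.isPGroup' hyP hy1 hc hmove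
  have hFe : (fixedBy Ω y).ncard = 3 ∨ (fixedBy Ω y).ncard = 4 := by rw [hc]; exact H.he
  set F := fixedBy Ω y with hFdef
  set E := (P : Subgroup G) ⊓ stabilizer G F with hEdef
  set Q := (P : Subgroup G) ⊓ fixingSubgroup G F with hQdef
  have hQE : Q ≤ E := inf_le_inf_left _ (pw_le_stab F)
  have hyQ : y ∈ Q := Subgroup.mem_inf.2 ⟨hyP, self_mem_pw y⟩
  have hEc : ∀ a ∈ E, ∀ b ∈ E, a * b = b * a := fun a ha b hb =>
    comm_of_card_sq (p := 3) (by rw [hE]; norm_num) ha hb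
  by_contra hgt
  have hDF : D ≤ stabilizer G F := fun d hd =>
    mem_stab_of_commute (Subgroup.mem_centralizer_singleton_iff.1 (hDy hd))
  have hD27 : 27 ≤ Nat.card D := by
    by_contra h
    have := card_three_pow_le hD (i := 2) (by norm_num; omega)
    omega
  have hDk := index_kernel_le H hD hc hDF
  obtain ⟨P3, hP3⟩ := hD.exists_le_sylow
  have hyE : y ∈ E := hQE hyQ
  have hyP3 : y ∈ (P3 : Subgroup G) := hP3 (hED hyE)
  set R := (P3 : Subgroup G) ⊓ fixingSubgroup G F with hRdef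
  have hR9 : 9 ≤ Nat.card R := by
    have h1 : Nat.card ↥(D ⊓ fixingSubgroup G F) ≤ Nat.card R :=
      card_le_of_inf_eq (inf_le_inf_right _ hP3)
    omega
  have hP3F : (P3 : Subgroup G) ≤ stabilizer G F := by
    by_contra h
    have h3 : Nat.card R = 3 := (moved_data H P3.isPGroup' hyP3 hy1 hc h).1
    omega
  have hP3R := index_kernel_le H P3.isPGroup' hc hP3F
  obtain ⟨c, hcc⟩ := MulAction.exists_smul_eq G P3 P
  have hcmem : ∀ x, x ∈ (P3 : Subgroup G) ↔ c * x * c⁻¹ ∈ (P : Subgroup G) := fun x => by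
    rw [← hcc]
    exact (Subgroup.smul_mem_pointwise_smul_iff (a := MulAut.conj c)).symm
  set F0 := c • F with hF0def
  have hF0 : F0.ncard = e := by rw [hF0def, Set.ncard_smul_set, hc]
  set Q0 := (P : Subgroup G) ⊓ fixingSubgroup G F0 with hQ0def
  have hPF0 : (P : Subgroup G) ≤ stabilizer G F0 := by
    intro p hp
    have h1 : c⁻¹ * p * c ∈ (P3 : Subgroup G) := (hcmem _).2 (by simpa [mul_assoc] using hp)
    rw [mem_stabilizer_iff, hF0def]
    calc p • c • F = c • ((c⁻¹ * p * c) • F) := by rw [← mul_smul, ← mul_smul]; group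
      _ = c • F := by rw [mem_stabilizer_iff.1 (hP3F h1)]
  have hQ0ne : Q0 ≠ ⊥ := by
    intro h
    have hy' : c * y * c⁻¹ ∈ Q0 :=
      Subgroup.mem_inf.2 ⟨(hcmem y).1 hyP3, conj_mem_pw.2 (self_mem_pw y)⟩
    rw [h, Subgroup.mem_bot] at hy'
    exact hy1 (by simpa using hy')
  have hQ0n : ∀ g ∈ (P : Subgroup G), ∀ x ∈ Q0, g * x * g⁻¹ ∈ Q0 := fun g hg x hx =>
    Subgroup.mem_inf.2 ⟨mul_mem (mul_mem hg (Subgroup.mem_inf.1 hx).1) (inv_mem hg),
      conj_mem_pw_of_stab (hPF0 hg) (Subgroup.mem_inf.1 hx).2⟩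
  obtain ⟨z, hzQ0, hzo, hzc⟩ := exists_central_mem P.isPGroup' inf_le_left hQ0n hQ0ne
  have hz1 : z ≠ 1 := fun h => by rw [h, orderOf_one] at hzo; omega
  have hzP : z ∈ (P : Subgroup G) := (Subgroup.mem_inf.1 hzQ0).1
  have hfz : fixedBy Ω z = F0 :=
    fix_eq_three H hF0 (isPGroup_zpowers hzo) hz1 (Subgroup.mem_inf.1 hzQ0).2
  obtain ⟨hzE, hzF⟩ := central_of_moved H P.isPGroup' hyP hy1 hc hmove hzP hz1 hzc
  have hFne : F ≠ F0 := fun h => hzF (by
    have h' := (Subgroup.mem_inf.1 hzQ0).2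
    rw [← h] at h'
    exact h')
  have hzP3 : z ∈ (P3 : Subgroup G) := hP3 (hED hzE)
  have hzc' : (fixedBy Ω z).ncard = e := by rw [hfz, hF0]
  have hmove' : ¬ (P3 : Subgroup G) ≤ stabilizer G (fixedBy Ω z) := by
    intro h
    rw [hfz] at h
    have h1 := index_kernel_le H P3.isPGroup' hF0 h
    have hbot : (P3 : Subgroup G) ⊓ fixingSubgroup G F0 ⊓ R = ⊥ := by
      rw [eq_bot_iff, ← inf_pw_eq_bot H P3.isPGroup' hF0 hc hFne.symm]
      exact le_inf inf_le_left (inf_le_right.trans inf_le_right)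
    have h2 := card_le_mul_inf (H := (P3 : Subgroup G) ⊓ fixingSubgroup G F0) (K := R)
      (L := (P3 : Subgroup G)) inf_le_left inf_le_left
    rw [hbot, Subgroup.card_bot, one_mul] at h2
    have hR0 : 0 < Nat.card R := Nat.card_pos
    have h3 : Nat.card ↥((P3 : Subgroup G) ⊓ fixingSubgroup G F0) ≤ 3 :=
      Nat.le_of_mul_le_mul_right (h2.trans hP3R) hR0
    have h4 := card_le_of_inf_eq hP3
    omega
  obtain ⟨-, hE', -, hCE', -⟩ := moved_data H P3.isPGroup' hzP3 hz1 hzc' hmove'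
  have hEeq : E = (P3 : Subgroup G) ⊓ stabilizer G (fixedBy Ω z) := by
    refine Subgroup.eq_of_le_of_card_ge ?_ (by rw [hE, hE'])
    rw [← hCE']
    exact le_inf (hED.trans hP3) fun a ha =>
      Subgroup.mem_centralizer_singleton_iff.2 (hEc a ha z hzE)
  -- `y` is central in `P3`
  have hRne : R ≠ ⊥ := fun h => by
    have : Nat.card R = 1 := by rw [h, Subgroup.card_bot]
    omega
  obtain ⟨c3, hc3R, hc3o, hc3c⟩ := exists_central_mem P3.isPGroup' inf_le_left
    (fun g hg x hx => Subgroup.mem_inf.2 ⟨mul_mem (mul_mem hg (Subgroup.mem_inf.1 hx).1) (inv_mem hg),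
      conj_mem_pw_of_stab (hP3F hg) (Subgroup.mem_inf.1 hx).2⟩) hRne
  have hc3Q : c3 ∈ Q := by
    have : c3 ∈ E := by
      rw [hEeq, ← hCE']
      exact Subgroup.mem_inf.2 ⟨(Subgroup.mem_inf.1 hc3R).1,
        Subgroup.mem_centralizer_singleton_iff.2 (hc3c z hzP3).symm⟩
    exact Subgroup.mem_inf.2 ⟨(Subgroup.mem_inf.1 this).1, (Subgroup.mem_inf.1 hc3R).2⟩
  have hyz3 : ∀ a ∈ (P3 : Subgroup G), a * y = y * a := by
    have hQz : zpowers c3 = Q := Subgroup.eq_of_le_of_card_ge (zpowers_le.2 hc3Q)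
      (by rw [hQ, Nat.card_zpowers, hc3o])
    obtain ⟨i, hi⟩ := mem_zpowers_iff.1 (hQz.symm ▸ hyQ : y ∈ zpowers c3)
    intro a ha
    rw [← hi]
    exact (((commute_iff_eq a c3).2 (hc3c a ha)).zpow_right i).eq
  have hyz : y ∉ zpowers z := notMem_zpowers (hE3 z hzE) hyQ hy1
    (fun h => hzF (Subgroup.mem_inf.1 h).2)
  have hzy : z ∉ zpowers y := fun h => hzF ((zpowers_le.2 (self_mem_pw y)) h)
  -- the two transvections
  obtain ⟨n₁, hn₁P, hn₁E, hn₁⟩ := exists_normalizing P.isPGroup'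
    (lt_of_le_of_ne (inf_le_left : E ≤ _) (fun h => hmove (h ▸ inf_le_right)))
  obtain ⟨n₃, hn₃P, hn₃E, hn₃⟩ := exists_normalizing P3.isPGroup' (M := E)
    (lt_of_le_of_ne (hED.trans hP3) (fun h => by
      have := card_le_of_inf_eq hP3; rw [← h, hE] at this; omega))
  obtain ⟨i, hi⟩ := transvection hE hEc hE3 hyE hzE hz1 hyz
    (isPGroup_zpowers_of_mem P.isPGroup' hn₁P) ((hn₁ y).1 hyE) (hzc n₁ hn₁P) (fun h => hn₁E (by
      exact hCE.le (Subgroup.mem_inf.2 ⟨hn₁P, Subgroup.mem_centralizer_singleton_iff.2 h⟩)))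
  obtain ⟨j, hj⟩ := transvection hE hEc hE3 hzE hyE hy1 hzy
    (isPGroup_zpowers_of_mem P3.isPGroup' hn₃P) ((hn₃ z).1 hzE) (hyz3 n₃ hn₃P) (fun h => hn₃E (by
      rw [hEeq, ← hCE']
      exact Subgroup.mem_inf.2 ⟨hn₃P, Subgroup.mem_centralizer_singleton_iff.2 h⟩))
  set u := n₁ ^ i with hudef
  set v := n₃ ^ j with hvdef
  have huz : u * z * u⁻¹ = z := by
    rw [hudef, (((commute_iff_eq n₁ z).2 (hzc n₁ hn₁P)).pow_left i).eq, mul_inv_cancel_right]
  have hvy : v * y * v⁻¹ = y := by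
    rw [hvdef, (((commute_iff_eq n₃ y).2 (hyz3 n₃ hn₃P)).pow_left j).eq, mul_inv_cancel_right]
  set g := u * v * (u * v) with hgdef
  have hy3 := hE3 y hyE
  have hz3 := hE3 z hzE
  have hyi : y⁻¹ = y ^ 2 := inv_eq_of_mul_eq_one_right (by rw [← pow_succ', hy3])
  have hzi : z⁻¹ = z ^ 2 := inv_eq_of_mul_eq_one_right (by rw [← pow_succ', hz3])
  have hcyz : Commute y z := hEc y hyE z hzE
  have hA : u * v * y * (u * v)⁻¹ = y * z := by
    calc u * v * y * (u * v)⁻¹ = u * (v * y * v⁻¹) * u⁻¹ := by group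
      _ = y * z := by rw [hvy, hi]
  have hB : u * v * z * (u * v)⁻¹ = z * (y * z) := by
    calc u * v * z * (u * v)⁻¹ = u * (v * z * v⁻¹) * u⁻¹ := by group
      _ = u * z * u⁻¹ * (u * y * u⁻¹) := by rw [hj]; group
      _ = z * (y * z) := by rw [huz, hi]
  have hgy : g * y * g⁻¹ = y⁻¹ := by
    calc g * y * g⁻¹ = u * v * (u * v * y * (u * v)⁻¹) * (u * v)⁻¹ := by rw [hgdef]; group
      _ = u * v * (y * z) * (u * v)⁻¹ := by rw [hA]
      _ = (u * v * y * (u * v)⁻¹) * (u * v * z * (u * v)⁻¹) := by group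
      _ = y * z * (z * (y * z)) := by rw [hA, hB]
      _ = y ^ 2 * z ^ 3 := by
        rw [show y * z * (z * (y * z)) = y * ((z * z) * y) * z by group,
          ← ((hcyz.mul_right hcyz).eq)]
        simp only [pow_succ, pow_zero, one_mul, mul_assoc]
      _ = y⁻¹ := by rw [hz3, mul_one, hyi]
  have hgz : g * z * g⁻¹ = z⁻¹ := by
    calc g * z * g⁻¹ = u * v * (u * v * z * (u * v)⁻¹) * (u * v)⁻¹ := by rw [hgdef]; group
      _ = u * v * (z * (y * z)) * (u * v)⁻¹ := by rw [hB]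
      _ = (u * v * z * (u * v)⁻¹) * ((u * v * y * (u * v)⁻¹) * (u * v * z * (u * v)⁻¹)) := by group
      _ = z * (y * z) * (y * z * (z * (y * z))) := by rw [hA, hB]
      _ = y ^ 3 * (z ^ 3 * z ^ 2) := by
        have e1 := hcyz.eq
        calc z * (y * z) * (y * z * (z * (y * z))) = (z * y) * (z * y) * (z * z) * (y * z) := by group
          _ = (y * z) * (y * z) * (z * z) * (y * z) := by rw [e1]
          _ = y * (z * y) * (z * z * z) * (y * z) := by group
          _ = y * (y * z) * (z * z * z) * (y * z) := by rw [e1]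
          _ = y * y * ((z * z * z * z) * y) * z := by group
          _ = y * y * (y * (z * z * z * z)) * z := by
            rw [← (((hcyz.mul_right hcyz).mul_right hcyz).mul_right hcyz).eq]
          _ = _ := by simp only [pow_succ, pow_zero, one_mul, mul_assoc]
      _ = z⁻¹ := by rw [hy3, hz3, one_mul, one_mul, hzi]
  refine no_inversion H.odd hFe (mem_stab_of_conj_inv hgy) (Subgroup.mem_inf.1 hzE).2 hzF
    (by rw [hz3]; exact one_mem _) ?_
  rw [hgz, inv_mul_cancel]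
  exact one_mem _

/-- A generator of a moved kernel is not conjugate to its inverse. -/
theorem not_real (P : Sylow 3 G) {y : G} (hyP : y ∈ (P : Subgroup G)) (hy1 : y ≠ 1)
    (hc : (fixedBy Ω y).ncard = e)
    (hmove : ¬ (P : Subgroup G) ≤ stabilizer G (fixedBy Ω y)) (g : G) : g * y * g⁻¹ ≠ y⁻¹ := by
  haveI : Fact (Nat.Prime 3) := ⟨Nat.prime_three⟩
  intro hg
  obtain ⟨hQ, hE, hE3, hCE, h27⟩ := moved_data H P.isPGroup' hyP hy1 hc hmove
  have hFe : (fixedBy Ω y).ncard = 3 ∨ (fixedBy Ω y).ncard = 4 := by rw [hc]; exact H.he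
  obtain ⟨z, hzP, hzo, hzc⟩ := exists_central P (by
    have h1 := Subgroup.card_subgroup_dvd_card (P : Subgroup G)
    obtain ⟨n, hn⟩ := (IsPGroup.iff_card (p := 3)).1 P.isPGroup'
    rw [hn] at h1
    have : n ≠ 0 := fun h => by rw [hn, h] at h27; norm_num at h27
    exact (dvd_pow_self 3 this).trans h1)
  have hz1 : z ≠ 1 := fun h => by rw [h, orderOf_one] at hzo; omega
  obtain ⟨hzE, hzF⟩ := central_of_moved H P.isPGroup' hyP hy1 hc hmove hzP hz1 hzc
  set F := fixedBy Ω y with hFdef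
  set E := (P : Subgroup G) ⊓ stabilizer G F with hEdef
  have hEp : IsPGroup 3 E := P.isPGroup'.to_le inf_le_left
  have hyE : y ∈ E := Subgroup.mem_inf.2 ⟨hyP, self_mem_stab y⟩
  have hEC : E ≤ centralizer {y} := fun a ha => Subgroup.mem_centralizer_singleton_iff.2
    (comm_of_card_sq (p := 3) (by rw [hE]; norm_num) ha hyE)
  have hmax : ∀ D : Subgroup G, D ≤ centralizer {y} → IsPGroup 3 D → Nat.card D ≤ Nat.card E := by
    intro D hD hDp
    by_contra hgt
    obtain ⟨R, hR⟩ := (hEp.comap_subtype (K := centralizer {y})).exists_le_sylow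
    have hRle := centralizer_bound H P hyP hy1 hc hmove (D := (R : Subgroup _).map (centralizer {y}).subtype)
      (R.isPGroup'.map _) (fun a ha => ⟨⟨a, hEC ha⟩, hR ha, rfl⟩) (Subgroup.map_subtype_le _)
    rw [Subgroup.card_map_of_injective (Subgroup.subtype_injective _)] at hRle
    obtain ⟨R', hR'⟩ := (hDp.comap_subtype (K := centralizer {y})).exists_le_sylow
    have h1 : Nat.card D ≤ Nat.card (R' : Subgroup _) :=
      le_trans (le_of_eq (Nat.card_congr (Subgroup.subgroupOfEquivOfLe hD).toEquiv).symm)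
        (card_le_of_inf_eq hR')
    rw [Sylow.card_eq_multiplicity] at hRle h1
    omega
  -- conjugate of `E` by `g` again centralises `y`
  have hgC : ∀ a : G, a * y = y * a → g * a * g⁻¹ * y = y * (g * a * g⁻¹) := by
    intro a ha
    have h1 : g * y⁻¹ * g⁻¹ = y := by
      have := congrArg (·⁻¹) hg
      simpa [mul_assoc] using this
    have h2 : Commute a y⁻¹ := ((commute_iff_eq a y).2 ha).inv_right
    calc g * a * g⁻¹ * y = g * a * g⁻¹ * (g * y⁻¹ * g⁻¹) := by rw [h1]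
      _ = g * (a * y⁻¹) * g⁻¹ := by group
      _ = g * (y⁻¹ * a) * g⁻¹ := by rw [h2.eq]
      _ = (g * y⁻¹ * g⁻¹) * (g * a * g⁻¹) := by group
      _ = y * (g * a * g⁻¹) := by rw [h1]
  obtain ⟨h, hh, hconj⟩ := conj_of_max (U := E) (U' := E.map (MulAut.conj g).toMonoidHom) hEC
    (by
      rintro _ ⟨a, ha, rfl⟩
      exact Subgroup.mem_centralizer_singleton_iff.2 (hgC a (Subgroup.mem_centralizer_singleton_iff.1 (hEC ha))))
    hEp (hEp.map _) hmax (Subgroup.card_map_of_injective (MulAut.conj g).injective)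
  set k := g⁻¹ * h with hkdef
  have hkE : ∀ a ∈ E, k * a * k⁻¹ ∈ E := by
    intro a ha
    obtain ⟨b, hb, e⟩ := (hconj a).1 ha
    have e' : g * b * g⁻¹ = h * a * h⁻¹ := e
    have : k * a * k⁻¹ = b := by
      rw [hkdef, show g⁻¹ * h * a * (g⁻¹ * h)⁻¹ = g⁻¹ * (h * a * h⁻¹) * g by group, ← e']
      group
    rw [this]; exact hb
  have hky : k * y * k⁻¹ = y⁻¹ := by
    rw [hkdef, show g⁻¹ * h * y * (g⁻¹ * h)⁻¹ = g⁻¹ * (h * y * h⁻¹) * g by group,
      mul_inv_eq_iff_eq_mul.2 (Subgroup.mem_centralizer_singleton_iff.1 hh)]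
    have := congrArg (fun x => g⁻¹ * x⁻¹ * g) hg
    simpa [mul_assoc] using this.symm
  have hy3 := hE3 y hyE
  have hz3 := hE3 z hzE
  have hyz : y ∉ zpowers z :=
    notMem_zpowers (Q := fixingSubgroup G F) hz3 (self_mem_pw y) hy1 hzF
  obtain ⟨a, b, hab⟩ := exists_pow_decomp hE hyE hzE hy3 hz3 hz1 hyz _ (hkE z hzE)
  have hkF : k ∈ stabilizer G F := mem_stab_of_conj_inv hky
  have hzs : z ∈ stabilizer G F := (Subgroup.mem_inf.1 hzE).2
  have hypw : y ^ (a : ℕ) ∈ fixingSubgroup G F := pow_mem (self_mem_pw y) _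
  rcases (show (b : ℕ) = 0 ∨ (b : ℕ) = 1 ∨ (b : ℕ) = 2 by omega) with hb | hb | hb
  · apply hzF
    rw [hb, pow_zero, mul_one] at hab
    have h2 : k⁻¹ * y ^ (a : ℕ) * k = z := by rw [← hab]; group
    rw [← h2]
    simpa using conj_mem_pw_of_stab (inv_mem hkF) hypw
  · refine hy1 (eq_one_of_inverted hky ?_ hy3)
    refine odd_of_commute H.odd hFe hkF hzs hzF (by rw [hz3]; exact one_mem _) ?_
    rw [hab, hb, pow_one, mul_inv_cancel_right]
    exact hypw
  · refine no_inversion H.odd hFe hkF hzs hzF (by rw [hz3]; exact one_mem _) ?_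
    rw [hab, hb, mul_assoc, ← pow_succ, hz3, mul_one]
    exact hypw

end Cfsg.Agent.H19.Fixity
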