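import Cfsg.Agent.H19.Fixity.Common
import Cfsg.Prelude.Def_CaseTheorems
import Cfsg.Agent.PGroups.MaxClass
import Cfsg.Agent.PGroups.TwoGroups
import Cfsg.Agent.H66.FixityTwoSylow

/-!
# All involutions fix the same number `f ≤ 3` of points

Either a set stabiliser is strongly embedded or some involution of a Sylow 2-subgroup has centraliser
of order four there, so that the Sylow subgroup is dihedral or semidihedral.
-/

set_option autoImplicit false
set_option linter.unusedSectionVars false
set_option linter.style.haveILetI false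

namespace Cfsg.Agent.H19.Fixity

open MulAction Subgroup
open scoped Pointwise

universe u

/-- A 2-group with a self-centralising subgroup of order four containing two involutions is dihedral
or semidihedral. -/
theorem dihedral_or_semidihedral {X : Type u} [Group X] [Finite X] (hX : IsPGroup 2 X) (A : Subgroup X)
    (hA : Nat.card A = 4) (hC : Subgroup.centralizer (A : Set X) = A) {z y : X} (hz : z * z = 1)
    (hy : y * y = 1) (hz1 : z ≠ 1) (hy1 : y ≠ 1) (hzy : z ≠ y) :
    (∃ n : ℕ, Nonempty (X ≃* DihedralGroup n)) ∨ Cfsg.IsQuasiDihedral X := by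
  haveI : Fact (Nat.Prime 2) := ⟨Nat.prime_two⟩
  obtain ⟨n, hn⟩ := (IsPGroup.iff_card (p := 2)).1 hX
  have hAX : Nat.card A ∣ Nat.card X := Subgroup.card_subgroup_dvd_card A
  rw [hA, hn] at hAX
  have h2n : 2 ≤ n := by
    by_contra h
    have := Nat.le_of_dvd (by positivity) hAX
    interval_cases n <;> simp_all
  rcases h2n.eq_or_lt with h | h3
  · exact Or.inl ⟨2, H66.FixityTwo.klein_of_two_involutions (by rw [hn, ← h]; norm_num) hy hz hy1 hz1 hzy.symm⟩
  have hcl := PGroups.nilpotencyClass_of_self_centralizing n X hn A (by rw [hA]; norm_num) hC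
  obtain ⟨c, w, hc, hw, hrel, -⟩ := PGroups.maxClass_two h3 hn hcl
  obtain ⟨m, rfl⟩ : ∃ m, n = m + 1 := ⟨n - 1, by omega⟩
  simp only [Nat.add_sub_cancel] at hc
  have hcard : Nat.card X = 2 * 2 ^ m := by rw [hn, pow_succ, mul_comm]
  haveI : NeZero (2 ^ m) := ⟨by positivity⟩
  rcases hrel with ⟨hconj, hw2 | hw2⟩ | ⟨h4, hconj, hw2⟩
  · exact Or.inl ⟨_, PGroups.nonempty_mulEquiv_dihedral hc hw hw2 hconj hcard⟩
  · exfalso
    -- the quaternion case: `c ^ 2 ^ (m - 1)` is the only involution
    have hidx : (zpowers c).index = 2 := by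
      have h1 := (zpowers c).card_mul_index
      rw [Nat.card_zpowers, hc, hcard, mul_comm 2 (2 ^ m)] at h1
      exact Nat.eq_of_mul_eq_mul_left (by positivity) h1
    have hout : ∀ v : X, v ∉ zpowers c → v * v ≠ 1 := by
      intro v hv hv1
      have hmem : w⁻¹ * v ∈ zpowers c := by
        rw [Subgroup.mul_mem_iff_of_index_two hidx, inv_mem_iff]
        exact iff_of_false hw hv
      obtain ⟨i, hi⟩ := mem_zpowers_iff.1 hmem
      have hv' : v = w * c ^ i := by rw [hi, mul_inv_cancel_left]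
      have hwi : c ^ i * w = w * c ^ (-i) := PGroups.zpow_mul_of_conj_eq_inv hconj i
      have hvv : v * v = w ^ 2 := by
        rw [hv', mul_assoc w (c ^ i), ← mul_assoc (c ^ i), hwi, mul_assoc w (c ^ (-i)), ← zpow_add,
          neg_add_cancel, zpow_zero, mul_one, sq]
      rw [hvv, hw2] at hv1
      have := orderOf_dvd_of_pow_eq_one hv1
      rw [hc] at this
      have := Nat.le_of_dvd (by positivity) this
      have : 2 ^ (m + 1 - 2) < 2 ^ m := Nat.pow_lt_pow_right (by norm_num) (by omega)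
      omega
    have hzc : z ∈ zpowers c := by_contra fun h => hout z h hz
    have hyc : y ∈ zpowers c := by_contra fun h => hout y h hy
    apply hzy
    have huniq : ∀ v ∈ zpowers c, v * v = 1 → v ≠ 1 → v = c ^ (2 ^ (m - 1)) := by
      intro v hv hv2 hv1
      obtain ⟨k, rfl⟩ := (Submonoid.mem_powers_iff _ _).1 (mem_powers_iff_mem_zpowers.2 hv)
      rw [← pow_add] at hv2
      have hd : 2 ^ m ∣ k + k := hc ▸ orderOf_dvd_of_pow_eq_one hv2
      have hmod : k % 2 ^ m = 2 ^ (m - 1) := by
        have hlt : k % 2 ^ m < 2 ^ m := Nat.mod_lt _ (by positivity)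
        have hne : k % 2 ^ m ≠ 0 := fun h0 => hv1 (by
          rw [← pow_mod_orderOf, hc, h0, pow_zero])
        have e : 2 ^ m = 2 * 2 ^ (m - 1) := by rw [← pow_succ', Nat.sub_add_cancel (by omega)]
        obtain ⟨j, hj⟩ := hd
        have e2 := Nat.div_add_mod k (2 ^ m)
        have : 2 ^ (m - 1) * j = k := by
          have := hj; rw [e, mul_assoc] at this; omega
        rw [← this, e, mul_comm 2, Nat.mul_mod_mul_left] at hne ⊢
        rcases Nat.mod_two_eq_zero_or_one j with hj2 | hj2 <;> simp_all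
      rw [← pow_mod_orderOf, hc, hmod]
    rw [huniq z hzc hz hz1, huniq y hyc hy hy1]
  · refine Or.inr ⟨m, by omega, hn, c, w, hc, orderOf_eq_prime hw2 fun h => hw (h ▸ one_mem _), ?_⟩
    rw [show m + 1 - 2 = m - 1 by omega] at hconj
    exact hconj

variable {G Ω : Type*} [Group G] [MulAction G Ω]

/-- `f ≤ 3`: the two alternatives. -/
theorem small_cases [Finite G] [FaithfulSMul G Ω] [IsPretransitive G Ω] [Finite Ω] {f : ℕ} (h1 : 1 ≤ f)
    (h3 : f ≤ 3) (hall : ∀ t : G, orderOf t = 2 → (fixedBy Ω t).ncard = f)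
    (hex : 2 ∣ Nat.card G) (S : Sylow 2 G) :
    (∃ H : Subgroup G, Cfsg.IsStronglyEmbedded H) ∨
      ((∃ n : ℕ, Nonempty ((S : Subgroup G) ≃* DihedralGroup n)) ∨
        Cfsg.IsQuasiDihedral (S : Subgroup G)) := by
  haveI : Fact (Nat.Prime 2) := ⟨Nat.prime_two⟩
  obtain ⟨z, hzS, hz, hzc⟩ := exists_central S hex
  set F := fixedBy Ω z with hF
  have hFc : F.ncard = f := hall z hz
  have hSF : (S : Subgroup G) ≤ stabilizer G F := fun x hx => mem_stab_of_commute (hzc x hx)
  by_cases hA : ∀ y ∈ (S : Subgroup G), orderOf y = 2 → fixedBy Ω y = F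
  · refine Or.inl ⟨_, stronglyEmbedded_of_fix (F := F) (Set.nonempty_of_ncard_ne_zero (by omega)) ?_ ?_⟩
    · rw [← hz]
      exact (Subgroup.orderOf_dvd_natCard _ (hSF hzS))
    · intro x hx hox
      obtain ⟨m, hm, hmx⟩ := exists_conj_mem_sylow S hSF (isPGroup_zpowers hox) (zpowers_le.2 hx)
      have h := hA _ (hmx x (mem_zpowers x)) (by rw [orderOf_conj', hox])
      rw [fixedBy_conj'] at h
      rw [← inv_smul_smul m (fixedBy Ω x), h, inv_smul_eq_iff]
      exact (mem_stabilizer_iff.1 hm).symm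
  push Not at hA
  obtain ⟨y, hyS, hy, hyF⟩ := hA
  refine Or.inr ?_
  set F' := fixedBy Ω y with hF'
  have hFc' : F'.ncard = f := hall y hy
  set C := (S : Subgroup G) ⊓ centralizer {y} with hCdef
  have hCS : C ≤ (S : Subgroup G) := inf_le_left
  have hCp : IsPGroup 2 C := S.isPGroup'.to_le hCS
  have hCF : C ≤ stabilizer G F := hCS.trans hSF
  have hCF' : C ≤ stabilizer G F' := fun x hx =>
    mem_stab_of_commute (Subgroup.mem_centralizer_singleton_iff.1 hx.2)
  have hsmall : ∀ {i : ℕ}, 2 ^ i ∣ f.factorial → 2 ^ i ≤ 2 := by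
    intro i hi
    by_contra h
    have : 2 ≤ i := by
      by_contra h'
      exact h (le_trans (Nat.pow_le_pow_right two_pos (show i ≤ 1 by omega)) le_rfl)
    have h4 : 4 ∣ f.factorial := (pow_dvd_pow 2 this).trans hi
    interval_cases f <;> simp_all [Nat.factorial]
  obtain ⟨i, hi, hid⟩ := card_eq_kernel_mul (p := 2) (Set.toFinite F) hCp hCF
  obtain ⟨j, hj, hjd⟩ := card_eq_kernel_mul (p := 2) (Set.toFinite F') (hCp.to_le inf_le_left)
    ((inf_le_left : C ⊓ fixingSubgroup G F ≤ C).trans hCF')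
  rw [hFc] at hid
  rw [hFc'] at hjd
  have hbot : C ⊓ fixingSubgroup G F ⊓ fixingSubgroup G F' = ⊥ := by
    by_contra hne
    obtain ⟨w, hw, how⟩ := exists_orderOf_of_ne_bot (p := 2)
      ((hCp.to_le inf_le_left).to_le inf_le_left) hne
    have h1 := mem_pw_iff.1 hw.1.2
    have h2 := mem_pw_iff.1 hw.2
    have e1 : F = fixedBy Ω w :=
      Set.eq_of_subset_of_ncard_le h1 (by rw [hall w how, hFc]) (Set.toFinite _)
    have e2 : F' = fixedBy Ω w :=
      Set.eq_of_subset_of_ncard_le h2 (by rw [hall w how, hFc']) (Set.toFinite _)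
    exact hyF (e2.trans e1.symm)
  rw [hbot, Subgroup.card_bot, one_mul] at hj
  have hC4 : Nat.card C ≤ 4 := by
    rw [hi, hj]
    calc 2 ^ j * 2 ^ i ≤ 2 * 2 := Nat.mul_le_mul (hsmall hjd) (hsmall hid)
      _ = 4 := rfl
  have hzC : z ∈ C := ⟨hzS, Subgroup.mem_centralizer_singleton_iff.2 (hzc y hyS).symm⟩
  have hyC : y ∈ C := ⟨hyS, Subgroup.mem_centralizer_singleton_iff.2 rfl⟩
  have hzy : z ≠ y := fun h => hyF (by rw [hF', ← h])
  have hC : Nat.card C = 4 := by
    obtain ⟨k, hk⟩ := (IsPGroup.iff_card (p := 2)).1 hCp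
    have h3' : 3 ≤ Nat.card C := by
      classical
      haveI := Fintype.ofFinite C
      rw [Nat.card_eq_fintype_card]
      have hcard : ({1, ⟨z, hzC⟩, ⟨y, hyC⟩} : Finset C).card = 3 := by
        rw [Finset.card_insert_of_notMem, Finset.card_insert_of_notMem, Finset.card_singleton]
        · simp [hzy]
        · simp only [Finset.mem_insert, Finset.mem_singleton, Subtype.ext_iff, OneMemClass.coe_one]
          rintro (h | h)
          · rw [← h, orderOf_one] at hz; omega
          · rw [← h, orderOf_one] at hy; omega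
      rw [← hcard]
      exact Finset.card_le_univ _
    have hk2 : k = 2 := by
      rcases k with _ | _ | _ | k <;> simp_all [pow_succ]
      omega
    rw [hk, hk2]; norm_num
  have hsq : ∀ {v : G}, orderOf v = 2 → v * v = 1 := fun {v} hv => by
    rw [← pow_two, ← hv, pow_orderOf_eq_one]
  refine dihedral_or_semidihedral S.isPGroup' (C.subgroupOf S) ?_ ?_ (z := ⟨z, hzS⟩) (y := ⟨y, hyS⟩)
    (Subtype.ext (hsq hz)) (Subtype.ext (hsq hy)) ?_ ?_ ?_
  · rw [Nat.card_congr (Subgroup.subgroupOfEquivOfLe hCS).toEquiv, hC]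
  · ext ⟨x, hx⟩
    rw [Subgroup.mem_centralizer_iff, Subgroup.mem_subgroupOf]
    constructor
    · intro h
      refine ⟨hx, Subgroup.mem_centralizer_singleton_iff.2 ?_⟩
      exact (congrArg Subtype.val (h ⟨y, hyS⟩ hyC)).symm
    · rintro hxC ⟨w, hw⟩ hwC
      exact Subtype.ext (comm_of_card_sq (p := 2) (by rw [hC]; norm_num) (show w ∈ C from hwC) hxC)
  · intro h; rw [show z = 1 from congrArg Subtype.val h, orderOf_one] at hz; omega
  · intro h; rw [show y = 1 from congrArg Subtype.val h, orderOf_one] at hy; omega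
  · exact fun h => hzy (congrArg Subtype.val h)

end Cfsg.Agent.H19.Fixity
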